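import Cfsg.Agent.Omega.EH3.Basic
import Mathlib.LinearAlgebra.Matrix.GeneralLinearGroup.Card

/-!
# EH3: K-free consequences of the configuration (helper888)

* `exists_fix` : a 2-subgroup fixes a nonzero vector of every nonzero invariant subspace;
* `core` : `O_2(H) = 1`;
* `a_mem_of_inv`, `eq_top_of_off` : every nonzero `X`-invariant subspace contains `a`, an `X`-invariant subspace
  not contained in `a^⊥` is `V` (`V = F_2[X] c`);
* `stab` : the stabiliser of `a`; `mem_stab_iff_norm` : `N_H(X) = H_a`;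
* `syl`, `odd_index` : every 2-subgroup containing `X` fixes `a`; `|H : H_a|` is odd;
* `pow_four` : `g^4 = 1` for `g ∈ C_H(X)`; `isPGroup_cent`;
* `opp` : (OPP);
* `index_le` : (CNT) `|H : H_a| ≤ 2^(2w-1) + 2^(w-1) - 1`;
* `card_dvd` : (ARITH) `|H|` divides `|H : H_a| 2^k ∏_{i ≤ w-1} (2^i - 1)`.
-/

set_option autoImplicit false

namespace Cfsg.Agent.Omega.EH3

/-- the stabiliser of a vector -/
def stab {H V : Type*} [Group H] [AddCommGroup V] [Module (ZMod 2) V]
    (ρ : H →* (V ≃ₗ[ZMod 2] V)) (v : V) : Subgroup H where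
  carrier := {h | ρ h v = v}
  one_mem' := by show ρ 1 v = v; rw [map_one]; rfl
  mul_mem' := by
    intro g h hg hh
    show ρ (g * h) v = v
    have e : ρ (g * h) v = ρ g (ρ h v) := by rw [map_mul]; rfl
    rw [e]
    have h1 : ρ h v = v := hh
    rw [h1]; exact hg
  inv_mem' := by
    intro g hg
    show ρ g⁻¹ v = v
    have h1 : ρ g v = v := hg
    nth_rewrite 1 [← h1]
    have e : ρ g⁻¹ (ρ g v) = ρ (g⁻¹ * g) v := by rw [map_mul]; rfl
    rw [e, inv_mul_cancel, map_one]; rfl

theorem mem_stab {H V : Type*} [Group H] [AddCommGroup V] [Module (ZMod 2) V]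
    {ρ : H →* (V ≃ₗ[ZMod 2] V)} {v : V} {h : H} : h ∈ stab ρ v ↔ ρ h v = v := Iff.rfl

/-- a 2-subgroup fixes a nonzero vector in every nonzero invariant subspace -/
theorem exists_fix {H V : Type*} [Group H] [AddCommGroup V] [Module (ZMod 2) V] [Finite V]
    (ρ : H →* (V ≃ₗ[ZMod 2] V)) {P : Subgroup H} (hP : IsPGroup 2 P)
    {W : Submodule (ZMod 2) V} (hW : ∀ h ∈ P, ∀ v ∈ W, ρ h v ∈ W) (h0 : W ≠ ⊥) :
    ∃ v ∈ W, v ≠ 0 ∧ ∀ h ∈ P, ρ h v = v := by
  classical
  let act : MulAction P W :=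
    { smul := fun h v => ⟨ρ (h : H) v, hW h h.2 v v.2⟩
      one_smul := fun v => by
        apply Subtype.ext
        show ρ ((1 : P) : H) v = v
        rw [Subgroup.coe_one, map_one]; rfl
      mul_smul := fun g h v => by
        apply Subtype.ext
        show ρ ((g * h : P) : H) v = ρ (g : H) (ρ (h : H) v)
        rw [Subgroup.coe_mul, map_mul]; rfl }
  have hsm : ∀ (h : P) (v : W), ((h • v : W) : V) = ρ (h : H) v := fun _ _ => rfl
  have : Fact (Nat.Prime 2) := ⟨Nat.prime_two⟩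
  have h1 := hP.card_modEq_card_fixedPoints W
  have h2 : 2 ∣ Nat.card W := by
    have : Module.Finite (ZMod 2) W := Module.Finite.of_finite
    rw [Module.natCard_eq_pow_finrank (K := ZMod 2) (V := W), Nat.card_zmod]
    apply dvd_pow_self
    intro h3
    apply h0
    exact Submodule.finrank_eq_zero.1 h3
  have h3 : 2 ∣ Nat.card (MulAction.fixedPoints P W) := (h1.dvd_iff (dvd_refl 2)).1 h2
  have h0f : (0 : W) ∈ MulAction.fixedPoints P W := by
    intro h
    apply Subtype.ext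
    rw [hsm]
    simp
  have h4 : 1 < Nat.card (MulAction.fixedPoints P W) := by
    have h5 : 0 < Nat.card (MulAction.fixedPoints P W) := by
      have : Nonempty (MulAction.fixedPoints P W) := ⟨⟨0, h0f⟩⟩
      exact Nat.card_pos
    exact Nat.lt_of_lt_of_le (by norm_num) (Nat.le_of_dvd h5 h3)
  have : Nontrivial (MulAction.fixedPoints P W) := Finite.one_lt_card_iff_nontrivial.1 h4
  obtain ⟨⟨v, hv⟩, hne⟩ := exists_ne (⟨0, h0f⟩ : MulAction.fixedPoints P W)
  refine ⟨v, v.2, ?_, ?_⟩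
  · intro h
    apply hne
    apply Subtype.ext
    exact Subtype.ext h
  · intro h hh
    exact congrArg Subtype.val (hv ⟨h, hh⟩)

namespace Cfg

variable {H V : Type*} [Group H] [AddCommGroup V] [Module (ZMod 2) V]
  {ρ : H →* (V ≃ₗ[ZMod 2] V)} {b : LinearMap.BilinForm (ZMod 2) V} {q : V → ZMod 2}
  {a : V} {D : Submodule (ZMod 2) V} {X : Subgroup H} {w : ℕ}

theorem nontrivial_V (C : Cfg ρ b q a D X w) : Nontrivial V := ⟨a, 0, C.a_ne⟩

theorem isPGroup_X (C : Cfg ρ b q a D X w) : IsPGroup 2 X := by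
  intro x
  refine ⟨1, ?_⟩
  apply Subtype.ext
  show (x : H) ^ (2 ^ 1) = 1
  rw [pow_one, pow_two]
  exact C.X_sq x x.2

/-- the fixed vectors of a subgroup -/
def fixV (_C : Cfg ρ b q a D X w) (N : Subgroup H) : Submodule (ZMod 2) V where
  carrier := {v | ∀ n ∈ N, ρ n v = v}
  zero_mem' := fun n _ => map_zero _
  add_mem' := fun hu hv n hn => by rw [map_add, hu n hn, hv n hn]
  smul_mem' := fun k v hv n hn => by rw [map_smul, hv n hn]

theorem mem_fixV (C : Cfg ρ b q a D X w) {N : Subgroup H} {v : V} :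
    v ∈ C.fixV N ↔ ∀ n ∈ N, ρ n v = v := Iff.rfl

/-- `O_2(H) = 1` -/
theorem core (C : Cfg ρ b q a D X w) {N : Subgroup H} (hN : N.Normal) (h2 : IsPGroup 2 N) :
    N = ⊥ := by
  have := C.finite_V
  have := C.nontrivial_V
  obtain ⟨v, -, hv0, hv⟩ := exists_fix ρ h2 (W := ⊤) (fun _ _ _ _ => trivial) top_ne_bot
  have hinv : ∀ h, ∀ u ∈ C.fixV N, ρ h u ∈ C.fixV N := by
    intro h u hu n hn
    have h1 := hu _ (hN.conj_mem n hn h⁻¹)
    have h2 : ρ (h * (h⁻¹ * n * h⁻¹⁻¹)) u = ρ (n * h) u := by congr 2; group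
    rw [← C.ρ_mul, ← h2, C.ρ_mul, h1]
  rcases C.irr _ hinv with h | h
  · exfalso
    apply hv0
    have : v ∈ C.fixV N := hv
    rw [h] at this
    exact this
  · rw [eq_bot_iff]
    intro n hn
    rw [Subgroup.mem_bot]
    apply C.ext
    intro u
    have : u ∈ C.fixV N := by rw [h]; trivial
    rw [this n hn, C.ρ_one]

/-- every nonzero `X`-invariant subspace contains `a` -/
theorem a_mem_of_inv (C : Cfg ρ b q a D X w) {W : Submodule (ZMod 2) V}
    (hW : ∀ x ∈ X, ∀ v ∈ W, ρ x v ∈ W) (h0 : W ≠ ⊥) : a ∈ W := by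
  have := C.finite_V
  obtain ⟨v, hv, hv0, hvf⟩ := exists_fix ρ C.isPGroup_X hW h0
  rcases C.fix_X hvf with h | h
  · exact absurd h hv0
  · rw [← h]; exact hv

/-- an `X`-invariant subspace with a vector off `a^⊥` is `V` -/
theorem eq_top_of_off (C : Cfg ρ b q a D X w) {W : Submodule (ZMod 2) V}
    (hW : ∀ x ∈ X, ∀ v ∈ W, ρ x v ∈ W) {c : V} (hc : b a c = 1) (hcW : c ∈ W) : W = ⊤ := by
  by_contra hne
  have h1 : b.orthogonal W ≠ ⊥ := by
    intro h
    apply hne
    rw [← C.perp_perp W, h, eq_top_iff]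
    intro v _
    rw [C.mem_perp]
    intro u hu
    rw [Submodule.mem_bot] at hu
    rw [hu, map_zero, LinearMap.zero_apply]
  have h2 : a ∈ b.orthogonal W := by
    apply C.a_mem_of_inv _ h1
    intro x hx v hv
    rw [C.mem_perp] at hv ⊢
    intro u hu
    have := hv (ρ x⁻¹ u) (hW _ (X.inv_mem hx) u hu)
    rw [← C.b_inv x, C.ρ_apply_inv] at this
    exact this
  rw [C.mem_perp] at h2
  have := h2 c hcW
  rw [C.b_comm, hc] at this
  exact one_ne_zero this

/-- `N_H(X) ≤ H_a` -/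
theorem stab_of_norm (C : Cfg ρ b q a D X w) {h : H} (hh : ∀ x ∈ X, h * x * h⁻¹ ∈ X) :
    ρ h a = a := by
  have hfin := C.finite_H
  have h1 : ∀ x ∈ X, h⁻¹ * x * h ∈ X := by
    have hm : h ∈ Subgroup.normalizer (X : Set H) :=
      Subgroup.mem_normalizer_fintype (S := (X : Set H)) hh
    intro x hx
    exact (Subgroup.mem_normalizer_iff''.1 hm x).1 hx
  rcases C.fix_X (v := ρ h a) (fun x hx => by
    have h2 := C.X_a (h1 x hx)
    have e : ρ (h * (h⁻¹ * x * h)) a = ρ (x * h) a := by congr 2; group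
    rw [← C.ρ_mul, ← e, C.ρ_mul, h2]) with h2 | h2
  · exfalso
    apply C.a_ne
    apply C.ρ_inj h
    rw [h2, map_zero]
  · exact h2

/-- `N_H(X) = H_a` -/
theorem mem_stab_iff_norm (C : Cfg ρ b q a D X w) {h : H} :
    h ∈ stab ρ a ↔ h ∈ Subgroup.normalizer (X : Set H) := by
  have hfin := C.finite_H
  constructor
  · intro h1
    exact Subgroup.mem_normalizer_fintype (S := (X : Set H)) (C.X_norm h h1)
  · intro h1
    exact C.stab_of_norm fun x hx => (Subgroup.mem_normalizer_iff.1 h1 x).1 hx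

theorem stab_eq (C : Cfg ρ b q a D X w) : stab ρ a = Subgroup.normalizer (X : Set H) :=
  Subgroup.ext fun _ => C.mem_stab_iff_norm

theorem X_le_stab (C : Cfg ρ b q a D X w) : X ≤ stab ρ a := fun _ hx => C.X_a hx

/-- every 2-subgroup containing `X` fixes `a` -/
theorem syl (C : Cfg ρ b q a D X w) {P : Subgroup H} (hP : IsPGroup 2 P) (hX : X ≤ P) :
    P ≤ stab ρ a := by
  have := C.finite_V
  have := C.nontrivial_V
  obtain ⟨v, -, hv0, hv⟩ := exists_fix ρ hP (W := ⊤) (fun _ _ _ _ => trivial) top_ne_bot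
  rcases C.fix_X (v := v) (fun x hx => hv x (hX hx)) with h | h
  · exact absurd h hv0
  · intro p hp
    have := hv p hp
    rw [h] at this
    exact this

/-- `H_a` contains a Sylow 2-subgroup of `H` containing `X` -/
theorem exists_syl (C : Cfg ρ b q a D X w) :
    ∃ T : Sylow 2 H, X ≤ T ∧ (T : Subgroup H) ≤ stab ρ a := by
  have := C.finite_H
  obtain ⟨T, hT⟩ := C.isPGroup_X.exists_le_sylow
  exact ⟨T, hT, C.syl T.isPGroup' hT⟩

theorem odd_index (C : Cfg ρ b q a D X w) : Odd (stab ρ a).index := by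
  have hfin := C.finite_H
  have : Fact (Nat.Prime 2) := ⟨Nat.prime_two⟩
  obtain ⟨T, -, hT⟩ := C.exists_syl
  rw [← Nat.not_even_iff_odd, even_iff_two_dvd]
  intro h
  have h1 : (stab ρ a).index ∣ (T : Subgroup H).index := Subgroup.index_dvd_of_le hT
  exact T.not_dvd_index (h.trans h1)

/-- every Sylow 2-subgroup of `H` contained in `H_a` contains `X` -/
theorem X_le_syl (C : Cfg ρ b q a D X w) (T : Sylow 2 H) (hT : (T : Subgroup H) ≤ stab ρ a) :
    X ≤ T := by
  have hfin := C.finite_H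
  -- `X T` is a 2-group
  have h1 : IsPGroup 2 (X ⊔ (T : Subgroup H) : Subgroup H) := by
    have hle : (T : Subgroup H) ≤ Subgroup.normalizer (X : Set H) := by
      rw [← C.stab_eq]; exact hT
    exact IsPGroup.to_sup_of_normal_left' C.isPGroup_X T.isPGroup' hle
  have h2 := T.is_maximal' h1 le_sup_right
  rw [← h2]
  exact le_sup_left

/-! ### the centraliser of `X` -/

section cent

variable {g : H}

theorem cent_a (C : Cfg ρ b q a D X w) (hg : ∀ x ∈ X, g * x = x * g) : ρ g a = a :=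
  C.stab_of_norm fun x hx => by rw [hg x hx, mul_assoc, mul_inv_cancel, mul_one]; exact hx

theorem cent_D (C : Cfg ρ b q a D X w) (hg : ∀ x ∈ X, g * x = x * g) {d : V} (hd : d ∈ D) :
    ρ g d + d = 0 ∨ ρ g d + d = a := by
  apply C.fix_X
  intro x hx
  have h1 : ρ x (ρ g d) = ρ g (ρ x d) := by rw [← C.ρ_mul, ← C.ρ_mul, hg x hx]
  obtain ⟨k, hk⟩ := C.X_D' hx hd
  have h2 : ρ x d = d + k • a := by
    rw [← hk]
    have : d + (ρ x d + d) = ρ x d + (d + d) := by abel
    rw [this, C.add_self, add_zero]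
  rw [map_add, h1, h2, map_add, map_smul, C.cent_a hg]
  have : ρ g d + k • a + (d + k • a) = ρ g d + d + (k • a + k • a) := by abel
  rw [this, C.add_self, add_zero]

theorem cent_perp (C : Cfg ρ b q a D X w) (hg : ∀ x ∈ X, g * x = x * g) {v : V}
    (hv : b a v = 0) : ρ g v + v ∈ D := by
  obtain ⟨c, hc⟩ := C.exists_off
  obtain ⟨x, hx⟩ := C.exists_bel hc hv
  have hc' : b a (ρ g c) = 1 := by rw [C.b_a_ρ (C.cent_a hg)]; exact hc
  have h1 := (hx.indep hc hc').2
  -- `x (g c) + g c + g v = g (x c + c + v) ∈ D`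
  have h2 := C.D_inv g (C.cent_a hg) _ hx.2
  have e : ρ g (ρ x c + c + v) = ρ x (ρ g c) + ρ g c + ρ g v := by
    rw [map_add, map_add, ← C.ρ_mul, hg x hx.1, C.ρ_mul]
  rw [e] at h2
  have h3 := D.add_mem h1 h2
  have e2 : ρ x (ρ g c) + ρ g c + v + (ρ x (ρ g c) + ρ g c + ρ g v) =
      ρ g v + v + ((ρ x (ρ g c) + ρ x (ρ g c)) + (ρ g c + ρ g c)) := by abel
  rw [e2, C.add_self, C.add_self, add_zero, add_zero] at h3
  exact h3

/-- elements centralising `X` have order dividing 4 -/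
theorem pow_four (C : Cfg ρ b q a D X w) (hg : ∀ x ∈ X, g * x = x * g) : g ^ 4 = 1 := by
  have ha := C.cent_a hg
  have hsq : ∀ v, ρ (g * g) v + v = ρ g (ρ g v + v) + (ρ g v + v) := by
    intro v
    rw [C.ρ_mul, map_add]
    have : ρ g (ρ g v) + ρ g v + (ρ g v + v) = ρ g (ρ g v) + v + (ρ g v + ρ g v) := by abel
    rw [this, C.add_self, add_zero]
  -- `[V, g, g] ≤ D`, `[D, g, g] = 0`
  have h1 : ∀ v, ρ (g * g) v + v ∈ D := by
    intro v
    rw [hsq]
    exact C.cent_perp hg (C.b_a_delta ha v)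
  have h2 : ∀ d ∈ D, ρ (g * g) d + d = 0 := by
    intro d hd
    rw [hsq]
    rcases C.cent_D hg hd with h | h
    · rw [h, map_zero, add_zero]
    · rw [h, ha, C.add_self]
  have h3 : (g * g) * (g * g) = 1 := by
    apply C.ext
    intro v
    rw [C.ρ_one, C.ρ_mul]
    have h4 := h2 _ (h1 v)
    rw [map_add] at h4
    have e : ρ (g * g) (ρ (g * g) v) + ρ (g * g) v + (ρ (g * g) v + v) =
      ρ (g * g) (ρ (g * g) v) + v + (ρ (g * g) v + ρ (g * g) v) := by abel
    rw [e, C.add_self, add_zero] at h4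
    exact C.add_eq_zero.1 h4
  rw [show g ^ 4 = (g * g) * (g * g) by simp only [pow_succ, pow_zero, one_mul, mul_assoc]]
  exact h3

/-- `C_H(X)` is a 2-group -/
theorem isPGroup_cent (C : Cfg ρ b q a D X w) :
    IsPGroup 2 (Subgroup.centralizer (X : Set H)) := by
  intro g
  refine ⟨2, ?_⟩
  apply Subtype.ext
  show (g : H) ^ (2 ^ 2) = 1
  exact C.pow_four fun x hx => (Subgroup.mem_centralizer_iff.1 g.2 x hx).symm

end cent

/-! ### opposite points -/

/-- (OPP): only `1 ∈ X` fixes a point off `a^⊥` -/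
theorem opp (C : Cfg ρ b q a D X w) {x : H} (hx : x ∈ X) {v : V} (hv : b a v = 1)
    (h : ρ x v = v) : x = 1 := C.X_semi x hx v hv (by rw [h, C.add_self]; exact D.zero_mem)

theorem opp_inter (C : Cfg ρ b q a D X w) {h x : H} (hh : b a (ρ h a) = 1) (hx : x ∈ X)
    (hx' : h⁻¹ * x * h ∈ X) : x = 1 := by
  apply C.opp hx hh
  have h2 := C.X_a hx'
  have e : ρ (h * (h⁻¹ * x * h)) a = ρ (x * h) a := by congr 2; group
  rw [← C.ρ_mul, ← e, C.ρ_mul, h2]

/-- there are opposite points -/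
theorem exists_opp (C : Cfg ρ b q a D X w) : ∃ h, b a (ρ h a) = 1 := by
  by_contra hcon
  push Not at hcon
  have h0 : ∀ h, b a (ρ h a) = 0 := fun h => by
    rcases zmod_two (b a (ρ h a)) with h1 | h1
    · exact h1
    · exact absurd h1 (hcon h)
  let W := Submodule.span (ZMod 2) (Set.range fun h => ρ h a)
  have hW : ∀ h, ∀ v ∈ W, ρ h v ∈ W := by
    intro h v hv
    induction hv using Submodule.span_induction with
    | mem x hx =>
      obtain ⟨k, rfl⟩ := hx
      exact Submodule.subset_span ⟨h * k, C.ρ_mul h k a⟩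
    | zero => rw [map_zero]; exact W.zero_mem
    | add x y _ _ h1 h2 => rw [map_add]; exact W.add_mem h1 h2
    | smul k x _ h1 => rw [map_smul]; exact W.smul_mem _ h1
  have haW : a ∈ W := Submodule.subset_span ⟨1, C.ρ_one a⟩
  rcases C.irr W hW with h | h
  · rw [h] at haW
    exact C.a_ne haW
  · obtain ⟨c, hc⟩ := C.exists_off
    have hcW : c ∈ W := by rw [h]; trivial
    have : ∀ v ∈ W, b a v = 0 := by
      intro v hv
      induction hv using Submodule.span_induction with
      | mem x hx =>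
        obtain ⟨k, rfl⟩ := hx
        exact h0 k
      | zero => rw [map_zero]
      | add x y _ _ h1 h2 => rw [map_add, h1, h2, add_zero]
      | smul k x _ h1 => rw [map_smul, h1, smul_zero]
    rw [this c hcW] at hc
    exact zero_ne_one hc

/-- the conjugates of `a` span `V` -/
theorem span_orbit (C : Cfg ρ b q a D X w) :
    Submodule.span (ZMod 2) (Set.range fun h => ρ h a) = ⊤ := by
  have hW : ∀ h, ∀ v ∈ Submodule.span (ZMod 2) (Set.range fun h => ρ h a),
      ρ h v ∈ Submodule.span (ZMod 2) (Set.range fun h => ρ h a) := by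
    intro h v hv
    induction hv using Submodule.span_induction with
    | mem x hx =>
      obtain ⟨k, rfl⟩ := hx
      exact Submodule.subset_span ⟨h * k, C.ρ_mul h k a⟩
    | zero => rw [map_zero]; exact Submodule.zero_mem _
    | add x y _ _ h1 h2 => rw [map_add]; exact Submodule.add_mem _ h1 h2
    | smul k x _ h1 => rw [map_smul]; exact Submodule.smul_mem _ _ h1
  rcases C.irr _ hW with h | h
  · exfalso
    have haW : a ∈ Submodule.span (ZMod 2) (Set.range fun h => ρ h a) :=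
      Submodule.subset_span ⟨1, C.ρ_one a⟩
    rw [h] at haW
    exact C.a_ne haW
  · exact h

end Cfg

end Cfsg.Agent.Omega.EH3
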