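import Mathlib.LinearAlgebra.Basis.VectorSpace
import Mathlib.LinearAlgebra.FreeModule.Finite.Matrix
import Mathlib.LinearAlgebra.Dimension.Free
import Mathlib.Data.ZMod.Basic
import Mathlib.Tactic

/-!
# An alternating trilinear form on a space of dimension at most 4 has a radical
-/

set_option autoImplicit false

namespace Cfsg.Agent.Omega.EH3.TriFour

open Module

variable {E : Type*} [AddCommGroup E] [Module (ZMod 2) E]

/-- alternating trilinear -/
structure IsAlt (T : E →ₗ[ZMod 2] E →ₗ[ZMod 2] E →ₗ[ZMod 2] ZMod 2) : Prop where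
  ab : ∀ x t, T x x t = 0
  bc : ∀ x t, T x t t = 0

variable {T : E →ₗ[ZMod 2] E →ₗ[ZMod 2] E →ₗ[ZMod 2] ZMod 2}

theorem IsAlt.swap_ab (h : IsAlt T) (x y t : E) : T y x t = T x y t := by
  have h1 := h.ab (x + y) t
  simp only [map_add, LinearMap.add_apply, h.ab, zero_add, add_zero] at h1
  have h2 : T x y t = - T y x t := eq_neg_of_add_eq_zero_right (by simpa [add_comm] using h1)
  rw [h2]
  generalize T y x t = c
  revert c
  decide

theorem IsAlt.swap_bc (h : IsAlt T) (x y t : E) : T x t y = T x y t := by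
  have h1 := h.bc x (y + t)
  simp only [map_add, LinearMap.add_apply, h.bc, zero_add, add_zero] at h1
  have h2 : T x y t = - T x t y := eq_neg_of_add_eq_zero_right (by simpa [add_comm] using h1)
  rw [h2]
  generalize T x t y = c
  revert c
  decide

theorem IsAlt.ac (h : IsAlt T) (x y : E) : T x y x = 0 := by
  rw [h.swap_bc, h.ab]

/-- **dimension 4** -/
theorem exists_rad_four (h : IsAlt T) (e : Basis (Fin 4) (ZMod 2) E) : ∃ x : E, x ≠ 0 ∧ T x = 0 := by
  set p := T (e 1) (e 2) (e 3) with hp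
  set q := T (e 0) (e 2) (e 3) with hq
  set r := T (e 0) (e 1) (e 3) with hr
  set s := T (e 0) (e 1) (e 2) with hs
  have e102 : T (e 1) (e 0) (e 2) = s := h.swap_ab _ _ _
  have e103 : T (e 1) (e 0) (e 3) = r := h.swap_ab _ _ _
  have e203 : T (e 2) (e 0) (e 3) = q := h.swap_ab _ _ _
  have e213 : T (e 2) (e 1) (e 3) = p := h.swap_ab _ _ _
  have e201 : T (e 2) (e 0) (e 1) = s := by rw [h.swap_ab, h.swap_bc]
  have e301 : T (e 3) (e 0) (e 1) = r := by rw [h.swap_ab, h.swap_bc]
  have e302 : T (e 3) (e 0) (e 2) = q := by rw [h.swap_ab, h.swap_bc]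
  have e312 : T (e 3) (e 1) (e 2) = p := by rw [h.swap_ab, h.swap_bc]
  have key : ∀ x : E, T x (e 0) (e 1) = 0 → T x (e 0) (e 2) = 0 → T x (e 0) (e 3) = 0 → T x (e 1) (e 2) = 0 →
      T x (e 1) (e 3) = 0 → T x (e 2) (e 3) = 0 → T x = 0 := by
    intro x h01 h02 h03 h12 h13 h23
    have g01 : T x (e 1) (e 0) = 0 := by rw [h.swap_bc]; exact h01
    have g02 : T x (e 2) (e 0) = 0 := by rw [h.swap_bc]; exact h02
    have g03 : T x (e 3) (e 0) = 0 := by rw [h.swap_bc]; exact h03
    have g12 : T x (e 2) (e 1) = 0 := by rw [h.swap_bc]; exact h12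
    have g13 : T x (e 3) (e 1) = 0 := by rw [h.swap_bc]; exact h13
    have g23 : T x (e 3) (e 2) = 0 := by rw [h.swap_bc]; exact h23
    refine e.ext fun i => e.ext fun j => ?_
    fin_cases i <;> fin_cases j <;> simp_all [h.bc]
  by_cases h0 : p = 0 ∧ q = 0 ∧ r = 0 ∧ s = 0
  · obtain ⟨h1, h2, h3, h4⟩ := h0
    refine ⟨e 0, e.ne_zero 0, key _ ?_ ?_ ?_ ?_ ?_ ?_⟩
    · exact h.ab _ _
    · exact h.ab _ _
    · exact h.ab _ _
    · exact h4
    · exact h3
    · exact h2
  · refine ⟨p • e 0 + q • e 1 + r • e 2 + s • e 3, ?_, key _ ?_ ?_ ?_ ?_ ?_ ?_⟩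
    · intro hv
      apply h0
      have h1 := fun i => congrArg (fun v => e.repr v i) hv
      have h10 := h1 0
      have h11 := h1 1
      have h12 := h1 2
      have h13 := h1 3
      simp at h10 h11 h12 h13
      exact ⟨h10, h11, h12, h13⟩
    all_goals
      simp only [map_add, map_smul, LinearMap.add_apply, LinearMap.smul_apply, h.ab, h.ac, h.bc, e102, e103, e203,
        e213, e201, e301, e302, e312, ← hp, ← hq, ← hr, ← hs, smul_zero, zero_add, add_zero, smul_eq_mul]
    all_goals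
      generalize p = p', q = q', r = r', s = s'
      revert p' q' r' s'
      decide

end Cfsg.Agent.Omega.EH3.TriFour
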