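import Cfsg.Agent.Omega.EH3.Cfg
import Cfsg.Agent.Omega.EH3.TriFour
import Mathlib.LinearAlgebra.BilinearForm.Orthogonal
import Mathlib.Algebra.Module.ZMod
import Mathlib.FieldTheory.Finiteness

/-!
# The trilinear form of the configuration of EH3

For `b a c = 1` put `sig x = ρ x c + c` (`x ∈ X`), `del x y = ρ y (sig x) + sig x ∈ D` and
`tri x y t = b (del x y) (sig t)`.

* `mem_D_of_perp_D` : `D^⊥ = D`; `exists_sig` : every `v ∈ a^⊥` is `sig x` modulo `D`;
* `tri` is trilinear (`tri_mul_*`), alternating and nondegenerate (`exists_tri`);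
* `six` : `6 ≤ w`.
-/

set_option autoImplicit false

namespace Cfsg.Agent.Omega.EH3

namespace Cfg

open Module

variable {H V : Type*} [Group H] [AddCommGroup V] [Module (ZMod 2) V]
  {ρ : H →* (V ≃ₗ[ZMod 2] V)} {b : LinearMap.BilinForm (ZMod 2) V} {q : V → ZMod 2}
  {a : V} {D : Submodule (ZMod 2) V} {X : Subgroup H} {w : ℕ}

theorem finrank_V (C : Cfg ρ b q a D X w) : finrank (ZMod 2) V = 2 * w := by
  have := C.finite_V
  have h1 := Module.natCard_eq_pow_finrank (K := ZMod 2) (V := V)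
  rw [C.card_V, Nat.card_zmod] at h1
  exact (Nat.pow_right_injective le_rfl h1).symm

theorem finrank_D (C : Cfg ρ b q a D X w) : finrank (ZMod 2) D = w := by
  have := C.finite_V
  have h1 := Module.natCard_eq_pow_finrank (K := ZMod 2) (V := D)
  rw [C.card_D, Nat.card_zmod] at h1
  exact (Nat.pow_right_injective le_rfl h1).symm

theorem b_refl (C : Cfg ρ b q a D X w) : b.IsRefl := fun u v h => by rw [C.b_comm, h]

theorem b_nondeg (C : Cfg ρ b q a D X w) : b.Nondegenerate := by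
  have := C.finite_V
  refine ⟨fun v hv => C.nondeg v hv, fun v hv => C.nondeg v fun u => ?_⟩
  rw [C.b_comm]
  exact hv u

/-- `D^⊥ = D` -/
theorem mem_D_of_perp_D (C : Cfg ρ b q a D X w) {v : V} (h : ∀ d ∈ D, b d v = 0) : v ∈ D := by
  have := C.finite_V
  have hle : D ≤ b.orthogonal D := fun d hd e he => C.b_D he hd
  have h1 : finrank (ZMod 2) (b.orthogonal D) = 2 * w - w := by
    rw [LinearMap.BilinForm.finrank_orthogonal C.b_nondeg, C.finrank_V, C.finrank_D]
  have h2 : D = b.orthogonal D := Submodule.eq_of_le_of_finrank_eq hle (by rw [h1, C.finrank_D]; omega)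
  rw [h2]
  exact h

/-- `sig x = [c, x]` -/
def sig (ρ : H →* (V ≃ₗ[ZMod 2] V)) (c : V) (x : H) : V := ρ x c + c

/-- `del x y = [c, x, y]` -/
def del (ρ : H →* (V ≃ₗ[ZMod 2] V)) (c : V) (x y : H) : V := ρ y (sig ρ c x) + sig ρ c x

/-- the trilinear form -/
def tri (ρ : H →* (V ≃ₗ[ZMod 2] V)) (b : LinearMap.BilinForm (ZMod 2) V) (c : V) (x y t : H) : ZMod 2 :=
  b (del ρ c x y) (sig ρ c t)

variable {c : V} {x x' y y' t t' : H}

theorem b_a_sig (C : Cfg ρ b q a D X w) (hx : x ∈ X) (c : V) : b a (sig ρ c x) = 0 :=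
  C.b_a_delta (C.X_a hx) c

theorem del_mem (C : Cfg ρ b q a D X w) (hx : x ∈ X) (hy : y ∈ X) (c : V) : del ρ c x y ∈ D :=
  C.X_perp y hy _ (C.b_a_sig hx c)

theorem sig_mul (C : Cfg ρ b q a D X w) (c : V) (x y : H) :
    sig ρ c (x * y) = sig ρ c x + sig ρ c y + del ρ c y x := by
  unfold del sig
  rw [C.ρ_mul, map_add]
  have h1 := C.add_self c
  have h2 := C.add_self (ρ y c)
  have h3 := C.add_self (ρ x c)
  have : ρ x c + c + (ρ y c + c) + (ρ x (ρ y c) + ρ x c + (ρ y c + c)) =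
      ρ x (ρ y c) + c + ((c + c) + (ρ y c + ρ y c) + (ρ x c + ρ x c)) := by abel
  rw [this, h1, h2, h3]
  simp

theorem del_comm (C : Cfg ρ b q a D X w) (hx : x ∈ X) (hy : y ∈ X) (c : V) : del ρ c x y = del ρ c y x := by
  have h1 := C.sig_mul c x y
  rw [C.X_comm hx hy, C.sig_mul, add_comm (sig ρ c y)] at h1
  exact (add_left_cancel h1)

theorem del_self (C : Cfg ρ b q a D X w) (hx : x ∈ X) (c : V) : del ρ c x x = 0 := by
  unfold del sig
  rw [C.X_fix_delta hx, C.add_self]

/-- the functional of `x` on `D` is `b (sig x)` -/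
theorem X_D_eq (C : Cfg ρ b q a D X w) (hc : b a c = 1) (hx : x ∈ X) {d : V} (hd : d ∈ D) :
    ρ x d = d + b d (sig ρ c x) • a := by
  have h1 : b (ρ x d + d) c = b d (sig ρ c x) := by
    have h2 : b (ρ x d) c = b d (ρ x c) := by
      nth_rewrite 1 [← C.ρ_inv_apply x c]
      rw [C.X_inv hx, C.b_inv]
    rw [map_add, LinearMap.add_apply, h2]
    unfold sig
    rw [map_add]
  rcases C.X_D x hx d hd with h | h
  · rw [h, C.add_self, map_zero, LinearMap.zero_apply] at h1
    rw [h, ← h1, zero_smul, add_zero]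
  · rw [h, add_assoc, add_comm a d, ← add_assoc, C.add_self, zero_add, hc] at h1
    rw [h, ← h1, one_smul]

/-- `X` maps onto `a^⊥/D` -/
theorem exists_sig (C : Cfg ρ b q a D X w) (hc : b a c = 1) {v : V} (hv : b a v = 0) :
    ∃ x ∈ X, v + sig ρ c x ∈ D := by
  obtain ⟨x, hx, hxd⟩ := C.X_all (b v) (by rw [C.b_comm]; exact hv)
  refine ⟨x, hx, C.mem_D_of_perp_D fun d hd => ?_⟩
  have h1 := C.X_D_eq hc hx hd
  rw [hxd d hd] at h1
  have h2 := add_left_cancel h1
  rw [map_add, C.b_comm d v]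
  rcases zmod_two (b v d) with h3 | h3 <;> rcases zmod_two (b d (sig ρ c x)) with h4 | h4 <;>
    rw [h3, h4] at h2 ⊢
  · rfl
  · rw [zero_smul, one_smul] at h2
    exact absurd h2.symm C.a_ne
  · rw [zero_smul, one_smul] at h2
    exact absurd h2 C.a_ne
  · decide

theorem tri_mul_three (C : Cfg ρ b q a D X w) (c : V) (hx : x ∈ X) (hy : y ∈ X) (ht : t ∈ X) (ht' : t' ∈ X) :
    tri ρ b c x y (t * t') = tri ρ b c x y t + tri ρ b c x y t' := by
  unfold tri
  rw [C.sig_mul, map_add, map_add, C.b_D (C.del_mem hx hy c) (C.del_mem ht' ht c), add_zero]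

theorem tri_mul_two (C : Cfg ρ b q a D X w) (c : V) (hx : x ∈ X) (hy : y ∈ X) (hy' : y' ∈ X) (ht : t ∈ X) :
    tri ρ b c x (y * y') t = tri ρ b c x y t + tri ρ b c x y' t := by
  have h1 : del ρ c x (y * y') = ρ y (del ρ c x y') + del ρ c x y := by
    unfold del
    rw [C.ρ_mul, map_add]
    have h2 := C.add_self (ρ y (sig ρ c x))
    have : ρ y (ρ y' (sig ρ c x)) + ρ y (sig ρ c x) + (ρ y (sig ρ c x) + sig ρ c x) =
        ρ y (ρ y' (sig ρ c x)) + sig ρ c x + (ρ y (sig ρ c x) + ρ y (sig ρ c x)) := by abel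
    rw [this, h2, add_zero]
  unfold tri
  rw [h1]
  rcases C.X_D y hy _ (C.del_mem hx hy' c) with h | h
  · rw [h, map_add, LinearMap.add_apply, add_comm]
  · rw [h, map_add, map_add, LinearMap.add_apply, LinearMap.add_apply, C.b_a_sig ht, add_zero, add_comm]

theorem tri_swap (C : Cfg ρ b q a D X w) (c : V) (hx : x ∈ X) (hy : y ∈ X) (t : H) :
    tri ρ b c x y t = tri ρ b c y x t := by
  unfold tri
  rw [C.del_comm hx hy]

theorem tri_mul_one (C : Cfg ρ b q a D X w) (c : V) (hx : x ∈ X) (hx' : x' ∈ X) (hy : y ∈ X) (ht : t ∈ X) :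
    tri ρ b c (x * x') y t = tri ρ b c x y t + tri ρ b c x' y t := by
  rw [C.tri_swap c (X.mul_mem hx hx') hy, C.tri_mul_two c hy hx hx' ht, C.tri_swap c hy hx, C.tri_swap c hy hx']

theorem tri_self (C : Cfg ρ b q a D X w) (c : V) (hx : x ∈ X) (t : H) : tri ρ b c x x t = 0 := by
  unfold tri
  rw [C.del_self hx, map_zero, LinearMap.zero_apply]

theorem tri_self' (C : Cfg ρ b q a D X w) (c : V) (x : H) (hy : y ∈ X) : tri ρ b c x y y = 0 := by
  have e1 : b (ρ y (sig ρ c x)) (ρ y c) = b (sig ρ c x) c := C.b_inv y _ _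
  have e2 : b (sig ρ c x) (ρ y c) = b (ρ y (sig ρ c x)) c := by
    have h := C.b_inv y (ρ y (sig ρ c x)) c
    rwa [← C.ρ_mul, C.X_sq y hy, C.ρ_one] at h
  show b (ρ y (sig ρ c x) + sig ρ c x) (ρ y c + c) = 0
  rw [map_add, map_add, LinearMap.add_apply, LinearMap.add_apply, e1, e2]
  generalize b (sig ρ c x) c = r
  generalize b (ρ y (sig ρ c x)) c = s
  revert r s
  decide

/-- **the trilinear form is nondegenerate** -/
theorem exists_tri (C : Cfg ρ b q a D X w) (hc : b a c = 1) (hx : x ∈ X) (hx1 : x ≠ 1) :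
    ∃ y ∈ X, ∃ t ∈ X, tri ρ b c x y t ≠ 0 := by
  obtain ⟨v, hv, h1, h2⟩ := C.X_T x hx hx1
  obtain ⟨y, hy, hyd⟩ := C.exists_sig hc hv
  refine ⟨y, hy, ?_⟩
  by_contra hcon
  push Not at hcon
  -- `del x y` is perpendicular to `a^⊥`
  have h3 : ∀ u, b a u = 0 → b (del ρ c x y) u = 0 := by
    intro u hu
    obtain ⟨t, ht, htd⟩ := C.exists_sig hc hu
    have h4 := C.b_D (C.del_mem hx hy c) htd
    rw [map_add, show b (del ρ c x y) (sig ρ c t) = 0 from hcon t ht, add_zero] at h4
    exact h4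
  have h4 : del ρ c x y = 0 ∨ del ρ c x y = a := by
    rcases zmod_two (b (del ρ c x y) c) with h5 | h5
    · left
      apply C.nondeg
      intro u
      rcases zmod_two (b a u) with h6 | h6
      · exact h3 u h6
      · have h7 := h3 (u + c) (by rw [map_add, h6, hc]; decide)
        rw [map_add, h5, add_zero] at h7
        exact h7
    · right
      rw [← C.add_eq_zero]
      apply C.nondeg
      intro u
      rw [map_add, LinearMap.add_apply]
      rcases zmod_two (b a u) with h6 | h6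
      · rw [h3 u h6, h6, add_zero]
      · have h7 := h3 (u + c) (by rw [map_add, h6, hc]; decide)
        rw [map_add, h5] at h7
        rw [h6]
        exact h7
  -- `ρ x v + v` is `del y x` up to `a`
  have h5 : ρ x v + v = del ρ c y x ∨ ρ x v + v = del ρ c y x + a := by
    have h6 : ρ x v + v + del ρ c y x = ρ x (v + sig ρ c y) + (v + sig ρ c y) := by
      unfold del
      rw [map_add]
      abel
    rcases C.X_D x hx _ hyd with h7 | h7
    · left
      rw [h7, C.add_self] at h6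
      exact C.add_eq_zero.mp h6
    · right
      have h9 : v + sig ρ c y + a + (v + sig ρ c y) = (v + sig ρ c y) + (v + sig ρ c y) + a := by abel
      rw [h7, h9, C.add_self, zero_add] at h6
      have h8 := C.add_add_self (ρ x v + v) (del ρ c y x)
      rw [h6] at h8
      rw [← h8, add_comm]
  rw [C.del_comm hy hx] at h5
  rcases h4 with h4 | h4 <;> rcases h5 with h5 | h5 <;> rw [h4] at h5
  · exact h1 h5
  · exact h2 (by rw [h5, zero_add])
  · exact h2 h5
  · exact h1 (by rw [h5, C.add_self])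

/-- **`w ≥ 6`** -/
theorem six (C : Cfg ρ b q a D X w) : 6 ≤ w := by
  by_contra hcon
  have hw : w = 5 := by have := C.five; omega
  obtain ⟨c, hc⟩ := C.exists_off
  have := C.finite_H
  let _ : CommGroup X := { (inferInstance : Group X) with
    mul_comm := fun x y => Subtype.ext (C.X_comm x.2 y.2) }
  let E := Additive X
  let _ : Module (ZMod 2) E := AddCommGroup.zmodModule (n := 2) (fun x => by
    rw [two_nsmul]
    exact Subtype.ext (C.X_sq _ (Additive.toMul x).2))
  let g : E → H := fun x => ((Additive.toMul x : X) : H)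
  have hg : ∀ x : E, g x ∈ X := fun x => (Additive.toMul x : X).2
  have hgm : ∀ x y : E, g (x + y) = g x * g y := fun x y => rfl
  let T3 : E → E → (E →ₗ[ZMod 2] ZMod 2) := fun x y =>
    (AddMonoidHom.mk' (fun t => tri ρ b c (g x) (g y) (g t)) fun t t' => by
      rw [hgm]; exact C.tri_mul_three c (hg x) (hg y) (hg t) (hg t')).toZModLinearMap 2
  have hT3 : ∀ x y t, T3 x y t = tri ρ b c (g x) (g y) (g t) := fun _ _ _ => rfl
  let T2 : E → (E →ₗ[ZMod 2] E →ₗ[ZMod 2] ZMod 2) := fun x =>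
    (AddMonoidHom.mk' (fun y => T3 x y) fun y y' => by
      ext t
      rw [LinearMap.add_apply, hT3, hT3, hT3, hgm]
      exact C.tri_mul_two c (hg x) (hg y) (hg y') (hg t)).toZModLinearMap 2
  have hT2 : ∀ x y t, T2 x y t = tri ρ b c (g x) (g y) (g t) := fun _ _ _ => rfl
  let T : E →ₗ[ZMod 2] E →ₗ[ZMod 2] E →ₗ[ZMod 2] ZMod 2 :=
    (AddMonoidHom.mk' (fun x => T2 x) fun x x' => by
      ext y t
      rw [LinearMap.add_apply, LinearMap.add_apply, hT2, hT2, hT2, hgm]
      exact C.tri_mul_one c (hg x) (hg x') (hg y) (hg t)).toZModLinearMap 2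
  have hT : ∀ x y t, T x y t = tri ρ b c (g x) (g y) (g t) := fun _ _ _ => rfl
  have hA : TriFour.IsAlt T := ⟨fun x t => by rw [hT]; exact C.tri_self c (hg x) _,
    fun x t => by rw [hT]; exact C.tri_self' c _ (hg t)⟩
  have hcE : Nat.card E = 2 ^ 4 := by
    have h1 : Nat.card E = Nat.card X := rfl
    rw [h1, C.card_X, hw]
  have hf : finrank (ZMod 2) E = 4 := by
    have h1 := Module.natCard_eq_pow_finrank (K := ZMod 2) (V := E)
    rw [hcE, Nat.card_zmod] at h1
    exact (Nat.pow_right_injective le_rfl h1).symm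
  obtain ⟨x, hx, hTx⟩ := TriFour.exists_rad_four hA (Module.finBasisOfFinrankEq (ZMod 2) E hf)
  have hgx : g x ≠ 1 := fun h => hx (by
    have h1 : (Additive.toMul x : X) = 1 := Subtype.ext h
    exact h1)
  obtain ⟨y, hy, t, ht, h1⟩ := C.exists_tri hc (hg x) hgx
  apply h1
  have h2 := hT x (Additive.ofMul ⟨y, hy⟩) (Additive.ofMul ⟨t, ht⟩)
  rw [hTx] at h2
  exact h2.symm

end Cfg

end Cfsg.Agent.Omega.EH3
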