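import Mathlib.LinearAlgebra.BilinearForm.Orthogonal
import Mathlib.LinearAlgebra.Dual.Lemmas
import Mathlib.GroupTheory.Sylow
import Mathlib.GroupTheory.PGroup
import Mathlib.Data.ZMod.Basic
import Mathlib.Tactic

/-!
# EH3, case [2d]: the abstract configuration (owner helper888)

`Cfg ρ b q a D X w` : the finite group `H` acts through `ρ` faithfully and irreducibly on the vector space `V` over
`ZMod 2` of order `2^(2w)`, `w ≥ 5`, with a nondegenerate quadratic form `q` (polar form `b`); `a ≠ 0` is singular,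
`a ∈ D`, `D` totally singular of order `2^w`, `X ≤ H` is elementary abelian of order `2^(w-1)`, normal in the stabiliser
of `a`, `[D, X] ≤ ⟨a⟩`, `[a^⊥, X] ≤ D`, `X` induces on `D` all transvections with centre `a`,
`x ↦ ρ x c + c + D` is injective for `b a c = 1` (`X_semi`) and the trilinear form is nondegenerate (`X_T`: no element
`≠ 1` of `X` is a Siegel element).
-/

set_option autoImplicit false

namespace Cfsg.Agent.Omega.EH3

theorem zmod_two (c : ZMod 2) : c = 0 ∨ c = 1 := by revert c; decide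

theorem zmod_two_ne {c : ZMod 2} (h : c ≠ 0) : c = 1 := by revert c; decide

/-- the configuration -/
structure Cfg {H V : Type*} [Group H] [AddCommGroup V] [Module (ZMod 2) V]
    (ρ : H →* (V ≃ₗ[ZMod 2] V)) (b : LinearMap.BilinForm (ZMod 2) V) (q : V → ZMod 2)
    (a : V) (D : Submodule (ZMod 2) V) (X : Subgroup H) (w : ℕ) : Prop where
  inj : Function.Injective ρ
  five : 5 ≤ w
  card_V : Nat.card V = 2 ^ (2 * w)
  b_self : ∀ v, b v v = 0
  nondeg : ∀ v, (∀ u, b v u = 0) → v = 0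
  q_add : ∀ u v, q (u + v) = q u + q v + b u v
  q_inv : ∀ h v, q (ρ h v) = q v
  irr : ∀ W : Submodule (ZMod 2) V, (∀ h, ∀ v ∈ W, ρ h v ∈ W) → W = ⊥ ∨ W = ⊤
  a_ne : a ≠ 0
  a_mem : a ∈ D
  q_D : ∀ d ∈ D, q d = 0
  card_D : Nat.card D = 2 ^ w
  D_inv : ∀ h, ρ h a = a → ∀ d ∈ D, ρ h d ∈ D
  X_sq : ∀ x ∈ X, x * x = 1
  X_norm : ∀ h, ρ h a = a → ∀ x ∈ X, h * x * h⁻¹ ∈ X
  card_X : Nat.card X = 2 ^ (w - 1)
  X_D : ∀ x ∈ X, ∀ d ∈ D, ρ x d = d ∨ ρ x d = d + a
  X_perp : ∀ x ∈ X, ∀ v, b a v = 0 → ρ x v + v ∈ D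
  X_all : ∀ φ : V →ₗ[ZMod 2] ZMod 2, φ a = 0 → ∃ x ∈ X, ∀ d ∈ D, ρ x d = d + φ d • a
  X_semi : ∀ x ∈ X, ∀ v, b a v = 1 → ρ x v + v ∈ D → x = 1
  X_T : ∀ x ∈ X, x ≠ 1 → ∃ v, b a v = 0 ∧ ρ x v + v ≠ 0 ∧ ρ x v + v ≠ a

namespace Cfg

variable {H V : Type*} [Group H] [AddCommGroup V] [Module (ZMod 2) V]
  {ρ : H →* (V ≃ₗ[ZMod 2] V)} {b : LinearMap.BilinForm (ZMod 2) V} {q : V → ZMod 2}
  {a : V} {D : Submodule (ZMod 2) V} {X : Subgroup H} {w : ℕ}

theorem finite_V (C : Cfg ρ b q a D X w) : Finite V :=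
  Nat.finite_of_card_ne_zero (by rw [C.card_V]; positivity)

theorem finite_H (C : Cfg ρ b q a D X w) : Finite H := by
  have := C.finite_V
  have : Finite (V ≃ₗ[ZMod 2] V) :=
    Finite.of_injective (fun g => (g : V → V)) DFunLike.coe_injective
  exact Finite.of_injective ρ C.inj

theorem add_self (_C : Cfg ρ b q a D X w) (v : V) : v + v = 0 := by
  have : v + v = (2 : ZMod 2) • v := by rw [two_smul]
  rw [this, show (2 : ZMod 2) = 0 from rfl, zero_smul]

theorem neg_eq (C : Cfg ρ b q a D X w) (v : V) : -v = v :=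
  neg_eq_of_add_eq_zero_left (C.add_self v)

theorem add_add_self (C : Cfg ρ b q a D X w) (x y : V) : x + y + y = x := by
  rw [add_assoc, C.add_self, add_zero]

theorem add_eq_zero (C : Cfg ρ b q a D X w) {x y : V} : x + y = 0 ↔ x = y := by
  constructor
  · intro h
    have := C.add_add_self x y
    rw [h, zero_add] at this
    exact this.symm
  · rintro rfl; exact C.add_self x

theorem b_comm (C : Cfg ρ b q a D X w) (u v : V) : b u v = b v u := by
  have h := C.b_self (u + v)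
  rw [map_add, map_add, LinearMap.add_apply, LinearMap.add_apply, C.b_self, C.b_self, zero_add,
    add_zero] at h
  exact (CharTwo.add_eq_zero.1 h).symm

theorem q_zero (C : Cfg ρ b q a D X w) : q 0 = 0 := C.q_D 0 D.zero_mem

theorem q_a (C : Cfg ρ b q a D X w) : q a = 0 := C.q_D a C.a_mem

theorem b_D (C : Cfg ρ b q a D X w) {u v : V} (hu : u ∈ D) (hv : v ∈ D) : b u v = 0 := by
  have h := C.q_add u v
  rw [C.q_D _ hu, C.q_D _ hv, C.q_D _ (D.add_mem hu hv), zero_add, zero_add] at h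
  exact h.symm

theorem b_aD (C : Cfg ρ b q a D X w) {v : V} (hv : v ∈ D) : b a v = 0 := C.b_D C.a_mem hv

theorem b_inv (C : Cfg ρ b q a D X w) (h : H) (u v : V) : b (ρ h u) (ρ h v) = b u v := by
  have h1 := C.q_add (ρ h u) (ρ h v)
  rw [← map_add, C.q_inv, C.q_inv, C.q_inv, C.q_add] at h1
  exact (add_left_cancel h1).symm

theorem ρ_mul (_C : Cfg ρ b q a D X w) (g h : H) (v : V) : ρ (g * h) v = ρ g (ρ h v) := by
  rw [map_mul]; rfl

theorem ρ_one (_C : Cfg ρ b q a D X w) (v : V) : ρ 1 v = v := by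
  rw [map_one]; rfl

theorem ρ_inv_apply (C : Cfg ρ b q a D X w) (g : H) (v : V) : ρ g⁻¹ (ρ g v) = v := by
  rw [← C.ρ_mul, inv_mul_cancel, C.ρ_one]

theorem ρ_apply_inv (C : Cfg ρ b q a D X w) (g : H) (v : V) : ρ g (ρ g⁻¹ v) = v := by
  rw [← C.ρ_mul, mul_inv_cancel, C.ρ_one]

theorem ext (C : Cfg ρ b q a D X w) {g h : H} (H' : ∀ v, ρ g v = ρ h v) : g = h :=
  C.inj (LinearEquiv.ext H')

theorem ρ_inj (_C : Cfg ρ b q a D X w) (g : H) {u v : V} (h : ρ g u = ρ g v) : u = v :=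
  (ρ g).injective h

theorem fix_inv (C : Cfg ρ b q a D X w) {g : H} {v : V} (h : ρ g v = v) : ρ g⁻¹ v = v := by
  nth_rewrite 1 [← h]
  exact C.ρ_inv_apply g v

theorem X_inv (C : Cfg ρ b q a D X w) {x : H} (hx : x ∈ X) : x⁻¹ = x :=
  inv_eq_of_mul_eq_one_left (C.X_sq x hx)

theorem X_comm (C : Cfg ρ b q a D X w) {x y : H} (hx : x ∈ X) (hy : y ∈ X) : x * y = y * x := by
  have h1 := C.X_sq _ (X.mul_mem hx hy)
  have h2 := C.X_inv (X.mul_mem hx hy)
  rw [mul_inv_rev, C.X_inv hx, C.X_inv hy] at h2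
  exact h2.symm

theorem X_a (C : Cfg ρ b q a D X w) {x : H} (hx : x ∈ X) : ρ x a = a := by
  rcases C.X_D x hx a C.a_mem with h | h
  · exact h
  · exfalso
    rw [C.add_self] at h
    apply C.a_ne
    have h1 := C.ρ_inv_apply x a
    rw [h, map_zero] at h1
    exact h1.symm

theorem X_fix_delta (C : Cfg ρ b q a D X w) {x : H} (hx : x ∈ X) (v : V) :
    ρ x (ρ x v + v) = ρ x v + v := by
  rw [map_add, ← C.ρ_mul, C.X_sq x hx, C.ρ_one, add_comm]

theorem b_a_ρ (C : Cfg ρ b q a D X w) {g : H} (hg : ρ g a = a) (v : V) : b a (ρ g v) = b a v := by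
  nth_rewrite 1 [← hg]
  exact C.b_inv g a v

theorem b_a_delta (C : Cfg ρ b q a D X w) {g : H} (hg : ρ g a = a) (v : V) :
    b a (ρ g v + v) = 0 := by
  rw [map_add, C.b_a_ρ hg, CharTwo.add_self_eq_zero]

theorem X_mem_D (C : Cfg ρ b q a D X w) {x : H} (hx : x ∈ X) {d : V} (hd : d ∈ D) : ρ x d ∈ D := by
  rcases C.X_D x hx d hd with h | h
  · rw [h]; exact hd
  · rw [h]; exact D.add_mem hd C.a_mem

/-- there is a vector off `a^⊥` -/
theorem exists_off (C : Cfg ρ b q a D X w) : ∃ c, b a c = 1 := by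
  by_contra hcon
  push Not at hcon
  apply C.a_ne
  apply C.nondeg
  intro u
  rcases zmod_two (b a u) with h | h
  · exact h
  · exact absurd h (hcon u)

/-- a singular vector off `a^⊥` -/
theorem exists_off_sing (C : Cfg ρ b q a D X w) : ∃ c, b a c = 1 ∧ q c = 0 := by
  obtain ⟨c, hc⟩ := C.exists_off
  rcases zmod_two (q c) with h | h
  · exact ⟨c, hc, h⟩
  · refine ⟨c + a, ?_, ?_⟩
    · rw [map_add, hc, C.b_self, add_zero]
    · rw [C.q_add, h, C.q_a, C.b_comm, hc]; decide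

end Cfg

end Cfsg.Agent.Omega.EH3
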