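import Cfsg.Agent.Omega.EH3.TForm
import Cfsg.Agent.Omega.TwoF.Defs

/-!
# The rows of EH3

`RowEH3 K` : the configuration `Cfg` of EH3 does not occur with a normal odd cover `L` of `K` in `H`
(`X ∩ C_H(L) = 1`).  `RowEH3.of_dead : Dead2 K → RowEH3 K` is the numerical criterion; `bounds`: `n ≤ 2w`, `w - 1 ≤ r`.
-/

set_option autoImplicit false

namespace Cfsg.Agent.Omega.EH3

open Subgroup TwoF

universe u v w

/-- **The row of `K`**: no configuration with a normal odd cover of `K`. -/
def RowEH3 (K : Type v) [Group K] : Prop :=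
  ∀ (H V : Type u) [Group H] [AddCommGroup V] [Module (ZMod 2) V] (ρ : H →* (V ≃ₗ[ZMod 2] V))
    (b : LinearMap.BilinForm (ZMod 2) V) (q : V → ZMod 2) (a : V) (D : Submodule (ZMod 2) V) (X : Subgroup H) (w : ℕ)
    (L : Subgroup H) (π : L →* K), L.Normal → OddCover π → X ⊓ centralizer (L : Set H) = ⊥ →
    ¬ Cfg ρ b q a D X w

theorem RowEH3.equiv {K : Type v} {K' : Type w} [Group K] [Group K'] (e : K ≃* K') (h : RowEH3.{u} K') :
    RowEH3.{u} K :=
  fun H V _ _ _ ρ b q a D X w L π hL hπ => h H V ρ b q a D X w L (e.toMonoidHom.comp π) hL (hπ.comp e)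

section bounds

variable {K : Type v} [Group K] {H V : Type u} [Group H] [AddCommGroup V] [Module (ZMod 2) V]
  {ρ : H →* (V ≃ₗ[ZMod 2] V)} {b : LinearMap.BilinForm (ZMod 2) V} {q : V → ZMod 2} {a : V}
  {D : Submodule (ZMod 2) V} {X : Subgroup H} {w : ℕ} {L : Subgroup H} {π : L →* K}

/-- the action on `Multiplicative V` -/
def act (ρ : H →* (V ≃ₗ[ZMod 2] V)) : H →* MulAut (Multiplicative V) where
  toFun h := AddEquiv.toMultiplicative (ρ h).toAddEquiv
  map_one' := by
    ext v
    rw [map_one]
    rfl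
  map_mul' g h := by
    ext v
    rw [map_mul]
    rfl

theorem act_apply (ρ : H →* (V ≃ₗ[ZMod 2] V)) (h : H) (v : V) :
    act ρ h (Multiplicative.ofAdd v) = Multiplicative.ofAdd (ρ h v) := rfl

/-- the rank bound: `w - 1 ≤ r` -/
theorem rank_le (C : Cfg ρ b q a D X w) {r : ℕ} (hr : RK K r) (hK : center K = ⊥) (hL : L.Normal)
    (hπ : OddCover π) (hX : X ⊓ centralizer (L : Set H) = ⊥) : w - 1 ≤ r := by
  have h1 := hr.card_le hπ hK (A := X) (fun x hx => by rw [pow_two]; exact C.X_sq x hx) hX
  rw [C.card_X] at h1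
  exact (Nat.pow_le_pow_iff_right (by norm_num)).mp h1

/-- the lower bound: `n ≤ 2w` -/
theorem le_dim (C : Cfg ρ b q a D X w) {n : ℕ} (hn : LBs.{u} K n) [Nontrivial K] (hπ : OddCover π) :
    n ≤ 2 * w := by
  have := C.finite_H
  have := C.finite_V
  have h1 := hn L π hπ (Multiplicative V) ((act ρ).comp L.subtype)
    (fun u v => b (Multiplicative.toAdd u) (Multiplicative.toAdd v))
    { add_left := fun x y z => by rw [toAdd_mul, map_add, LinearMap.add_apply]
      add_right := fun x y z => by rw [toAdd_mul, map_add]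
      alt := fun x => C.b_self _
      nondeg := fun x hx => C.nondeg _ fun u => hx (Multiplicative.ofAdd u) }
    (fun g x y => C.b_inv _ _ _)
    (fun x => by
      rw [pow_two]
      exact C.add_self (Multiplicative.toAdd x))
    (by
      intro h
      obtain ⟨k, hk⟩ := exists_ne (1 : K)
      obtain ⟨l, rfl⟩ := hπ.surj k
      apply hk
      have h2 : (l : H) = 1 := by
        apply C.inj
        rw [map_one]
        ext v
        exact DFunLike.congr_fun (DFunLike.congr_fun h l) (Multiplicative.ofAdd v)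
      rw [show l = 1 from Subtype.ext h2, map_one])
  have h2 : Nat.card (Multiplicative V) = 2 ^ (2 * w) := C.card_V
  rw [h2] at h1
  exact (Nat.pow_le_pow_iff_right (by norm_num)).mp h1

end bounds

/-- **The numerical criterion.** -/
theorem RowEH3.of_dead {K : Type v} [Group K] [Nontrivial K] (hK : center K = ⊥) (hd : Dead2.{u} K) :
    RowEH3.{u} K := by
  obtain ⟨n, r, hn, hr, hnr⟩ := hd
  intro H V _ _ _ ρ b q a D X w L π hL hπ hX C
  have h1 := rank_le C hr hK hL hπ hX
  have h2 := le_dim C hn hπ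
  have h3 := C.six
  omega

/-- Two-rank of the automorphism group at most 4. -/
theorem RowEH3.of_rk {K : Type v} [Group K] [Nontrivial K] (hK : center K = ⊥) (hr : RK K 4) : RowEH3.{u} K :=
  RowEH3.of_dead hK (Dead2.of_rk hr)

/-- The tight case: `2w = n`. -/
theorem eq_of_tight {K : Type v} [Group K] {H V : Type u} [Group H] [AddCommGroup V] [Module (ZMod 2) V]
    {ρ : H →* (V ≃ₗ[ZMod 2] V)} {b : LinearMap.BilinForm (ZMod 2) V} {q : V → ZMod 2} {a : V}
    {D : Submodule (ZMod 2) V} {X : Subgroup H} {w : ℕ} {L : Subgroup H} {π : L →* K}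
    (C : Cfg ρ b q a D X w) {n r : ℕ} (hn : n = 12 ∨ LBs.{u} K n) (hr : RK K r) (hnr : n = 2 * r + 2)
    [Nontrivial K] (hK : center K = ⊥) (hL : L.Normal) (hπ : OddCover π)
    (hX : X ⊓ centralizer (L : Set H) = ⊥) : w = r + 1 := by
  have h1 := rank_le C hr hK hL hπ hX
  have h3 := C.six
  rcases hn with hn | hn
  · omega
  · have h2 := le_dim C hn hπ
    omega

/-! ### `Kill2` gives the row -/

section kill

variable {H V : Type*} [Group H] [AddCommGroup V] [Module (ZMod 2) V]
  {ρ : H →* (V ≃ₗ[ZMod 2] V)} {b : LinearMap.BilinForm (ZMod 2) V} {q : V → ZMod 2} {a : V}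
  {D : Submodule (ZMod 2) V} {X : Subgroup H} {w : ℕ}

/-- a vector perpendicular to `a^⊥` is `0` or `a` -/
theorem Cfg.eq_of_perp_a (C : Cfg ρ b q a D X w) {v : V} (h : ∀ u, b a u = 0 → b v u = 0) : v = 0 ∨ v = a := by
  obtain ⟨c, hc⟩ := C.exists_off
  rcases zmod_two (b v c) with h5 | h5
  · left
    apply C.nondeg
    intro u
    rcases zmod_two (b a u) with h6 | h6
    · exact h u h6
    · have h7 := h (u + c) (by rw [map_add, h6, hc]; decide)
      rw [map_add, h5, add_zero] at h7
      exact h7
  · right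
    rw [← C.add_eq_zero]
    apply C.nondeg
    intro u
    rw [map_add, LinearMap.add_apply]
    rcases zmod_two (b a u) with h6 | h6
    · rw [h u h6, h6, add_zero]
    · have h7 := h (u + c) (by rw [map_add, h6, hc]; decide)
      rw [map_add, h5] at h7
      rw [h6]
      exact h7

/-- **`C_V(X) = {0, a}`** -/
theorem Cfg.fixed_X (C : Cfg ρ b q a D X w) {v : V} (h : ∀ x ∈ X, ρ x v = v) : v = 0 ∨ v = a := by
  obtain ⟨c, hc⟩ := C.exists_off
  have hX1 : ∃ x ∈ X, x ≠ 1 := by
    by_contra hcon
    push Not at hcon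
    have h1 : X = ⊥ := by
      rw [eq_bot_iff]
      exact fun x hx => mem_bot.mpr (hcon x hx)
    have h2 := C.card_X
    have h3 := C.six
    rw [h1, Subgroup.card_bot] at h2
    have h4 : 1 < 2 ^ (w - 1) := Nat.one_lt_two_pow (by omega)
    omega
  rcases zmod_two (b a v) with hv | hv
  · obtain ⟨y, hy, hyd⟩ := C.exists_sig hc hv
    by_cases hy1 : y = 1
    · have hvD : v ∈ D := by
        rw [hy1] at hyd
        have : Cfg.sig ρ c 1 = 0 := by
          unfold Cfg.sig
          rw [C.ρ_one, C.add_self]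
        rwa [this, add_zero] at hyd
      refine C.eq_of_perp_a fun u hu => ?_
      obtain ⟨t, ht, htd⟩ := C.exists_sig hc hu
      have h1 := C.X_D_eq hc ht hvD
      rw [h t ht] at h1
      have h2 : b v (Cfg.sig ρ c t) = 0 := by
        rcases zmod_two (b v (Cfg.sig ρ c t)) with h3 | h3
        · exact h3
        · rw [h3, one_smul] at h1
          exact absurd (left_eq_add.mp h1) C.a_ne
      have h4 := C.b_D hvD htd
      rw [map_add, h2, add_zero] at h4
      exact h4
    · exfalso
      obtain ⟨x, hx, t, ht, h1⟩ := C.exists_tri hc hy hy1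
      apply h1
      have h2 : Cfg.del ρ c y x = ρ x (v + Cfg.sig ρ c y) + (v + Cfg.sig ρ c y) := by
        unfold Cfg.del
        rw [map_add, h x hx]
        have := C.add_self v
        have e : v + ρ x (Cfg.sig ρ c y) + (v + Cfg.sig ρ c y) =
            (v + v) + (ρ x (Cfg.sig ρ c y) + Cfg.sig ρ c y) := by abel
        rw [e, this, zero_add]
      unfold Cfg.tri
      rw [h2]
      rcases C.X_D x hx _ hyd with h3 | h3 <;> rw [h3]
      · rw [C.add_self, map_zero, LinearMap.zero_apply]
      · have e : v + Cfg.sig ρ c y + a + (v + Cfg.sig ρ c y) = (v + Cfg.sig ρ c y) + (v + Cfg.sig ρ c y) + a := by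
          abel
        rw [e, C.add_self, zero_add, C.b_a_sig ht]
  · exfalso
    obtain ⟨x, hx, hx1⟩ := hX1
    apply hx1
    apply C.X_semi x hx v hv
    rw [h x hx, C.add_self]
    exact D.zero_mem

/-- **`Stab(a)` contains a Sylow 2-subgroup.** -/
theorem Cfg.exists_sylow (C : Cfg ρ b q a D X w) : ∃ S : Sylow 2 H, X ≤ (S : Subgroup H) ∧ ∀ s ∈ S, ρ s a = a := by
  have := C.finite_H
  have := C.finite_V
  have hp : Fact (Nat.Prime 2) := ⟨Nat.prime_two⟩
  have hX : IsPGroup 2 X := fun x => ⟨1, Subtype.ext (by rw [pow_one, pow_two]; exact C.X_sq _ x.2)⟩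
  obtain ⟨S, hS⟩ := hX.exists_le_sylow
  refine ⟨S, hS, ?_⟩
  -- the fixed points of `S` on `V`
  let _ : MulAction S V :=
    { smul := fun s v => ρ s v
      one_smul := fun v => C.ρ_one v
      mul_smul := fun g h v => C.ρ_mul _ _ v }
  have hsm : ∀ (s : S) (v : V), s • v = ρ s v := fun _ _ => rfl
  have h1 : Nat.card V ≡ Nat.card (MulAction.fixedPoints S V) [MOD 2] := S.isPGroup'.card_modEq_card_fixedPoints V
  have h2 : (0 : V) ∈ MulAction.fixedPoints S V := fun s => by rw [hsm, map_zero]
  have h3 : 1 < Nat.card (MulAction.fixedPoints S V) := by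
    have h4 : Nat.card (MulAction.fixedPoints S V) ≠ 0 := by
      have : Nonempty (MulAction.fixedPoints S V) := ⟨⟨0, h2⟩⟩
      exact Nat.card_pos.ne'
    have h5 : Nat.card (MulAction.fixedPoints S V) % 2 = 0 := by
      rw [← h1, C.card_V]
      have := C.six
      exact Nat.mod_eq_zero_of_dvd (dvd_pow_self 2 (by omega))
    omega
  have hnt := Finite.one_lt_card_iff_nontrivial.mp h3
  obtain ⟨v, hv⟩ := exists_ne (⟨0, h2⟩ : MulAction.fixedPoints S V)
  have hv0 : (v : V) ≠ 0 := fun h => hv (Subtype.ext h)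
  have hva : (v : V) = a := (C.fixed_X fun x hx => v.2 ⟨x, hS hx⟩).resolve_left hv0
  intro s hs
  rw [← hva]
  exact v.2 ⟨s, hs⟩

end kill

theorem RowEH3.of_kill {K : Type v} [Group K] (h : Kill2.{u} K) : RowEH3.{u} K := by
  intro H V _ _ _ ρ b q a D X w L π hL hπ hX C
  have := C.finite_H
  have := C.finite_V
  refine h H (Multiplicative V) (act ρ) (fun u v => b (Multiplicative.toAdd u) (Multiplicative.toAdd v)) L X
    (Multiplicative.ofAdd a) π hπ
    { inj := ?_
      form :=
        { add_left := fun x y z => by rw [toAdd_mul, map_add, LinearMap.add_apply]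
          add_right := fun x y z => by rw [toAdd_mul, map_add]
          alt := fun x => C.b_self _
          nondeg := fun x hx => C.nondeg _ fun u => hx (Multiplicative.ofAdd u) }
      inv := fun g x y => C.b_inv _ _ _
      two := fun x => by
        rw [pow_two]
        exact C.add_self (Multiplicative.toAdd x)
      irr := ?_
      twelve := ?_
      normal := hL
      a_ne := fun h => C.a_ne h
      X_two := fun x hx => by rw [pow_two]; exact C.X_sq x hx
      X_fix := fun x hx => C.X_a hx
      X_norm := fun g hg x hx => C.X_norm g hg x hx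
      syl := by
        obtain ⟨S, -, hS⟩ := C.exists_sylow
        exact ⟨S, fun s hs => hS s hs⟩
      cent := hX
      card_le := ?_ }
  · intro g g' hgg
    apply C.ext
    intro v
    exact DFunLike.congr_fun hgg (Multiplicative.ofAdd v)
  · intro W hW
    let W' : Submodule (ZMod 2) V :=
      { carrier := {v | Multiplicative.ofAdd v ∈ W}
        add_mem' := fun {u v} hu hv => W.mul_mem hu hv
        zero_mem' := W.one_mem
        smul_mem' := by
          intro r v hv
          rcases zmod_two r with rfl | rfl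
          · rw [zero_smul]
            exact W.one_mem
          · rw [one_smul]
            exact hv }
    rcases C.irr W' (fun g v hv => hW g _ hv) with h1 | h1
    · left
      rw [eq_bot_iff]
      intro v hv
      have h2 : Multiplicative.toAdd v ∈ W' := hv
      rw [h1] at h2
      exact h2
    · right
      rw [eq_top_iff]
      intro v _
      have h2 : Multiplicative.toAdd v ∈ W' := by rw [h1]; trivial
      exact h2
  · have h1 : Nat.card (Multiplicative V) = 2 ^ (2 * w) := C.card_V
    rw [h1]
    have := C.six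
    exact Nat.pow_le_pow_right two_pos (by omega)
  · have h1 : Nat.card (Multiplicative V) = 2 ^ (2 * w) := C.card_V
    rw [h1, C.card_X]
    have := C.six
    have h2 : 4 * (2 ^ (w - 1)) ^ 2 = 2 ^ (2 * w) := by
      rw [← pow_mul, show (4 : ℕ) = 2 ^ 2 by norm_num, ← pow_add]
      congr 1
      omega
    exact h2.ge

end Cfsg.Agent.Omega.EH3
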