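import Cfsg.Agent.Omega.EH3.Cons
import Cfsg.Agent.LargeExtra.Tri.Basic

/-!
# EH3: from a pair `(z, a)` with `C_G(z)` irreducible to the configuration (helper888)

`of_pair` : `Q = 2^(1+2w)`, `w ≥ 5`, `C_G(z)` irreducible on `V = Q/⟨z⟩`, `|D̃| = 2^w` and no element `≠ 1` of `p.X` is a
Siegel element ⇒ `Cfg` for the image `p.H` of `C_G(z)` in `GL(V)`.
-/

set_option autoImplicit false

namespace Cfsg.Agent.Omega.EH3

open Cfsg.Agent.Co2Type.Quad Cfsg.Agent.LargeExtra.Base Cfsg.Agent.LargeExtra.Siegel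
open Cfsg.Agent.LargeExtra.Tri.Basic

variable {G : Type*} [Group G] {Q A : Subgroup G} {z a : G}

/-- no Siegel element in `p.X` except `1` -/
def NoSg (p : Pair Q z A a) : Prop :=
  ∀ f ∈ p.X, f ≠ 1 → ∃ v, p.lz.b p.va v = 0 ∧ f v + v ≠ 0 ∧ f v + v ≠ p.va

/-- irreducibility of `C_G(z)` on `V` -/
def IrrC (h : Large Q z) : Prop :=
  ∀ R : Submodule (ZMod 2) h.V, (∀ c, ∀ v ∈ R, h.act c v ∈ R) → R = ⊥ ∨ R = ⊤

/-- **the bridge** -/
theorem of_pair [Finite G] (p : Pair Q z A a) {w : ℕ} (hw : 5 ≤ w)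
    (hQ : Nat.card Q = 2 ^ (2 * w + 1)) (hD : Nat.card p.D = 2 ^ w) (hirr : IrrC p.lz)
    (hT : NoSg p) :
    Cfg (p.H.subtype : p.H →* (p.lz.V ≃ₗ[ZMod 2] p.lz.V)) p.lz.b p.lz.q p.va p.D
      (p.X.subgroupOf p.H) w := by
  have hV : Nat.card p.lz.V = 2 ^ (2 * w) := by
    have h1 := p.lz.card_eq
    rw [hQ, pow_succ, mul_comm (2 ^ (2 * w))] at h1
    exact (Nat.eq_of_mul_eq_mul_left (by norm_num) h1).symm
  have hX : Nat.card p.X = 2 ^ (w - 1) := by
    have h1 := p.card_X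
    rw [hV, hD] at h1
    have h2 : 2 ^ (2 * w) = 2 ^ (w - 1) * 2 ^ w * 2 := by
      rw [← pow_add, ← pow_succ]
      congr 1
      omega
    rw [h2] at h1
    have h3 := Nat.eq_of_mul_eq_mul_right (by norm_num) h1
    exact Nat.eq_of_mul_eq_mul_right (by positivity) h3
  have hmem : ∀ x : p.H, x ∈ p.X.subgroupOf p.H ↔ (x : p.lz.V ≃ₗ[ZMod 2] p.lz.V) ∈ p.X :=
    fun x => Subgroup.mem_subgroupOf
  refine
    { inj := p.H.subtype_injective
      five := hw
      card_V := hV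
      b_self := p.lz.b_self
      nondeg := fun v hv => p.lz.b_nondeg hv
      q_add := p.lz.q_add'
      q_inv := fun h v => q_of_mem_O p.lz (H_le_O p h.2) v
      irr := ?_
      a_ne := p.va_ne
      a_mem := p.va_mem_D
      q_D := fun d hd => p.q_D hd
      card_D := hD
      D_inv := fun h ha d hd => p.D_inv h.2 ha hd
      X_sq := fun x hx => Subtype.ext (p.X_sq ((hmem x).1 hx))
      X_norm := fun h ha x hx => (hmem _).2 (p.X_normal h.2 ha ((hmem x).1 hx))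
      card_X := ?_
      X_D := fun x hx d hd => p.X_D ((hmem x).1 hx) hd
      X_perp := fun x hx v hv => p.X_perp ((hmem x).1 hx) hv
      X_all := ?_
      X_semi := fun x hx v hv h => Subtype.ext (eq_one_of_delta p ((hmem x).1 hx) hv h)
      X_T := fun x hx hx1 => hT _ ((hmem x).1 hx) fun h => hx1 (Subtype.ext h) }
  · intro W hW
    exact hirr W fun c v hv => hW ⟨p.lz.act c, ⟨c, rfl⟩⟩ v hv
  · rw [← hX]
    exact Nat.card_congr (Subgroup.subgroupOfEquivOfLe p.X_le_H).toEquiv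
  · intro φ hφ
    obtain ⟨f, hf, h1⟩ := p.exists_X φ hφ
    exact ⟨⟨f, p.X_le_H hf⟩, (hmem _).2 hf, h1⟩

end Cfsg.Agent.Omega.EH3
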