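import Mathlib.GroupTheory.PGroup
import Mathlib.GroupTheory.Index
import Mathlib.Algebra.BigOperators.GroupWithZero.Action
import Mathlib.Tactic

/-!
# Odd subgroups normalised by an elementary abelian group: linear algebra (helper950)

`H` acts on a finite elementary abelian `2`-group `V`.
* `sq_le`: an involution inverting `d` of odd order without fixed points on `W` satisfies `|C_W(x)|² ≤ |W|`.
* `pow_four_le`: two commuting such pairs satisfy `|V : [V,x₀][V,x₁]|⁴ ≤ |V|`.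

-/

set_option autoImplicit false

namespace Cfsg.Agent.Omega.EH3.OddLin

variable {H : Type*} [Group H] {V : Type*} [AddCommGroup V] [DistribMulAction H V]

/-- the fixed points of `x` -/
def fx (V : Type*) [AddCommGroup V] [DistribMulAction H V] (x : H) : AddSubgroup V where
  carrier := {v | x • v = v}
  zero_mem' := smul_zero x
  add_mem' {a b} ha hb := by
    show x • (a + b) = a + b
    rw [smul_add, show x • a = a from ha, show x • b = b from hb]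
  neg_mem' {a} ha := by
    show x • (-a) = -a
    rw [smul_neg, show x • a = a from ha]

theorem mem_fx {x : H} {v : V} : v ∈ fx V x ↔ x • v = v := Iff.rfl

/-- the map `v ↦ x v - v` -/
def dl (V : Type*) [AddCommGroup V] [DistribMulAction H V] (x : H) : V →+ V where
  toFun v := x • v - v
  map_zero' := by rw [smul_zero, sub_zero]
  map_add' a b := by rw [smul_add]; abel

theorem dl_apply (x : H) (v : V) : dl V x v = x • v - v := rfl

theorem card_eq [Finite V] (x : H) (W : AddSubgroup V) :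
    Nat.card W = Nat.card ↥(W ⊓ fx V x) * Nat.card ↥(W.map (dl V x)) := by
  let f : W →+ V := (dl V x).comp W.subtype
  have h1 : Nat.card W = Nat.card (W ⧸ f.ker) * Nat.card f.ker :=
    AddSubgroup.card_eq_card_quotient_mul_card_addSubgroup _
  have h2 : Nat.card (W ⧸ f.ker) = Nat.card ↥(W.map (dl V x)) := by
    rw [Nat.card_congr (QuotientAddGroup.quotientKerEquivRange f).toEquiv]
    have : f.range = W.map (dl V x) := by
      ext v
      constructor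
      · rintro ⟨w, rfl⟩; exact ⟨w, w.2, rfl⟩
      · rintro ⟨w, hw, rfl⟩; exact ⟨⟨w, hw⟩, rfl⟩
    rw [this]
  have h3 : Nat.card f.ker = Nat.card ↥(W ⊓ fx V x) := by
    apply Nat.card_congr
    exact {
      toFun := fun k => ⟨(k : W), (k : W).2, by
        have h4 : f k = 0 := k.2
        have h5 : x • ((k : W) : V) - ((k : W) : V) = 0 := h4
        exact sub_eq_zero.1 h5⟩
      invFun := fun v => ⟨⟨v, v.2.1⟩, by
        show x • (v : V) - (v : V) = 0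
        exact sub_eq_zero.2 v.2.2⟩
      left_inv := fun k => rfl
      right_inv := fun v => rfl }
  rw [h1, h2, h3, mul_comm]

/-- an involution in characteristic `2` -/
theorem map_dl_le (h2 : ∀ v : V, v + v = 0) {x : H} (hx : x * x = 1) {W : AddSubgroup V}
    (hW : ∀ v ∈ W, x • v ∈ W) : W.map (dl V x) ≤ W ⊓ fx V x := by
  rintro _ ⟨v, hv, rfl⟩
  refine ⟨W.sub_mem (hW v hv) hv, ?_⟩
  show x • (x • v - v) = x • v - v
  rw [smul_sub, ← mul_smul, hx, one_smul]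
  have h3 := h2 (v - x • v)
  rw [← sub_eq_zero]
  calc v - x • v - (x • v - v) = (v - x • v) + (v - x • v) := by abel
    _ = 0 := h3

theorem card_le_sq [Finite V] (h2 : ∀ v : V, v + v = 0) {x : H} (hx : x * x = 1) {W : AddSubgroup V}
    (hW : ∀ v ∈ W, x • v ∈ W) : Nat.card W ≤ Nat.card ↥(W ⊓ fx V x) ^ 2 := by
  rw [card_eq x W, pow_two]
  exact Nat.mul_le_mul_left _ (AddSubgroup.card_le_of_le (map_dl_le h2 hx hW))

/-- `|C_W(x)|² ≤ |W|` -/
theorem sq_le [Finite H] [Finite V] {x d : H} (hx : x * x = 1) (hxd : x * d * x⁻¹ = d⁻¹) (hd : Odd (orderOf d))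
    {W : AddSubgroup V} (hWd : ∀ v ∈ W, d • v ∈ W)
    (h0 : ∀ v ∈ W, d • v = v → v = 0) : Nat.card ↥(W ⊓ fx V x) ^ 2 ≤ Nat.card W := by
  obtain ⟨m, hm⟩ := hd
  -- `e * e = d`
  obtain ⟨e, he, hee⟩ : ∃ e : H, e ∈ Subgroup.zpowers d ∧ e * e = d := by
    refine ⟨d ^ (m + 1), Subgroup.npow_mem_zpowers d _, ?_⟩
    rw [← pow_add, show m + 1 + (m + 1) = (2 * m + 1) + 1 by ring, pow_succ, ← hm, pow_orderOf_eq_one, one_mul]
  have hxe : x * e * x⁻¹ = e⁻¹ := by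
    obtain ⟨k, rfl⟩ := he
    have : x * d ^ k * x⁻¹ = (x * d * x⁻¹) ^ k := conj_zpow.symm
    rw [this, hxd, inv_zpow]
  have hWe' : ∀ g ∈ Subgroup.zpowers d, ∀ v ∈ W, g • v ∈ W := by
    intro g hg
    obtain ⟨k, rfl⟩ := (mem_powers_iff_mem_zpowers (x := d)).2 hg
    clear hg
    induction k with
    | zero => intro v hv; simpa using hv
    | succ k ih =>
      intro v hv
      show d ^ (k + 1) • v ∈ W
      rw [pow_succ, mul_smul]
      exact ih _ (hWd v hv)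
  have hWe : ∀ v ∈ W, e⁻¹ • v ∈ W := hWe' _ (Subgroup.inv_mem _ he)
  have key : ∀ v ∈ W, x • v = v → (x * d) • (e⁻¹ • v) = e⁻¹ • v := by
    intro v _ hv
    have h3 : x * d * e⁻¹ = e⁻¹ * x := by
      rw [← hee]
      have h4 : x * e = e⁻¹ * x := by rw [← hxe]; group
      calc x * (e * e) * e⁻¹ = x * e := by group
        _ = e⁻¹ * x := h4
    rw [← mul_smul, h3, mul_smul, hv]
  let F : ↥(W ⊓ fx V x) × ↥(W ⊓ fx V x) → W := fun p =>
    ⟨(p.1 : V) + e⁻¹ • (p.2 : V), W.add_mem p.1.2.1 (hWe _ p.2.2.1)⟩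
  have hF : Function.Injective F := by
    rintro ⟨⟨u, hu⟩, ⟨v, hv⟩⟩ ⟨⟨u', hu'⟩, ⟨v', hv'⟩⟩ h
    have h3 : u + e⁻¹ • v = u' + e⁻¹ • v' := congrArg Subtype.val h
    have h4 : u - u' = e⁻¹ • (v' - v) := by
      rw [smul_sub]
      rw [sub_eq_sub_iff_add_eq_add, h3, add_comm]
    have h5 : u - u' ∈ W ⊓ fx V x := AddSubgroup.sub_mem _ hu hu'
    have h6 : v' - v ∈ W ⊓ fx V x := AddSubgroup.sub_mem _ hv' hv
    have h7 : (x * d) • (u - u') = u - u' := by
      rw [h4]; exact key _ h6.1 h6.2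
    have h8 : d • (u - u') = u - u' := by
      have h9 : x • (d • (u - u')) = u - u' := by rw [← mul_smul]; exact h7
      calc d • (u - u') = x • (x • (d • (u - u'))) := by rw [← mul_smul x x, hx, one_smul]
        _ = x • (u - u') := by rw [h9]
        _ = u - u' := h5.2
    have h10 : u - u' = 0 := h0 _ h5.1 h8
    have h11 : u = u' := sub_eq_zero.1 h10
    have h12 : v = v' := by
      subst h11
      have h13 : e⁻¹ • v = e⁻¹ • v' := add_left_cancel h3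
      exact smul_left_cancel _ h13
    subst h11; subst h12; rfl
  rw [pow_two, ← Nat.card_prod]
  exact Nat.card_le_card_of_injective F hF

/-- Two commuting dihedral groups. -/
theorem pow_four_le [Finite H] [Finite V] (h2 : ∀ v : V, v + v = 0) {x₀ d₀ x₁ d₁ : H}
    (hx₀ : x₀ * x₀ = 1) (hx₁ : x₁ * x₁ = 1) (hd₀ : x₀ * d₀ * x₀⁻¹ = d₀⁻¹) (hd₁ : x₁ * d₁ * x₁⁻¹ = d₁⁻¹)
    (ho₀ : Odd (orderOf d₀)) (ho₁ : Odd (orderOf d₁)) (h01 : x₀ * d₁ = d₁ * x₀)
    (h0 : ∀ v : V, d₀ • v = v → v = 0) (h1 : ∀ v : V, d₁ • v = v → v = 0)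
    (D : AddSubgroup V) (c₀ c₁ : V) (hD₀ : ∀ v : V, x₀ • v - v ∈ D ∨ (x₀ • v - v) - c₀ ∈ D)
    (hD₁ : ∀ v : V, x₁ • v - v ∈ D ∨ (x₁ • v - v) - c₁ ∈ D) :
    Nat.card V ^ 3 ≤ (4 * Nat.card D) ^ 4 := by
  -- `|C(x)|² = |V|` and `C(x) = [V,x]`
  have key : ∀ x d : H, x * x = 1 → x * d * x⁻¹ = d⁻¹ → Odd (orderOf d) → (∀ v : V, d • v = v → v = 0) →
      Nat.card (fx V x) ^ 2 = Nat.card V ∧ (⊤ : AddSubgroup V).map (dl V x) = fx V x := by
    intro x d hx hd ho h0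
    have e1 : Nat.card ↥(⊤ : AddSubgroup V) = Nat.card V := Nat.card_congr AddSubgroup.topEquiv.toEquiv
    have a1 := sq_le (W := (⊤ : AddSubgroup V)) hx hd ho (fun _ _ => AddSubgroup.mem_top _) (fun v _ => h0 v)
    have a2 := card_le_sq (W := (⊤ : AddSubgroup V)) h2 hx (fun _ _ => AddSubgroup.mem_top _)
    have a3 := card_eq x (⊤ : AddSubgroup V)
    have a4 := map_dl_le (W := (⊤ : AddSubgroup V)) h2 hx (fun _ _ => AddSubgroup.mem_top _)
    rw [top_inf_eq] at a1 a2 a3 a4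
    rw [e1] at a1 a2 a3
    have a5 : Nat.card (fx V x) ^ 2 = Nat.card V := le_antisymm a1 a2
    refine ⟨a5, ?_⟩
    have hpos : 0 < Nat.card (fx V x) := Nat.card_pos
    have a6 : Nat.card ↥((⊤ : AddSubgroup V).map (dl V x)) = Nat.card (fx V x) := by
      rw [← a5, pow_two] at a3
      exact (Nat.eq_of_mul_eq_mul_left hpos a3).symm
    exact AddSubgroup.eq_of_le_of_card_ge a4 a6.ge
  obtain ⟨k0, m0⟩ := key x₀ d₀ hx₀ hd₀ ho₀ h0
  obtain ⟨k1, m1⟩ := key x₁ d₁ hx₁ hd₁ ho₁ h1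
  -- `|C(x₀) ⊓ C(x₁)|² ≤ |C(x₀)|`
  have k2 : Nat.card ↥(fx V x₀ ⊓ fx V x₁) ^ 2 ≤ Nat.card (fx V x₀) := by
    apply sq_le hx₁ hd₁ ho₁
    · intro v hv
      show x₀ • (d₁ • v) = d₁ • v
      rw [← mul_smul, h01, mul_smul, show x₀ • v = v from hv]
    · intro v _; exact h1 v
  -- `|C(x₀)| |C(x₁)| ≤ |C(x₀) ⊓ C(x₁)| |C(x₀) ⊔ C(x₁)|`
  have k3 : Nat.card (fx V x₀) * Nat.card (fx V x₁) ≤
      Nat.card ↥(fx V x₀ ⊓ fx V x₁) * Nat.card ↥(fx V x₀ ⊔ fx V x₁) := by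
    have b1 : Nat.card ↥(fx V x₀ ⊓ fx V x₁) * (fx V x₁).relIndex (fx V x₀) = Nat.card (fx V x₀) := by
      rw [← AddSubgroup.inf_relIndex_right, inf_comm (fx V x₁)]
      rw [← AddSubgroup.relIndex_bot_left, ← AddSubgroup.relIndex_bot_left]
      exact AddSubgroup.relIndex_mul_relIndex _ _ _ bot_le inf_le_left
    have b2 : Nat.card (fx V x₁) * (fx V x₁).relIndex (fx V x₀ ⊔ fx V x₁) = Nat.card ↥(fx V x₀ ⊔ fx V x₁) := by
      rw [← AddSubgroup.relIndex_bot_left, ← AddSubgroup.relIndex_bot_left]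
      exact AddSubgroup.relIndex_mul_relIndex _ _ _ bot_le le_sup_right
    have b3 : (fx V x₁).relIndex (fx V x₀) ≤ (fx V x₁).relIndex (fx V x₀ ⊔ fx V x₁) :=
      AddSubgroup.relIndex_le_of_le_right le_sup_left (by
        rw [AddSubgroup.relIndex]; exact AddSubgroup.FiniteIndex.index_ne_zero)
    calc Nat.card (fx V x₀) * Nat.card (fx V x₁)
        = Nat.card ↥(fx V x₀ ⊓ fx V x₁) * (fx V x₁).relIndex (fx V x₀) * Nat.card (fx V x₁) := by rw [b1]
      _ ≤ Nat.card ↥(fx V x₀ ⊓ fx V x₁) * (fx V x₁).relIndex (fx V x₀ ⊔ fx V x₁) * Nat.card (fx V x₁) :=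
          Nat.mul_le_mul_right _ (Nat.mul_le_mul_left _ b3)
      _ = Nat.card ↥(fx V x₀ ⊓ fx V x₁) * Nat.card ↥(fx V x₀ ⊔ fx V x₁) := by rw [← b2]; ring
  -- `|C(x₀) ⊔ C(x₁)| ≤ 4 |D|`
  have k4 : Nat.card ↥(fx V x₀ ⊔ fx V x₁) ≤ 4 * Nat.card D := by
    let F : D × (ZMod 2 × ZMod 2) → V := fun p => (p.1 : V) + (p.2.1.val • c₀ + p.2.2.val • c₁)
    have hcov : ∀ v ∈ fx V x₀ ⊔ fx V x₁, v ∈ Set.range F := by
      intro v hv
      obtain ⟨u, hu, u', hu', rfl⟩ := AddSubgroup.mem_sup.1 hv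
      rw [← m0] at hu
      rw [← m1] at hu'
      obtain ⟨y, -, rfl⟩ := hu
      obtain ⟨y', -, rfl⟩ := hu'
      have c1 : ∃ (p : D) (i : ZMod 2), dl V x₀ y = p + i.val • c₀ := by
        rcases hD₀ y with h | h
        · exact ⟨⟨_, h⟩, 0, by simp [dl_apply]⟩
        · refine ⟨⟨_, h⟩, 1, ?_⟩
          rw [dl_apply, ZMod.val_one, one_smul]; exact (sub_add_cancel _ _).symm
      have c2 : ∃ (p : D) (i : ZMod 2), dl V x₁ y' = p + i.val • c₁ := by
        rcases hD₁ y' with h | h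
        · exact ⟨⟨_, h⟩, 0, by simp [dl_apply]⟩
        · refine ⟨⟨_, h⟩, 1, ?_⟩
          rw [dl_apply, ZMod.val_one, one_smul]; exact (sub_add_cancel _ _).symm
      obtain ⟨p, i, hp⟩ := c1
      obtain ⟨p', i', hp'⟩ := c2
      refine ⟨(p + p', (i, i')), ?_⟩
      show ((p + p' : D) : V) + (i.val • c₀ + i'.val • c₁) = dl V x₀ y + dl V x₁ y'
      rw [hp, hp', AddSubgroup.coe_add]; abel
    have hsub : ((fx V x₀ ⊔ fx V x₁ : AddSubgroup V) : Set V) ⊆ Set.range F := hcov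
    have hfin : (Set.range F).Finite := Set.toFinite _
    have c3 := Set.ncard_le_ncard hsub hfin
    have c4 : (Set.range F).ncard ≤ Nat.card (D × (ZMod 2 × ZMod 2)) := by
      rw [← Set.image_univ, ← Set.ncard_univ]
      exact Set.ncard_image_le Set.finite_univ
    have c5 : Nat.card (D × (ZMod 2 × ZMod 2)) = 4 * Nat.card D := by
      rw [Nat.card_prod, Nat.card_prod, Nat.card_zmod]; ring
    have c6 : ((fx V x₀ ⊔ fx V x₁ : AddSubgroup V) : Set V).ncard = Nat.card ↥(fx V x₀ ⊔ fx V x₁) :=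
      (Nat.card_coe_set_eq _).symm
    rw [← c5, ← c6]
    exact c3.trans c4
  -- conclusion
  have hn : Nat.card V = Nat.card (fx V x₀) * Nat.card (fx V x₁) := by
    have : Nat.card (fx V x₀) = Nat.card (fx V x₁) := by
      have h := k0.trans k1.symm
      exact Nat.pow_left_injective (n := 2) (by norm_num) h
    rw [← k0, pow_two]; nth_rewrite 2 [this]; rfl
  rw [← hn] at k3
  have k5 : Nat.card V ≤ Nat.card ↥(fx V x₀ ⊓ fx V x₁) * (4 * Nat.card D) :=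
    k3.trans (Nat.mul_le_mul_left _ k4)
  have k6 : Nat.card ↥(fx V x₀ ⊓ fx V x₁) ^ 4 ≤ Nat.card V := by
    calc Nat.card ↥(fx V x₀ ⊓ fx V x₁) ^ 4 = (Nat.card ↥(fx V x₀ ⊓ fx V x₁) ^ 2) ^ 2 := by ring
      _ ≤ Nat.card (fx V x₀) ^ 2 := Nat.pow_le_pow_left k2 2
      _ = Nat.card V := k0
  have hVpos : 0 < Nat.card V := Nat.card_pos
  have k7 : Nat.card V ^ 4 ≤ Nat.card V * (4 * Nat.card D) ^ 4 := by
    calc Nat.card V ^ 4 ≤ (Nat.card ↥(fx V x₀ ⊓ fx V x₁) * (4 * Nat.card D)) ^ 4 := Nat.pow_le_pow_left k5 4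
      _ = Nat.card ↥(fx V x₀ ⊓ fx V x₁) ^ 4 * (4 * Nat.card D) ^ 4 := by rw [mul_pow]
      _ ≤ _ := Nat.mul_le_mul_right _ k6
  have k8 : Nat.card V * Nat.card V ^ 3 ≤ Nat.card V * (4 * Nat.card D) ^ 4 := by
    calc Nat.card V * Nat.card V ^ 3 = Nat.card V ^ 4 := by ring
      _ ≤ _ := k7
  exact Nat.le_of_mul_le_mul_left k8 hVpos

end Cfsg.Agent.Omega.EH3.OddLin
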