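import Cfsg.Agent.S1349
import Cfsg.Agent.Omega.EH3.OddLin
import Mathlib.GroupTheory.FixedPointFree

/-!
# THEOREM OD (helper393, OMEGA #11558 (B)); typed by helper950

`H` finite, faithful on the elementary abelian `2`-group `V`, `X ≤ H` elementary abelian with `C_V(X) = {0, a}`,
`|V| = 2^(2w)`, `w ≥ 5`, and `D ≤ V` of order at most `2^w` with `[v, x] ∈ D ∪ ([c, x] + D)` for all `v`, `x`.
An `X`-invariant (solvable) subgroup `R` of odd order is trivial, or of order `3`, fixed point free on `V`, and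
inverted by some `x ∈ X` with `X = C_X(R) ∪ C_X(R) x`.

* `fix_or`: an `X`-invariant `R` of odd order acts trivially or without fixed points (`C_V(X) = {0, a}` only).
* `dih`: the output of Thompson's dihedral lemma in elements.
* `result`: the theorem.
-/

set_option autoImplicit false

namespace Cfsg.Agent.Omega.EH3.OddOne

open Cfsg.Agent.Omega.EH3.OddLin

variable {H : Type*} [Group H] {V : Type*} [AddCommGroup V] [DistribMulAction H V]

/-- A `2`-group has a nonzero fixed point on every nonzero invariant subgroup. -/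
theorem exists_fix [Finite H] [Finite V] (h2 : ∀ v : V, v + v = 0) {X : Subgroup H} (hX : IsPGroup 2 X)
    (W : AddSubgroup V) (hW : ∀ x ∈ X, ∀ v ∈ W, x • v ∈ W) {w : V} (hw : w ∈ W) (hw0 : w ≠ 0) :
    ∃ v ∈ W, v ≠ 0 ∧ ∀ x ∈ X, x • v = v := by
  letI : MulAction X W := {
    smul := fun x v => ⟨(x : H) • (v : V), hW x x.2 v v.2⟩
    one_smul := fun v => Subtype.ext (one_smul H (v : V))
    mul_smul := fun x y v => Subtype.ext (mul_smul (x : H) (y : H) (v : V)) }
  have hd : 2 ∣ Nat.card W := by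
    have h3 : addOrderOf (⟨w, hw⟩ : W) = 2 := by
      apply addOrderOf_eq_prime
      · apply Subtype.ext
        show (2 : ℕ) • w = 0
        rw [two_nsmul]; exact h2 w
      · intro h; exact hw0 (congrArg Subtype.val h)
    rw [← h3]; exact addOrderOf_dvd_natCard _
  have h0 : (0 : W) ∈ MulAction.fixedPoints X W := by
    intro x; exact Subtype.ext (smul_zero (x : H))
  haveI : Fact (Nat.Prime 2) := ⟨Nat.prime_two⟩
  obtain ⟨b, hb, hb0⟩ := hX.exists_fixed_point_of_prime_dvd_card_of_fixed_point W hd h0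
  refine ⟨b, b.2, fun h => hb0 (Subtype.ext h.symm), fun x hx => ?_⟩
  exact congrArg Subtype.val (hb ⟨x, hx⟩)

/-- **(E)** -/
theorem fix_or [Finite H] [Finite V] (h2 : ∀ v : V, v + v = 0) {X R : Subgroup H} (hX : IsPGroup 2 X)
    (hR : Odd (Nat.card R)) (hn : ∀ x ∈ X, ∀ r ∈ R, x * r * x⁻¹ ∈ R) {a : V}
    (hC : ∀ v : V, (∀ x ∈ X, x • v = v) → v = 0 ∨ v = a) :
    (∀ r ∈ R, ∀ v : V, r • v = v) ∨ (∀ v : V, (∀ r ∈ R, r • v = v) → v = 0) := by
  classical
  haveI : Fintype R := Fintype.ofFinite _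
  let T : V →+ V := {
    toFun := fun v => ∑ g : R, (g : H) • v
    map_zero' := by simp
    map_add' := fun u v => by simp only [smul_add, Finset.sum_add_distrib] }
  have hTd : ∀ v, T v = ∑ g : R, (g : H) • v := fun _ => rfl
  have hodd : ∀ v : V, Nat.card R • v = v := by
    intro v
    obtain ⟨m, hm⟩ := hR
    rw [hm, add_smul, one_smul, mul_comm, mul_smul, two_nsmul, h2, smul_zero, zero_add]
  have hTfix : ∀ v, (∀ r ∈ R, r • v = v) → T v = v := by
    intro v hv
    rw [hTd]
    have : ∀ g : R, (g : H) • v = v := fun g => hv g g.2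
    simp only [this, Finset.sum_const, Finset.card_univ]
    rw [← Nat.card_eq_fintype_card]; exact hodd v
  have hTr : ∀ r ∈ R, ∀ v, r • T v = T v := by
    intro r hr v
    rw [hTd, Finset.smul_sum]
    refine Fintype.sum_equiv (Equiv.mulLeft (⟨r, hr⟩ : R)) _ _ (fun g => ?_)
    show r • (g : H) • v = (r * (g : H)) • v
    rw [mul_smul]
  have hTx : ∀ x ∈ X, ∀ v, x • T v = T (x • v) := by
    intro x hx v
    rw [hTd, hTd, Finset.smul_sum]
    have hinv : ∀ r ∈ R, x⁻¹ * r * x ∈ R := by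
      intro r hr
      have := hn x⁻¹ (X.inv_mem hx) r hr
      rwa [inv_inv] at this
    let e : R ≃ R := {
      toFun := fun g => ⟨x * g * x⁻¹, hn x hx g g.2⟩
      invFun := fun g => ⟨x⁻¹ * g * x, hinv g g.2⟩
      left_inv := fun g => Subtype.ext (by show x⁻¹ * (x * g * x⁻¹) * x = g; group)
      right_inv := fun g => Subtype.ext (by show x * (x⁻¹ * g * x) * x⁻¹ = g; group) }
    refine Fintype.sum_equiv e _ _ (fun g => ?_)
    show x • (g : H) • v = (x * g * x⁻¹) • x • v
    rw [← mul_smul, ← mul_smul]; congr 1; group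
  by_contra hcon
  push Not at hcon
  obtain ⟨⟨r, hr, u, hu⟩, ⟨v, hv, hv0⟩⟩ := hcon
  -- the fixed space and the kernel of the norm
  let F : AddSubgroup V := {
    carrier := {v | ∀ r ∈ R, r • v = v}
    zero_mem' := fun r _ => smul_zero r
    add_mem' := fun {a b} ha hb r hr => by
      show r • (a + b) = a + b
      rw [smul_add, ha r hr, hb r hr]
    neg_mem' := fun {a} ha r hr => by
      show r • (-a) = -a
      rw [smul_neg, ha r hr] }
  have hFx : ∀ x ∈ X, ∀ v ∈ F, x • v ∈ F := by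
    intro x hx v hv
    have h3 : T v = v := hTfix v hv
    rw [← h3, hTx x hx]
    intro r hr
    exact hTr r hr _
  have hKx : ∀ x ∈ X, ∀ v ∈ T.ker, x • v ∈ T.ker := by
    intro x hx v hv
    show T (x • v) = 0
    rw [← hTx x hx, show T v = 0 from hv, smul_zero]
  obtain ⟨p, hpF, hp0, hpX⟩ := exists_fix h2 hX F hFx hv hv0
  have hu1 : u - T u ∈ T.ker := by
    show T (u - T u) = 0
    rw [map_sub, hTfix (T u) (fun r hr => hTr r hr u), sub_self]
  have hu0 : u - T u ≠ 0 := by
    intro h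
    have h3 : u = T u := sub_eq_zero.1 h
    apply hu
    rw [h3]; exact hTr r hr u
  obtain ⟨q, hqK, hq0, hqX⟩ := exists_fix h2 hX T.ker hKx hu1 hu0
  have h3 : p = a := (hC p hpX).resolve_left hp0
  have h4 : q = a := (hC q hqX).resolve_left hq0
  have h5 : T p = p := hTfix p hpF
  have h6 : T q = 0 := hqK
  apply hp0
  rw [← h5, h3, ← h4, h6]

/-- complements in an elementary abelian `2`-group -/
theorem exists_compl [Finite H] {X C : Subgroup H} (hXc : ∀ a ∈ X, ∀ b ∈ X, a * b = b * a)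
    (hX2 : ∀ a ∈ X, a * a = 1) (hC : C ≤ X) :
    ∃ A : Subgroup H, A ≤ X ∧ A ⊓ C = ⊥ ∧ ∀ x ∈ X, ∃ a ∈ A, ∃ c ∈ C, x = a * c := by
  classical
  obtain ⟨A, hAm⟩ := Set.Finite.exists_maximal (s := {A : Subgroup H | A ≤ X ∧ A ⊓ C = ⊥}) (Set.toFinite _)
    ⟨⊥, bot_le, bot_inf_eq _⟩
  obtain ⟨⟨hAX, hAC⟩, hmax⟩ := hAm
  refine ⟨A, hAX, hAC, fun x hx => ?_⟩
  by_cases hxA : x ∈ A
  · exact ⟨x, hxA, 1, C.one_mem, (mul_one x).symm⟩
  -- `A ∪ Ax`
  let B : Subgroup H := {
    carrier := {y | y ∈ A ∨ y * x ∈ A}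
    one_mem' := Or.inl A.one_mem
    mul_mem' := by
      rintro y z (hy | hy) (hz | hz)
      · exact Or.inl (A.mul_mem hy hz)
      · right; rw [mul_assoc]; exact A.mul_mem hy hz
      · right
        have hzx : z * x = x * z := hXc z (hAX hz) x hx
        rw [mul_assoc, hzx, ← mul_assoc]; exact A.mul_mem hy hz
      · left
        have h1 : z = (z * x) * x := by rw [mul_assoc, hX2 x hx, mul_one]
        have hzX : z ∈ X := by rw [h1]; exact X.mul_mem (hAX hz) hx
        have h3 : y * z = (y * x) * (z * x) := by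
          have h4 : z * x = x * z := hXc z hzX x hx
          rw [h4, mul_assoc y x, ← mul_assoc x x z, hX2 x hx, one_mul]
        rw [h3]; exact A.mul_mem hy hz
    inv_mem' := by
      rintro y (hy | hy)
      · exact Or.inl (A.inv_mem hy)
      · right
        have hyX : y ∈ X := by
          have h1 : y = (y * x) * x := by rw [mul_assoc, hX2 x hx, mul_one]
          rw [h1]; exact X.mul_mem (hAX hy) hx
        have : y⁻¹ = y := inv_eq_of_mul_eq_one_left (hX2 y hyX)
        rw [this]; exact hy }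
  have hAB : A ≤ B := fun y hy => Or.inl hy
  have hBX : B ≤ X := by
    rintro y (hy | hy)
    · exact hAX hy
    · have h1 : y = (y * x) * x := by rw [mul_assoc, hX2 x hx, mul_one]
      rw [h1]; exact X.mul_mem (hAX hy) hx
  have hxB : x ∈ B := Or.inr (by rw [hX2 x hx]; exact A.one_mem)
  have hBC : B ⊓ C ≠ ⊥ := by
    intro h
    exact hxA (hmax ⟨hBX, h⟩ hAB hxB)
  obtain ⟨y, ⟨hyB, hyC⟩, hy1⟩ := (Subgroup.bot_or_exists_ne_one (B ⊓ C)).resolve_left hBC
  rcases hyB with hyA | hyx
  · exfalso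
    have h3 : y ∈ A ⊓ C := ⟨hyA, hyC⟩
    rw [hAC, Subgroup.mem_bot] at h3
    exact hy1 h3
  · refine ⟨y * x, hyx, y, hyC, ?_⟩
    have h3 : y * x = x * y := hXc y (hC hyC) x hx
    rw [h3, mul_assoc, hX2 y (hC hyC), mul_one]

/-- An involution and a nontrivial element of odd order in a dihedral group of order `2 n`, `n` odd. -/
theorem dih_inv {n : ℕ} (hn : Odd n) {x d : DihedralGroup n} (hx : x * x = 1) (hx1 : x ≠ 1) {m : ℕ} (hm : Odd m)
    (hd : d ^ m = 1) : x * d * x⁻¹ = d⁻¹ := by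
  rcases x with i | i
  · exfalso
    obtain ⟨k, hk⟩ := hn
    have h1 : i + i = 0 := by
      have := hx
      rw [DihedralGroup.r_mul_r, DihedralGroup.one_def] at this
      exact DihedralGroup.r.inj this
    have h2 : (n : ZMod n) * i = 0 := by rw [ZMod.natCast_self, zero_mul]
    have h3 : ((2 * k + 1 : ℕ) : ZMod n) * i = 0 := by rw [← hk]; exact h2
    have h4 : i = 0 := by
      have : ((2 * k + 1 : ℕ) : ZMod n) * i = (k : ZMod n) * (i + i) + i := by push_cast; ring
      rw [this, h1, mul_zero, zero_add] at h3; exact h3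
    apply hx1
    rw [h4]; rfl
  · rcases d with j | j
    · rw [DihedralGroup.sr_mul_r, DihedralGroup.inv_sr, DihedralGroup.sr_mul_sr, DihedralGroup.inv_r]
      congr 1; ring
    · exfalso
      obtain ⟨k, rfl⟩ := hm
      rw [pow_succ, pow_mul, pow_two, DihedralGroup.sr_mul_self, one_pow, one_mul, DihedralGroup.one_def] at hd
      cases hd

/-- The output of Thompson's lemma, in elements. -/
theorem dih [Finite H] {R A : Subgroup H} (hR : Odd (Nat.card R)) (hs : Group.IsSolvable R)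
    (hA : Cfsg.IsElementaryAbelian 2 A) {k : ℕ} (hk : 1 ≤ k) (hAk : Nat.card A = 2 ^ k)
    (hn : A ≤ Subgroup.normalizer (R : Set H)) (hf : A ⊓ Subgroup.centralizer (R : Set H) = ⊥) :
    ∃ x d : Fin k → H, (∀ i, x i ∈ A ∧ x i * x i = 1 ∧ d i ∈ R ∧ d i ≠ 1 ∧ x i * d i * (x i)⁻¹ = (d i)⁻¹) ∧
      (∀ i j, i ≠ j → x i * d j = d j * x i) ∧ A = Subgroup.closure (Set.range x) := by
  obtain ⟨Ai, Li, n, h1, h2, h3⟩ := Cfsg.Agent.S1349.result R A hs hR hA k hk hAk hn hf
  have hex : ∀ i, ∃ x d : H, x ∈ Ai i ∧ x * x = 1 ∧ (∀ y ∈ Ai i, y = 1 ∨ y = x) ∧ d ∈ Li i ∧ d ≠ 1 ∧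
      x * d * x⁻¹ = d⁻¹ := by
    intro i
    obtain ⟨hAiA, hc2, hLiR, hodd, hn3, ⟨e⟩⟩ := h1 i
    haveI : Nontrivial (Ai i) := Finite.one_lt_card_iff_nontrivial.1 (by rw [hc2]; norm_num)
    obtain ⟨⟨x, hx⟩, hx1⟩ := exists_ne (1 : Ai i)
    have hx1' : x ≠ 1 := fun h => hx1 (Subtype.ext h)
    have hx2 : x * x = 1 := by
      rw [← pow_two]; exact hA.2 x (hAiA hx)
    have hall : ∀ y ∈ Ai i, y = 1 ∨ y = x := by
      intro y hy
      by_contra hcon
      push Not at hcon
      have h4 : ({1, x, y} : Set H) ⊆ (Ai i : Set H) := by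
        intro z hz
        rcases hz with rfl | rfl | rfl
        · exact (Ai i).one_mem
        · exact hx
        · exact hy
      have h5 : ({1, x, y} : Set H).ncard = 3 := by
        rw [Set.ncard_eq_three]
        exact ⟨1, x, y, hx1'.symm, hcon.1.symm, hcon.2.symm, rfl⟩
      have h6 := Set.ncard_le_ncard h4 (Set.toFinite _)
      have h7 : ((Ai i : Set H)).ncard = 2 := by rw [← Nat.card_coe_set_eq]; exact hc2
      omega
    have hLi : Li i ≠ ⊥ := by
      intro h
      have h4 : Nat.card ↥(Ai i ⊔ Li i) = 2 * n i := by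
        rw [Nat.card_congr e.toEquiv, DihedralGroup.nat_card]
      rw [h, sup_bot_eq, hc2] at h4
      omega
    obtain ⟨d, hd, hd1⟩ := (Subgroup.bot_or_exists_ne_one (Li i)).resolve_left hLi
    refine ⟨x, d, hx, hx2, hall, hd, hd1, ?_⟩
    have hxs : x ∈ Ai i ⊔ Li i := (le_sup_left : Ai i ≤ Ai i ⊔ Li i) hx
    have hds : d ∈ Ai i ⊔ Li i := (le_sup_right : Li i ≤ Ai i ⊔ Li i) hd
    have h5 := dih_inv hodd (x := e ⟨x, hxs⟩) (d := e ⟨d, hds⟩)
      (by rw [← map_mul, ← map_one e]; congr 1; exact Subtype.ext hx2)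
      (by
        intro h
        have h6 := (map_eq_one_iff e e.injective).1 h
        exact hx1' (congrArg Subtype.val h6))
      hR
      (by
        rw [← map_pow, ← map_one e]; congr 1
        apply Subtype.ext
        show d ^ Nat.card R = 1
        have h6 : (⟨d, hLiR hd⟩ : R) ^ Nat.card R = 1 := pow_card_eq_one'
        exact congrArg Subtype.val h6)
    rw [← map_mul, ← map_inv, ← map_mul, ← map_inv] at h5
    exact congrArg Subtype.val (e.injective h5)
  choose x d hx hx2 hall hd hd1 hxd using hex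
  refine ⟨x, d, fun i => ⟨(h1 i).1 (hx i), hx2 i, (h1 i).2.2.1 (hd i), hd1 i, hxd i⟩, fun i j hij => ?_, ?_⟩
  · exact h3 i j hij _ ((le_sup_left : Ai i ≤ Ai i ⊔ Li i) (hx i)) _ ((le_sup_right : Li j ≤ Ai j ⊔ Li j) (hd j))
  · apply le_antisymm
    · rw [← h2]
      refine iSup_le fun i y hy => ?_
      rcases hall i y hy with rfl | rfl
      · exact Subgroup.one_mem _
      · exact Subgroup.subset_closure ⟨i, rfl⟩
    · rw [Subgroup.closure_le]
      rintro _ ⟨i, rfl⟩
      exact (h1 i).1 (hx i)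

/-- **THEOREM OD.** -/
theorem result [Finite H] [Finite V] (h2 : ∀ v : V, v + v = 0) (hf : ∀ h : H, (∀ v : V, h • v = v) → h = 1)
    {X R : Subgroup H} (hX : Cfsg.IsElementaryAbelian 2 X) (hR : Odd (Nat.card R)) (hs : Group.IsSolvable R)
    (hn : X ≤ Subgroup.normalizer (R : Set H)) {a : V} (ha : a ≠ 0) (hXa : ∀ x ∈ X, x • a = a)
    (hC : ∀ v : V, (∀ x ∈ X, x • v = v) → v = 0 ∨ v = a) {w : ℕ} (hw : 5 ≤ w)
    (hV : Nat.card V = 2 ^ (2 * w)) (D : AddSubgroup V) (hD : Nat.card D ≤ 2 ^ w) (c : V)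
    (hcD : ∀ x ∈ X, ∀ v : V, x • v - v ∈ D ∨ (x • v - v) - (x • c - c) ∈ D) :
    R = ⊥ ∨ (Nat.card R = 3 ∧ (∀ r ∈ R, r ≠ 1 → ∀ v : V, r • v = v → v = 0) ∧
      ∃ x ∈ X, (∀ r ∈ R, x * r * x⁻¹ = r⁻¹) ∧
        ∀ y ∈ X, y ∈ Subgroup.centralizer (R : Set H) ∨ y * x ∈ Subgroup.centralizer (R : Set H)) := by
  classical
  have hXc : ∀ u ∈ X, ∀ v ∈ X, u * v = v * u := fun u hu v hv =>
    congrArg Subtype.val (hX.1.is_comm.comm (⟨u, hu⟩ : X) ⟨v, hv⟩)
  have hX2 : ∀ u ∈ X, u * u = 1 := fun u hu => by rw [← pow_two]; exact hX.2 u hu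
  have hXp : IsPGroup 2 X := fun u => ⟨1, Subtype.ext (by
    show (u : H) ^ (2 ^ 1) = 1
    rw [pow_one]; exact hX.2 u u.2)⟩
  have hn' : ∀ x ∈ X, ∀ r ∈ R, x * r * x⁻¹ ∈ R := fun x hx r hr =>
    (Subgroup.mem_normalizer_iff.1 (hn hx) r).1 hr
  -- `(E)` for cyclic groups
  have hE : ∀ d ∈ R, d ≠ 1 → (∀ x ∈ X, x * d * x⁻¹ ∈ Subgroup.zpowers d) → ∀ v : V, d • v = v → v = 0 := by
    intro d hd hd1 hxd v hv
    have hodd : Odd (Nat.card (Subgroup.zpowers d)) :=
      hR.of_dvd_nat (Subgroup.card_dvd_of_le ((Subgroup.zpowers_le).2 hd))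
    have hfix : ∀ g ∈ Subgroup.zpowers d, ∀ u : V, d • u = u → g • u = u := by
      intro g hg u hu
      obtain ⟨m, rfl⟩ := (mem_powers_iff_mem_zpowers (x := d)).2 hg
      clear hg
      induction m with
      | zero => simp
      | succ m ih =>
        show d ^ (m + 1) • u = u
        rw [pow_succ, mul_smul, hu]; exact ih
    rcases fix_or (R := Subgroup.zpowers d) h2 hXp hodd (fun x hx r hr => by
      obtain ⟨m, rfl⟩ := hr
      show x * d ^ m * x⁻¹ ∈ _
      rw [← conj_zpow]
      exact Subgroup.zpow_mem _ (hxd x hx) m) hC with h | h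
    · exact absurd (hf d (fun u => h d (Subgroup.mem_zpowers d) u)) hd1
    · exact h v (fun r hr => hfix r hr v hv)
  -- `C_R(X) = 1`
  have hCR : ∀ r ∈ R, (∀ x ∈ X, x * r = r * x) → r = 1 := by
    intro r hr hxr
    by_contra hr1
    have h3 : ∀ x ∈ X, x • (r • a) = r • a := by
      intro x hx
      rw [← mul_smul, hxr x hx, mul_smul, hXa x hx]
    have h4 : r • a = a := by
      rcases hC _ h3 with h | h
      · exfalso
        apply ha
        have h5 : r⁻¹ • (r • a) = r⁻¹ • (0 : V) := by rw [h]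
        rwa [inv_smul_smul, smul_zero] at h5
      · exact h
    refine ha (hE r hr hr1 (fun x hx => ?_) a h4)
    rw [hxr x hx, mul_inv_cancel_right]
    exact Subgroup.mem_zpowers r
  -- the complement
  have hCX : X ⊓ Subgroup.centralizer (R : Set H) ≤ X := inf_le_left
  obtain ⟨A, hAX, hAC, hAdec⟩ := exists_compl hXc hX2 hCX
  have hcen : ∀ c ∈ X ⊓ Subgroup.centralizer (R : Set H), ∀ r ∈ R, c * r = r * c := by
    intro c hc r hr
    exact (Subgroup.mem_centralizer_iff.1 hc.2 r hr).symm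
  have hAp : IsPGroup 2 A := hXp.to_le hAX
  obtain ⟨k, hk⟩ := hAp.exists_card_eq
  have hAel : Cfsg.IsElementaryAbelian 2 A :=
    ⟨⟨⟨fun u v => Subtype.ext (hXc u (hAX u.2) v (hAX v.2))⟩⟩, fun u hu => hX.2 u (hAX hu)⟩
  by_cases hk0 : k = 0
  · left
    rw [hk0, pow_zero] at hk
    have hA1 : A = ⊥ := Subgroup.card_eq_one.1 hk
    rw [Subgroup.eq_bot_iff_forall]
    intro r hr
    refine hCR r hr fun x hx => ?_
    obtain ⟨u, hu, c', hc', rfl⟩ := hAdec x hx
    rw [hA1, Subgroup.mem_bot] at hu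
    rw [hu, one_mul]; exact hcen c' hc' r hr
  have hfA : A ⊓ Subgroup.centralizer (R : Set H) = ⊥ := by
    rw [← hAC, ← inf_assoc, inf_eq_left.2 hAX]
  obtain ⟨x, d, h1, h3, h4⟩ := dih hR hs hAel (Nat.one_le_iff_ne_zero.2 hk0) hk (hAX.trans hn) hfA
  -- `X` normalises `⟨d i⟩`
  have hXd : ∀ i, ∀ y ∈ X, y * d i * y⁻¹ ∈ Subgroup.zpowers (d i) := by
    intro i
    have hA1 : ∀ y ∈ A, y * d i * y⁻¹ = d i ∨ y * d i * y⁻¹ = (d i)⁻¹ := by
      intro y hy
      rw [h4] at hy
      induction hy using Subgroup.closure_induction with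
      | mem y hy =>
        obtain ⟨j, rfl⟩ := hy
        by_cases hji : j = i
        · subst hji; right; exact (h1 j).2.2.2.2
        · left; rw [h3 j i hji, mul_inv_cancel_right]
      | one => left; group
      | mul y z _ _ hy hz =>
        have e1 : y * z * d i * (y * z)⁻¹ = y * (z * d i * z⁻¹) * y⁻¹ := by group
        have e2 : y * (d i)⁻¹ * y⁻¹ = (y * d i * y⁻¹)⁻¹ := by group
        rw [e1]
        rcases hz with hz | hz
        · rw [hz]; exact hy
        · rw [hz, e2]
          rcases hy with hy | hy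
          · right; rw [hy]
          · left; rw [hy, inv_inv]
      | inv y _ hy =>
        rcases hy with hy | hy
        · left
          have : y⁻¹ * d i * y⁻¹⁻¹ = y⁻¹ * (y * d i * y⁻¹) * y := by rw [hy]; group
          rw [this]; group
        · right
          have : y⁻¹ * d i * y⁻¹⁻¹ = (y⁻¹ * (y * d i * y⁻¹) * y)⁻¹ := by rw [hy]; group
          rw [this]; group
    intro y hy
    obtain ⟨u, hu, c', hc', rfl⟩ := hAdec y hy
    have e1 : u * c' * d i * (u * c')⁻¹ = u * d i * u⁻¹ := by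
      have e2 := hcen c' hc' (d i) (h1 i).2.2.1
      calc u * c' * d i * (u * c')⁻¹ = u * (c' * d i) * c'⁻¹ * u⁻¹ := by group
        _ = u * d i * u⁻¹ := by rw [e2]; group
    rw [e1]
    rcases hA1 u hu with h | h
    · rw [h]; exact Subgroup.mem_zpowers _
    · rw [h]; exact Subgroup.inv_mem _ (Subgroup.mem_zpowers _)
  have hdfix : ∀ i, ∀ v : V, d i • v = v → v = 0 := fun i =>
    hE (d i) (h1 i).2.2.1 (h1 i).2.2.2.1 (hXd i)
  have hord : ∀ i, Odd (orderOf (d i)) := by
    intro i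
    have h5 : orderOf (⟨d i, (h1 i).2.2.1⟩ : R) ∣ Nat.card R := orderOf_dvd_natCard _
    rw [Subgroup.orderOf_mk] at h5
    exact hR.of_dvd_nat h5
  by_cases hk2 : 2 ≤ k
  · -- two commuting dihedral groups
    exfalso
    have h5 := pow_four_le (x₀ := x ⟨0, by omega⟩) (d₀ := d ⟨0, by omega⟩) (x₁ := x ⟨1, by omega⟩)
      (d₁ := d ⟨1, by omega⟩) h2 (h1 _).2.1 (h1 _).2.1 (h1 _).2.2.2.2 (h1 _).2.2.2.2 (hord _) (hord _)
      (h3 _ _ (by intro h; exact absurd (congrArg Fin.val h) (by norm_num))) (hdfix _) (hdfix _) D _ _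
      (hcD _ (hAX (h1 _).1)) (hcD _ (hAX (h1 _).1))
    have h6 : (4 * Nat.card D) ^ 4 ≤ 2 ^ (4 * (w + 2)) := by
      calc (4 * Nat.card D) ^ 4 ≤ (4 * 2 ^ w) ^ 4 := Nat.pow_le_pow_left (Nat.mul_le_mul_left _ hD) 4
        _ = 2 ^ (4 * (w + 2)) := by
          rw [show (4 : ℕ) = 2 ^ 2 by norm_num, ← pow_add, ← pow_mul]
          congr 1; ring
    rw [hV, ← pow_mul] at h5
    have h7 := (Nat.pow_le_pow_iff_right (by norm_num : 1 < 2)).1 (h5.trans h6)
    omega
  · -- `|A| = 2`
    have hk1 : k = 1 := by omega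
    subst hk1
    right
    set x₁ := x 0 with hx₁
    have hx₁A : x₁ ∈ A := (h1 0).1
    have hx₁X : x₁ ∈ X := hAX hx₁A
    have hx₁2 : x₁ * x₁ = 1 := (h1 0).2.1
    have hA2 : ∀ u ∈ A, u = 1 ∨ u = x₁ := by
      intro u hu
      rw [h4] at hu
      induction hu using Subgroup.closure_induction with
      | mem y hy =>
        obtain ⟨j, rfl⟩ := hy
        right; rw [hx₁, Subsingleton.elim j 0]
      | one => left; rfl
      | mul y z _ _ hy hz =>
        rcases hy with rfl | rfl <;> rcases hz with rfl | rfl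
        · left; exact one_mul 1
        · right; exact one_mul _
        · right; exact mul_one _
        · left; exact hx₁2
      | inv y _ hy =>
        rcases hy with rfl | rfl
        · left; exact inv_one
        · right; exact inv_eq_of_mul_eq_one_left hx₁2
    -- `X = C ∪ x₁ C`
    have hXdec : ∀ y ∈ X, y ∈ X ⊓ Subgroup.centralizer (R : Set H) ∨
        y * x₁ ∈ X ⊓ Subgroup.centralizer (R : Set H) := by
      intro y hy
      obtain ⟨u, hu, c', hc', rfl⟩ := hAdec y hy
      rcases hA2 u hu with rfl | rfl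
      · left; rw [one_mul]; exact hc'
      · right
        have e1 : x₁ * c' * x₁ = c' := by
          rw [hXc x₁ hx₁X c' hc'.1, mul_assoc, hx₁2, mul_one]
        rw [e1]; exact hc'
    have hCx : ∀ r ∈ R, x₁ * r = r * x₁ → r = 1 := by
      intro r hr hxr
      refine hCR r hr fun y hy => ?_
      rcases hXdec y hy with h | h
      · exact hcen y h r hr
      · have e1 := hcen _ h r hr
        have e2 : y * x₁ * r = y * r * x₁ := by rw [mul_assoc, hxr, ← mul_assoc]
        rw [e2, ← mul_assoc] at e1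
        exact mul_right_cancel e1
    -- `x₁` inverts `R`
    have hinv : ∀ r ∈ R, x₁ * r * x₁⁻¹ = r⁻¹ := by
      let φ : R →* R := {
        toFun := fun r => ⟨x₁ * r * x₁⁻¹, hn' x₁ hx₁X r r.2⟩
        map_one' := Subtype.ext (by show x₁ * 1 * x₁⁻¹ = 1; group)
        map_mul' := fun r s => Subtype.ext (by
          show x₁ * ((r : H) * s) * x₁⁻¹ = (x₁ * r * x₁⁻¹) * (x₁ * s * x₁⁻¹); group) }
      have hφ : MonoidHom.FixedPointFree φ := by
        intro r hr
        have e1 : x₁ * r * x₁⁻¹ = r := congrArg Subtype.val hr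
        exact Subtype.ext (hCx r r.2 (by rw [← mul_inv_eq_iff_eq_mul]; exact e1))
      have hφ2 : Function.Involutive φ := by
        intro r
        apply Subtype.ext
        show x₁ * (x₁ * r * x₁⁻¹) * x₁⁻¹ = r
        have e1 : x₁⁻¹ = x₁ := inv_eq_of_mul_eq_one_left hx₁2
        calc x₁ * (x₁ * r * x₁⁻¹) * x₁⁻¹ = (x₁ * x₁) * r * (x₁⁻¹ * x₁⁻¹) := by group
          _ = r := by rw [e1, hx₁2, one_mul, mul_one]
      have e2 := hφ.coe_eq_inv_of_involutive hφ2
      intro r hr
      exact congrArg Subtype.val (congrFun e2 ⟨r, hr⟩)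
    have hfree : ∀ r ∈ R, r ≠ 1 → ∀ v : V, r • v = v → v = 0 := by
      intro r hr hr1
      refine hE r hr hr1 fun y hy => ?_
      rcases hXdec y hy with h | h
      · rw [hcen y h r hr, mul_inv_cancel_right]; exact Subgroup.mem_zpowers _
      · have e1 := hcen _ h r hr
        have e3 : x₁⁻¹ = x₁ := inv_eq_of_mul_eq_one_left hx₁2
        have e2 : y * r * y⁻¹ = r⁻¹ := by
          have e4 : y = (y * x₁) * x₁ := by rw [mul_assoc, hx₁2, mul_one]
          have e5 : y * x₁ * r⁻¹ = r⁻¹ * (y * x₁) := hcen _ h _ (R.inv_mem hr)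
          calc y * r * y⁻¹ = (y * x₁) * (x₁⁻¹ * r * x₁) * (y * x₁)⁻¹ := by group
            _ = (y * x₁) * r⁻¹ * (y * x₁)⁻¹ := by
              have e6 := hinv r hr
              rw [e3] at e6 ⊢
              rw [e6]
            _ = r⁻¹ := by rw [e5]; group
        rw [e2]; exact Subgroup.inv_mem _ (Subgroup.mem_zpowers _)
    -- `W = C_V(C)`
    let W : AddSubgroup V := {
      carrier := {v | ∀ y ∈ X ⊓ Subgroup.centralizer (R : Set H), y • v = v}
      zero_mem' := fun y _ => smul_zero y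
      add_mem' := fun {u v} hu hv y hy => by
        show y • (u + v) = u + v
        rw [smul_add, hu y hy, hv y hy]
      neg_mem' := fun {u} hu y hy => by
        show y • (-u) = -u
        rw [smul_neg, hu y hy] }
    have hWx : ∀ v ∈ W, x₁ • v ∈ W := by
      intro v hv y hy
      show y • (x₁ • v) = x₁ • v
      rw [← mul_smul, hXc y hy.1 x₁ hx₁X, mul_smul, show y • v = v from hv y hy]
    have hWfix : W ⊓ fx V x₁ ≤ AddSubgroup.zmultiples a := by
      rintro v ⟨hv1, hv2⟩
      have e1 : ∀ y ∈ X, y • v = v := by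
        intro y hy
        rcases hXdec y hy with h | h
        · exact hv1 y h
        · have e2 : (y * x₁) • v = v := hv1 _ h
          rwa [mul_smul, show x₁ • v = v from hv2] at e2
      rcases hC v e1 with h | h
      · rw [h]; exact AddSubgroup.zero_mem _
      · rw [h]; exact AddSubgroup.mem_zmultiples a
    have hW4 : Nat.card W ≤ 4 := by
      have e1 := card_le_sq h2 hx₁2 hWx
      have e2 : Nat.card (AddSubgroup.zmultiples a) = 2 := by
        rw [Nat.card_zmultiples]
        exact addOrderOf_eq_prime (by rw [two_nsmul]; exact h2 a) ha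
      have e3 : Nat.card ↥(W ⊓ fx V x₁) ≤ 2 := by
        rw [← e2]; exact AddSubgroup.card_le_of_le hWfix
      calc Nat.card W ≤ _ := e1
        _ ≤ 2 ^ 2 := Nat.pow_le_pow_left e3 2
        _ = 4 := by norm_num
    have hR3 : Nat.card R + 1 ≤ Nat.card W := by
      let F : Option R → W := fun o => match o with
        | none => 0
        | some r => ⟨(r : H) • a, fun y hy => by
            rw [← mul_smul, hcen y hy r r.2, mul_smul, hXa y hy.1]⟩
      have hF : Function.Injective F := by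
        intro o o' h
        have key : ∀ r : H, r • a ≠ 0 := by
          intro r hr
          apply ha
          have e5 : r⁻¹ • (r • a) = r⁻¹ • (0 : V) := by rw [hr]
          rwa [inv_smul_smul, smul_zero] at e5
        rcases o with _ | r <;> rcases o' with _ | s
        · rfl
        · exact absurd (congrArg Subtype.val h).symm (key s)
        · exact absurd (congrArg Subtype.val h) (key r)
        · have e1 : (r : H) • a = (s : H) • a := congrArg Subtype.val h
          have e2 : ((s : H)⁻¹ * r) • a = a := by rw [mul_smul, e1, inv_smul_smul]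
          by_contra hne
          have e3 : (s : H)⁻¹ * r ≠ 1 := by
            intro e4
            apply hne
            have e5 : (r : H) = s := (inv_mul_eq_one.1 e4).symm
            rw [Subtype.ext e5]
          exact ha (hfree _ (R.mul_mem (R.inv_mem s.2) r.2) e3 a e2)
      have e1 := Nat.card_le_card_of_injective F hF
      rwa [Finite.card_option] at e1
    have hR1 : Nat.card R ≠ 1 := by
      intro h
      have e1 : R = ⊥ := Subgroup.card_eq_one.1 h
      have e2 := (h1 0).2.2.1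
      rw [e1, Subgroup.mem_bot] at e2
      exact (h1 0).2.2.2.1 e2
    refine ⟨?_, hfree, x₁, hx₁X, hinv, fun y hy => ?_⟩
    · obtain ⟨m, hm⟩ := hR
      omega
    · rcases hXdec y hy with h | h
      · exact Or.inl h.2
      · exact Or.inr h.2

end Cfsg.Agent.Omega.EH3.OddOne
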