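import Cfsg.Agent.Omega.EH3.Cfg

/-!
# EH3: duality, `C_V(X) = {0, a}`, the isomorphism `σ`, the trilinear form (helper888)

For `b a c = 1` (a vector off `a^⊥`) and `x ∈ X` put `[c, x] = ρ x c + c`.
* `perp_D` : `D^⊥ = D`;
* `exists_sigma`, `sigma_unique` : `x ↦ [c, x]` is a bijection of `X` onto `a^⊥ / D`;
* `sigma_indep` : modulo `D` it is independent of `c`;
* `fix_X` : `C_V(X) = {0, a}`;
* `T c c' x y t = b ([c, x, y], [c', t])` : independent of `c`, `c'`; symmetric, additive, alternating, nondegenerate.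
-/

set_option autoImplicit false

namespace Cfsg.Agent.Omega.EH3

namespace Cfg

variable {H V : Type*} [Group H] [AddCommGroup V] [Module (ZMod 2) V]
  {ρ : H →* (V ≃ₗ[ZMod 2] V)} {b : LinearMap.BilinForm (ZMod 2) V} {q : V → ZMod 2}
  {a : V} {D : Submodule (ZMod 2) V} {X : Subgroup H} {w : ℕ}

/-! ### duality -/

theorem refl (C : Cfg ρ b q a D X w) : b.IsRefl := fun v u hvu => by rw [C.b_comm]; exact hvu

theorem nondegenerate (C : Cfg ρ b q a D X w) : b.Nondegenerate := by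
  refine ⟨fun v hv => C.nondeg v hv, fun v hv => C.nondeg v fun u => ?_⟩
  rw [C.b_comm]; exact hv u

theorem card_perp (C : Cfg ρ b q a D X w) (W : Submodule (ZMod 2) V) :
    Nat.card W * Nat.card (b.orthogonal W) = Nat.card V := by
  have := C.finite_V
  have : Module.Finite (ZMod 2) V := Module.Finite.of_finite
  have h1 := LinearMap.BilinForm.finrank_orthogonal C.nondegenerate W
  have h2 : Module.finrank (ZMod 2) W ≤ Module.finrank (ZMod 2) V := Submodule.finrank_le W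
  rw [Module.natCard_eq_pow_finrank (K := ZMod 2) (V := V),
    Module.natCard_eq_pow_finrank (K := ZMod 2) (V := W),
    Module.natCard_eq_pow_finrank (K := ZMod 2) (V := b.orthogonal W), ← pow_add, h1]
  congr 1
  omega

theorem mem_perp (_C : Cfg ρ b q a D X w) (W : Submodule (ZMod 2) V) {v : V} :
    v ∈ b.orthogonal W ↔ ∀ u ∈ W, b u v = 0 := LinearMap.BilinForm.mem_orthogonal_iff

theorem perp_perp (C : Cfg ρ b q a D X w) (W : Submodule (ZMod 2) V) :
    b.orthogonal (b.orthogonal W) = W := by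
  have := C.finite_V
  have : Module.Finite (ZMod 2) V := Module.Finite.of_finite
  exact LinearMap.BilinForm.orthogonal_orthogonal C.nondegenerate C.refl W

/-- `v ∈ W` if every vector orthogonal to `W` is orthogonal to `v` -/
theorem mem_of_perp (C : Cfg ρ b q a D X w) (W : Submodule (ZMod 2) V) {v : V}
    (h : ∀ u, (∀ x ∈ W, b x u = 0) → b u v = 0) : v ∈ W := by
  rw [← C.perp_perp W, C.mem_perp]
  intro u hu
  exact h u ((C.mem_perp W).1 hu)

/-- `D^⊥ ≤ D` -/
theorem perp_D (C : Cfg ρ b q a D X w) {v : V} (h : ∀ d ∈ D, b d v = 0) : v ∈ D := by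
  have := C.finite_V
  have h1 := C.card_perp D
  rw [C.card_D, C.card_V, two_mul, pow_add] at h1
  have h2 : Nat.card (b.orthogonal D) = 2 ^ w := Nat.eq_of_mul_eq_mul_left (by positivity) h1
  have hle : D ≤ b.orthogonal D := fun d hd => (C.mem_perp D).2 fun u hu => C.b_D hu hd
  have h3 : D = b.orthogonal D := by
    apply SetLike.coe_injective
    apply Set.eq_of_subset_of_ncard_le hle
    · have e1 : (b.orthogonal D : Set V).ncard = Nat.card (b.orthogonal D) := rfl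
      have e2 : (D : Set V).ncard = Nat.card D := rfl
      rw [e1, e2, h2, C.card_D]
  rw [h3]
  exact (C.mem_perp D).2 h

/-- `(e^⊥)^⊥ = {0, e}` -/
theorem eq_of_perp (C : Cfg ρ b q a D X w) {e d : V} (h : ∀ v, b e v = 0 → b d v = 0) :
    d = 0 ∨ d = e := by
  by_contra hne
  push Not at hne
  obtain ⟨h0, ha⟩ := hne
  obtain ⟨u, hu⟩ : ∃ u, b d u ≠ 0 := by
    by_contra hcon
    push Not at hcon
    exact h0 (C.nondeg d hcon)
  have hw1 : b d u = 1 := zmod_two_ne hu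
  have haw : b e u = 1 := zmod_two_ne fun h1 => hu (h u h1)
  apply ha
  have key : d + e = 0 := by
    apply C.nondeg
    intro v
    rw [map_add, LinearMap.add_apply]
    rcases zmod_two (b e v) with h1 | h1
    · rw [h v h1, h1, add_zero]
    · have h2 : b e (v + u) = 0 := by
        rw [map_add, h1, haw]; decide
      have h3 := h _ h2
      rw [map_add, hw1] at h3
      have h4 : b d v = 1 := by
        have : ∀ x : ZMod 2, x + 1 = 0 → x = 1 := by decide
        exact this _ h3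
      rw [h4, h1]; decide
  exact C.add_eq_zero.1 key

/-- separation: `d ≠ 0, e` gives `v` with `b e v = 0`, `b d v = 1` -/
theorem exists_sep (C : Cfg ρ b q a D X w) {e d : V} (h0 : d ≠ 0) (h1 : d ≠ e) :
    ∃ v, b e v = 0 ∧ b d v = 1 := by
  by_contra hcon
  push Not at hcon
  rcases C.eq_of_perp (e := e) (d := d) (fun v hv => by
    rcases zmod_two (b d v) with h | h
    · exact h
    · exact absurd h (hcon v hv)) with h | h
  · exact h0 h
  · exact h1 h

/-! ### `σ` -/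

theorem two_le_card_X (C : Cfg ρ b q a D X w) : 16 ≤ Nat.card X := by
  rw [C.card_X]
  calc 16 = 2 ^ 4 := by norm_num
    _ ≤ 2 ^ (w - 1) := Nat.pow_le_pow_right (by norm_num) (by have := C.five; omega)

theorem exists_X_ne (C : Cfg ρ b q a D X w) : ∃ x ∈ X, x ≠ 1 := by
  have := C.two_le_card_X
  have h1 : X ≠ ⊥ := by
    rintro rfl
    rw [Subgroup.card_bot] at this
    omega
  obtain ⟨x, hx, hx1⟩ := X.bot_or_exists_ne_one.resolve_left h1
  exact ⟨x, hx, hx1⟩

/-- `x ↦ [c, x]` is onto `a^⊥ / D` -/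
theorem exists_sigma (C : Cfg ρ b q a D X w) {c : V} (hc : b a c = 1) {s : V} (hs : b a s = 0) :
    ∃ x ∈ X, ρ x c + c + s ∈ D := by
  classical
  have hVf := C.finite_V
  have hHf := C.finite_H
  let F : X × D × ZMod 2 → V := fun y => (ρ (y.1 : H) c + c) + (y.2.1 : V) + y.2.2 • c
  have hb : ∀ (x : H) (_ : x ∈ X) (d : V) (_ : d ∈ D) (k : ZMod 2),
      b a ((ρ x c + c) + d + k • c) = k := by
    intro x hx d hd k
    rw [map_add, map_add, map_smul, C.b_a_delta (C.X_a hx), C.b_aD hd, hc, smul_eq_mul, mul_one,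
      zero_add, zero_add]
  have hF : Function.Injective F := by
    rintro ⟨⟨x, hx⟩, ⟨d, hd⟩, k⟩ ⟨⟨y, hy⟩, ⟨e, he⟩, k'⟩ h
    have h1 : (ρ x c + c) + d + k • c = (ρ y c + c) + e + k' • c := h
    have h2 : k = k' := by rw [← hb x hx d hd k, ← hb y hy e he k', h1]
    subst h2
    have h3 : ρ x c + c + d = ρ y c + c + e := add_right_cancel h1
    have h3' : ρ x c = ρ y c + (e + d) := by
      have e1 : ρ x c = ρ x c + c + d + (c + d) := by
        have : ρ x c + c + d + (c + d) = ρ x c + ((c + c) + (d + d)) := by abel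
        rw [this, C.add_self, C.add_self, add_zero, add_zero]
      rw [e1, h3]
      have : ρ y c + c + e + (c + d) = ρ y c + (e + d) + (c + c) := by abel
      rw [this, C.add_self, add_zero]
    have h4 : ρ (y⁻¹ * x) c + c ∈ D := by
      rw [C.ρ_mul, h3', map_add, C.ρ_inv_apply]
      have : c + ρ y⁻¹ (e + d) + c = ρ y⁻¹ (e + d) + (c + c) := by abel
      rw [this, C.add_self, add_zero]
      exact C.X_mem_D (X.inv_mem hy) (D.add_mem he hd)
    have h5 := C.X_semi _ (X.mul_mem (X.inv_mem hy) hx) c hc h4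
    have h6 : x = y := (inv_mul_eq_one.1 h5).symm
    subst h6
    have h7 : d = e := add_left_cancel h3
    subst h7
    rfl
  have hbij := hF.bijective_of_nat_card_le (by
    rw [Nat.card_prod, Nat.card_prod, Nat.card_zmod, C.card_X, C.card_D, C.card_V]
    have h5 := C.five
    apply le_of_eq
    rw [← pow_succ, ← pow_add]
    congr 1
    omega)
  obtain ⟨⟨⟨x, hx⟩, ⟨d, hd⟩, k⟩, h1⟩ := hbij.2 s
  have h2 : (ρ x c + c) + d + k • c = s := h1
  have h3 : k = 0 := by rw [← hb x hx d hd k, h2, hs]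
  refine ⟨x, hx, ?_⟩
  rw [h3, zero_smul, add_zero] at h2
  rw [← h2]
  have : ρ x c + c + (ρ x c + c + d) = d := by
    have : ρ x c + c + (ρ x c + c + d) = d + ((ρ x c + ρ x c) + (c + c)) := by abel
    rw [this, C.add_self, C.add_self, add_zero, add_zero]
  rw [this]
  exact hd

/-- `x` belongs to `s ∈ a^⊥` (with respect to `c`) -/
def Bel (_C : Cfg ρ b q a D X w) (c : V) (x : H) (s : V) : Prop := x ∈ X ∧ ρ x c + c + s ∈ D

theorem exists_bel (C : Cfg ρ b q a D X w) {c : V} (hc : b a c = 1) {s : V} (hs : b a s = 0) :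
    ∃ x, C.Bel c x s := by
  obtain ⟨x, hx, h⟩ := C.exists_sigma hc hs
  exact ⟨x, hx, h⟩

theorem bel_self (C : Cfg ρ b q a D X w) (c : V) {x : H} (hx : x ∈ X) : C.Bel c x (ρ x c + c) :=
  ⟨hx, by rw [C.add_self]; exact D.zero_mem⟩

theorem Bel.perp {C : Cfg ρ b q a D X w} {c : V} {x : H} {s : V} (h : C.Bel c x s) :
    b a s = 0 := by
  have h1 := C.b_aD h.2
  rw [map_add, C.b_a_delta (C.X_a h.1), zero_add] at h1
  exact h1

theorem Bel.unique {C : Cfg ρ b q a D X w} {c : V} (hc : b a c = 1) {x y : H} {s t : V}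
    (hx : C.Bel c x s) (hy : C.Bel c y t) (hst : s + t ∈ D) : x = y := by
  have h1 : ρ x c + ρ y c ∈ D := by
    have h2 := D.add_mem (D.add_mem hx.2 hy.2) hst
    have : ρ x c + c + s + (ρ y c + c + t) + (s + t) =
      ρ x c + ρ y c + ((c + c) + (s + s) + (t + t)) := by abel
    rw [this] at h2
    simp only [C.add_self, add_zero] at h2
    exact h2
  have h4 : ρ (y⁻¹ * x) c + c ∈ D := by
    have e : ρ (y⁻¹ * x) c + c = ρ y⁻¹ (ρ x c + ρ y c) := by
      rw [map_add, C.ρ_mul, C.ρ_inv_apply]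
    rw [e]
    exact C.X_mem_D (X.inv_mem hy.1) h1
  have h5 := C.X_semi _ (X.mul_mem (X.inv_mem hy.1) hx.1) c hc h4
  exact (inv_mul_eq_one.1 h5).symm

theorem Bel.mul {C : Cfg ρ b q a D X w} {c : V} {x y : H} {r s : V} (hx : C.Bel c x r)
    (hy : C.Bel c y s) : C.Bel c (x * y) (r + s) := by
  refine ⟨X.mul_mem hx.1 hy.1, ?_⟩
  have e : ρ (x * y) c + c + (r + s) = ρ x (ρ y c + c + s) + (ρ x c + c + r) + (ρ x s + s) := by
    rw [map_add, map_add, C.ρ_mul]
    have : ρ x (ρ y c) + ρ x c + ρ x s + (ρ x c + c + r) + (ρ x s + s) =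
      ρ x (ρ y c) + c + (r + s) + ((ρ x c + ρ x c) + (ρ x s + ρ x s)) := by abel
    rw [this, C.add_self, C.add_self, add_zero, add_zero]
  rw [e]
  exact D.add_mem (D.add_mem (C.X_mem_D hx.1 hy.2) hx.2) (C.X_perp x hx.1 s hy.perp)

/-- `[d, x] ∈ ⟨a⟩` for `d ∈ D` -/
theorem X_D' (C : Cfg ρ b q a D X w) {x : H} (hx : x ∈ X) {d : V} (hd : d ∈ D) :
    ∃ k : ZMod 2, ρ x d + d = k • a := by
  rcases C.X_D x hx d hd with h | h
  · exact ⟨0, by rw [h, C.add_self, zero_smul]⟩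
  · exact ⟨1, by rw [h, add_right_comm, C.add_self, zero_add, one_smul]⟩

/-- independence of `σ` of `c` modulo `D` -/
theorem Bel.indep {C : Cfg ρ b q a D X w} {c c' : V} (hc : b a c = 1) (hc' : b a c' = 1)
    {x : H} {s : V} (h : C.Bel c x s) : C.Bel c' x s := by
  refine ⟨h.1, ?_⟩
  have h1 : b a (c + c') = 0 := by rw [map_add, hc, hc']; decide
  have h2 := C.X_perp x h.1 _ h1
  have h3 := D.add_mem h.2 h2
  have e : ρ x c + c + s + (ρ x (c + c') + (c + c')) =
      ρ x c' + c' + s + ((ρ x c + ρ x c) + (c + c)) := by rw [map_add]; abel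
  rw [e, C.add_self, C.add_self, add_zero, add_zero] at h3
  exact h3

/-- symmetry of the cross product modulo `⟨a⟩` -/
theorem Bel.cross {C : Cfg ρ b q a D X w} {c : V} {x y : H} {r s : V} (hx : C.Bel c x r)
    (hy : C.Bel c y s) : ∃ k : ZMod 2, ρ x s + s = ρ y r + r + k • a := by
  have h1 : ρ x (ρ y c) = ρ y (ρ x c) := by
    rw [← C.ρ_mul, ← C.ρ_mul, C.X_comm hx.1 hy.1]
  have key : ρ x s + s = ρ y r + r + ((ρ x (ρ y c + c + s) + (ρ y c + c + s)) +
      (ρ y (ρ x c + c + r) + (ρ x c + c + r))) := by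
    rw [map_add, map_add, map_add, map_add, h1]
    have : ρ y r + r + (ρ y (ρ x c) + ρ x c + ρ x s + (ρ y c + c + s) +
        (ρ y (ρ x c) + ρ y c + ρ y r + (ρ x c + c + r))) =
      ρ x s + s + ((ρ y r + ρ y r) + (r + r) + (ρ y (ρ x c) + ρ y (ρ x c)) + (ρ x c + ρ x c) +
        (ρ y c + ρ y c) + (c + c)) := by abel
    rw [this]
    simp only [C.add_self, add_zero]
  obtain ⟨k1, h4⟩ := C.X_D' hx.1 hy.2
  obtain ⟨k2, h5⟩ := C.X_D' hy.1 hx.2
  refine ⟨k1 + k2, ?_⟩
  rw [key, h4, h5, add_smul]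

theorem q_delta (C : Cfg ρ b q a D X w) {x : H} (hx : x ∈ X) {v : V} (hv : b a v = 0) :
    b v (ρ x v + v) = 0 := by
  have h1 := C.q_D _ (C.X_perp x hx v hv)
  rw [C.q_add, C.q_inv, CharTwo.add_self_eq_zero, zero_add] at h1
  rw [map_add, C.b_self, add_zero, C.b_comm]
  exact h1

/-- `b(t, [s, x])` is symmetric in `t, s ∈ a^⊥` -/
theorem b_swap (C : Cfg ρ b q a D X w) {x : H} (hx : x ∈ X) {s t : V} (hs : b a s = 0)
    (ht : b a t = 0) : b t (ρ x s + s) = b s (ρ x t + t) := by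
  have h3 : b a (s + t) = 0 := by rw [map_add, hs, ht, add_zero]
  have h4 := C.q_delta hx h3
  have h5 : ρ x (s + t) + (s + t) = (ρ x s + s) + (ρ x t + t) := by rw [map_add]; abel
  rw [h5, map_add b, LinearMap.add_apply, map_add (b s), map_add (b t), C.q_delta hx hs,
    C.q_delta hx ht, zero_add, add_zero] at h4
  exact (CharTwo.add_eq_zero.1 h4).symm

/-- `b(t, [s, x])` is symmetric in `r, s` -/
theorem Bel.b_cross {C : Cfg ρ b q a D X w} {c : V} {x y : H} {r s t : V} (hx : C.Bel c x r)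
    (hy : C.Bel c y s) (ht : b a t = 0) : b t (ρ x s + s) = b t (ρ y r + r) := by
  obtain ⟨k, h⟩ := hx.cross hy
  rw [h, map_add, map_smul, C.b_comm t a, ht, smul_zero, add_zero]

theorem Bel.b_self {C : Cfg ρ b q a D X w} {c : V} {x : H} {r s : V} (hx : C.Bel c x r)
    (hs : b a s = 0) : b r (ρ x s + s) = 0 := by
  rw [C.b_swap hx.1 hs hx.perp]
  have h2 := C.X_fix_delta hx.1 c
  have h3 : ρ x r + r = ρ x (ρ x c + c + r) + (ρ x c + c + r) := by
    rw [map_add, h2]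
    have : ρ x c + c + ρ x r + (ρ x c + c + r) = ρ x r + r + ((ρ x c + ρ x c) + (c + c)) := by
      abel
    rw [this, C.add_self, C.add_self, add_zero, add_zero]
  rw [h3]
  obtain ⟨k, hk⟩ := C.X_D' hx.1 hx.2
  rw [hk, map_smul, C.b_comm, hs, smul_zero]

/-- `v ∈ a^⊥` fixed by `X` lies in `D` (nondegeneracy of the trilinear form) -/
theorem mem_D_of_fix (C : Cfg ρ b q a D X w) {v : V} (hv : b a v = 0)
    (h : ∀ x ∈ X, ∃ k : ZMod 2, ρ x v + v = k • a) : v ∈ D := by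
  by_contra hD
  obtain ⟨c, hc⟩ := C.exists_off
  obtain ⟨x, hx⟩ := C.exists_bel hc hv
  have hx1 : x ≠ 1 := by
    rintro rfl
    apply hD
    have := hx.2
    rwa [C.ρ_one, C.add_self, zero_add] at this
  obtain ⟨u, hu, hu0, hua⟩ := C.X_T x hx.1 hx1
  obtain ⟨t, ht, hut⟩ := C.exists_sep hu0 hua
  obtain ⟨y, hy⟩ := C.exists_bel hc hu
  have h1 := hx.b_cross hy ht
  obtain ⟨k, hk⟩ := h y hy.1
  rw [hk, map_smul, C.b_comm t a, ht, smul_zero, C.b_comm, hut] at h1
  exact one_ne_zero h1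

/-- **`C_V(X) = {0, a}`** -/
theorem fix_X (C : Cfg ρ b q a D X w) {v : V} (h : ∀ x ∈ X, ρ x v = v) : v = 0 ∨ v = a := by
  rcases zmod_two (b a v) with hv | hv
  · have hD : v ∈ D := C.mem_D_of_fix hv fun x hx => ⟨0, by rw [h x hx, C.add_self, zero_smul]⟩
    by_contra hne
    push Not at hne
    obtain ⟨u, hu, hu1⟩ := C.exists_sep hne.1 hne.2
    obtain ⟨x, hx, hxd⟩ := C.X_all (b u) (by rw [C.b_comm]; exact hu)
    have h2 := hxd v hD
    rw [h x hx, C.b_comm u v, hu1, one_smul] at h2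
    exact C.a_ne (left_eq_add.1 h2)
  · exfalso
    obtain ⟨x, hx, hx1⟩ := C.exists_X_ne
    apply hx1
    apply C.X_semi x hx v hv
    rw [h x hx, C.add_self]
    exact D.zero_mem

/-- a vector fixed by `X` modulo `⟨a⟩` lies in `D` -/
theorem mem_D_of_fix_mod (C : Cfg ρ b q a D X w) {v : V}
    (h : ∀ x ∈ X, ∃ k : ZMod 2, ρ x v + v = k • a) : v ∈ D := by
  rcases zmod_two (b a v) with hv | hv
  · exact C.mem_D_of_fix hv h
  · exfalso
    obtain ⟨x, hx, hx1⟩ := C.exists_X_ne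
    apply hx1
    apply C.X_semi x hx v hv
    obtain ⟨k, hk⟩ := h x hx
    rw [hk]
    exact D.smul_mem _ C.a_mem

/-- a vector fixed by `X` modulo `D` lies in `a^⊥` -/
theorem perp_of_fix_mod (C : Cfg ρ b q a D X w) {v : V} {x : H} (hx : x ∈ X) (hx1 : x ≠ 1)
    (h : ρ x v + v ∈ D) : b a v = 0 := by
  rcases zmod_two (b a v) with hv | hv
  · exact hv
  · exact absurd (C.X_semi x hx v hv h) hx1

/-! ### the trilinear form -/

/-- `T = b([c, x, y], [c', t])` -/
def T (ρ : H →* (V ≃ₗ[ZMod 2] V)) (b : LinearMap.BilinForm (ZMod 2) V) (c c' : V) (x y t : H) :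
    ZMod 2 := b (ρ x (ρ y c + c) + (ρ y c + c)) (ρ t c' + c')

/-- the value of `T` on vectors: `T(y, x, t) = b([v, x], [c', t])` for `v` belonging to `y` -/
theorem T_eq (C : Cfg ρ b q a D X w) {c c' : V} {x y t : H} (hx : x ∈ X) {v : V}
    (hy : C.Bel c y v) (ht : ρ t a = a) : T ρ b c c' x y t = b (ρ x v + v) (ρ t c' + c') := by
  have h0 := C.b_a_delta ht c'
  obtain ⟨k, hk⟩ := C.X_D' hx hy.2
  have e : ρ x (ρ y c + c) + (ρ y c + c) = ρ x v + v + k • a := by
    rw [← hk, map_add (ρ x) _ v]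
    have : ρ x v + v + (ρ x (ρ y c + c) + ρ x v + (ρ y c + c + v)) =
      ρ x (ρ y c + c) + (ρ y c + c) + ((ρ x v + ρ x v) + (v + v)) := by abel
    rw [this, C.add_self, C.add_self, add_zero, add_zero]
  rw [T, e, map_add b, LinearMap.add_apply, map_smul b, LinearMap.smul_apply, h0, smul_zero,
    add_zero]

/-- the value on vectors, all three arguments -/
theorem T_eq' (C : Cfg ρ b q a D X w) {c c' : V} {x y t : H} (hx : x ∈ X) {v u : V}
    (hy : C.Bel c y v) (ht : C.Bel c' t u) : T ρ b c c' x y t = b (ρ x v + v) u := by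
  rw [C.T_eq hx hy (C.X_a ht.1)]
  have h1 : ρ x v + v ∈ D := C.X_perp x hx v hy.perp
  have h2 := C.b_D h1 ht.2
  rw [map_add] at h2
  exact CharTwo.add_eq_zero.1 h2

theorem T_indep (C : Cfg ρ b q a D X w) {c c' e e' : V} {x y t : H} (hx : x ∈ X) (hy : y ∈ X)
    (ht : t ∈ X) (hc : b a c = 1) (hc' : b a c' = 1) (he : b a e = 1) (he' : b a e' = 1) :
    T ρ b c c' x y t = T ρ b e e' x y t := by
  rw [C.T_eq' hx (C.bel_self c hy) (C.bel_self c' ht),
    C.T_eq' hx ((C.bel_self c hy).indep hc he) ((C.bel_self c' ht).indep hc' he')]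

theorem T_swap12 (C : Cfg ρ b q a D X w) {c c' : V} {x y t : H} (hx : x ∈ X) (hy : y ∈ X)
    (ht : t ∈ X) : T ρ b c c' x y t = T ρ b c c' y x t := by
  rw [C.T_eq' hx (C.bel_self c hy) (C.bel_self c' ht),
    C.T_eq' hy (C.bel_self c hx) (C.bel_self c' ht), C.b_comm, C.b_comm _ (ρ t c' + c')]
  exact (C.bel_self c hx).b_cross (C.bel_self c hy) (C.bel_self c' ht).perp

theorem T_swap23 (C : Cfg ρ b q a D X w) {c c' : V} {x y t : H} (hx : x ∈ X) (hy : y ∈ X)
    (ht : t ∈ X) (hc : b a c = 1) (hc' : b a c' = 1) :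
    T ρ b c c' x y t = T ρ b c c' x t y := by
  rw [C.T_indep hx hy ht hc hc' hc hc, C.T_indep hx ht hy hc hc' hc hc,
    C.T_eq' hx (C.bel_self c hy) (C.bel_self c ht),
    C.T_eq' hx (C.bel_self c ht) (C.bel_self c hy), C.b_comm, C.b_comm _ (ρ y c + c)]
  exact C.b_swap hx (C.bel_self c hy).perp (C.bel_self c ht).perp

theorem T_self12 (C : Cfg ρ b q a D X w) {c c' : V} {x t : H} (hx : x ∈ X) :
    T ρ b c c' x x t = 0 := by
  rw [T, C.X_fix_delta hx, C.add_self, map_zero, LinearMap.zero_apply]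

theorem T_self23 (C : Cfg ρ b q a D X w) {c c' : V} {x y : H} (hx : x ∈ X) (hy : y ∈ X)
    (hc : b a c = 1) (hc' : b a c' = 1) : T ρ b c c' x y y = 0 := by
  rw [C.T_indep hx hy hy hc hc' hc hc, C.T_eq' hx (C.bel_self c hy) (C.bel_self c hy), C.b_comm]
  exact C.q_delta hx (C.bel_self c hy).perp

theorem T_mul1 (C : Cfg ρ b q a D X w) {c c' : V} {x x' y t : H} (hx : x ∈ X) (hx' : x' ∈ X)
    (hy : y ∈ X) (ht : t ∈ X) :
    T ρ b c c' (x * x') y t = T ρ b c c' x y t + T ρ b c c' x' y t := by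
  rw [C.T_eq' (X.mul_mem hx hx') (C.bel_self c hy) (C.bel_self c' ht),
    C.T_eq' hx (C.bel_self c hy) (C.bel_self c' ht),
    C.T_eq' hx' (C.bel_self c hy) (C.bel_self c' ht), ← LinearMap.add_apply, ← map_add]
  set v := ρ y c + c with hv
  have hvp : b a v = 0 := (C.bel_self c hy).perp
  -- `[v, x x'] = [v, x] + [v, x'] + [v, x', x]`
  obtain ⟨k, hk⟩ := C.X_D' hx (C.X_perp x' hx' v hvp)
  have e : ρ (x * x') v + v = (ρ x v + v + (ρ x' v + v)) + k • a := by
    rw [← hk, C.ρ_mul, map_add (ρ x) (ρ x' v) v]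
    have : ρ x v + v + (ρ x' v + v) + (ρ x (ρ x' v) + ρ x v + (ρ x' v + v)) =
      ρ x (ρ x' v) + v + ((ρ x v + ρ x v) + (ρ x' v + ρ x' v) + (v + v)) := by abel
    rw [this]
    simp only [C.add_self, add_zero]
  rw [e, map_add b _ (k • a), LinearMap.add_apply, map_smul b, LinearMap.smul_apply,
    (C.bel_self c' ht).perp, smul_zero, add_zero]

theorem T_mul2 (C : Cfg ρ b q a D X w) {c c' : V} {x y y' t : H} (hx : x ∈ X) (hy : y ∈ X)
    (hy' : y' ∈ X) (ht : t ∈ X) :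
    T ρ b c c' x (y * y') t = T ρ b c c' x y t + T ρ b c c' x y' t := by
  rw [C.T_swap12 hx (X.mul_mem hy hy') ht, C.T_mul1 hy hy' hx ht, C.T_swap12 hy hx ht,
    C.T_swap12 hy' hx ht]

theorem T_mul3 (C : Cfg ρ b q a D X w) {c c' : V} {x y t t' : H} (hx : x ∈ X) (hy : y ∈ X)
    (ht : t ∈ X) (ht' : t' ∈ X) (hc : b a c = 1) (hc' : b a c' = 1) :
    T ρ b c c' x y (t * t') = T ρ b c c' x y t + T ρ b c c' x y t' := by
  rw [C.T_swap23 hx hy (X.mul_mem ht ht') hc hc', C.T_mul2 hx ht ht' hy,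
    C.T_swap23 hx ht hy hc hc', C.T_swap23 hx ht' hy hc hc']

/-- the trilinear form is nondegenerate -/
theorem T_nondeg (C : Cfg ρ b q a D X w) {c c' : V} (hc : b a c = 1) (hc' : b a c' = 1) {x : H}
    (hx : x ∈ X) (hx1 : x ≠ 1) : ∃ y ∈ X, ∃ t ∈ X, T ρ b c c' x y t = 1 := by
  obtain ⟨u, hu, hu0, hua⟩ := C.X_T x hx hx1
  obtain ⟨v, hv, huv⟩ := C.exists_sep hu0 hua
  obtain ⟨y, hy⟩ := C.exists_bel hc hu
  obtain ⟨t, ht⟩ := C.exists_bel hc' hv
  exact ⟨y, hy.1, t, ht.1, by rw [C.T_eq' hx hy ht]; exact huv⟩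

/-- `T` is invariant under the stabiliser of `a` -/
theorem T_conj (C : Cfg ρ b q a D X w) {c c' : V} (hc : b a c = 1) (hc' : b a c' = 1) {h : H}
    (ha : ρ h a = a) {x y t : H} (hx : x ∈ X) (hy : y ∈ X) (ht : t ∈ X) :
    T ρ b c c' (h * x * h⁻¹) (h * y * h⁻¹) (h * t * h⁻¹) = T ρ b c c' x y t := by
  have key : ∀ (x : H) (v : V), ρ (h * x * h⁻¹) (ρ h v) + ρ h v = ρ h (ρ x v + v) := by
    intro x v
    rw [C.ρ_mul, C.ρ_mul, C.ρ_inv_apply, map_add]
  rw [C.T_indep (C.X_norm h ha x hx) (C.X_norm h ha y hy) (C.X_norm h ha t ht) hc hc'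
    (e := ρ h c) (e' := ρ h c') (by rw [C.b_a_ρ ha, hc]) (by rw [C.b_a_ρ ha, hc'])]
  rw [T, key, key, key, C.b_inv, T]

end Cfg

end Cfsg.Agent.Omega.EH3
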