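import Cfsg.Agent.Omega.EH3.Conj

/-!
# EH3: THEOREM IMP (helper616, bb #14592)

In the configuration `Cfg` the group `H` preserves no decomposition `V = V₁ ⊕ V₂` (blocks permuted) into two totally
isotropic or two perpendicular subspaces.  (So shapes (iv) and (v) of THEOREM CL are dead, and every normal subgroup with
exactly two homogeneous components is excluded.)
-/

set_option autoImplicit false

namespace Cfsg.Agent.Omega.EH3.Imp

open Subgroup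

variable {H V : Type*} [Group H] [AddCommGroup V] [Module (ZMod 2) V]
  {ρ : H →* (V ≃ₗ[ZMod 2] V)} {b : LinearMap.BilinForm (ZMod 2) V} {q : V → ZMod 2}
  {a : V} {D : Submodule (ZMod 2) V} {X : Subgroup H} {w : ℕ}
  {V₁ V₂ : Submodule (ZMod 2) V} {t : H} {a₁ a₂ : V}

/-- `h` fixes both blocks -/
def St (ρ : H →* (V ≃ₗ[ZMod 2] V)) (V₁ V₂ : Submodule (ZMod 2) V) (h : H) : Prop :=
  (∀ v ∈ V₁, ρ h v ∈ V₁) ∧ ∀ v ∈ V₂, ρ h v ∈ V₂

/-- `h` exchanges the two blocks -/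
def Sw (ρ : H →* (V ≃ₗ[ZMod 2] V)) (V₁ V₂ : Submodule (ZMod 2) V) (h : H) : Prop :=
  (∀ v ∈ V₁, ρ h v ∈ V₂) ∧ ∀ v ∈ V₂, ρ h v ∈ V₁

/-- a decomposition into two blocks, permuted by `H` -/
structure Blk (ρ : H →* (V ≃ₗ[ZMod 2] V)) (V₁ V₂ : Submodule (ZMod 2) V) : Prop where
  inf : ∀ v ∈ V₁, v ∈ V₂ → v = 0
  sup : ∀ v, ∃ v₁ ∈ V₁, ∃ v₂ ∈ V₂, v₁ + v₂ = v
  ne₁ : V₁ ≠ ⊥
  ne₂ : V₂ ≠ ⊥
  perm : ∀ h, St ρ V₁ V₂ h ∨ Sw ρ V₁ V₂ h

theorem St.symm {h : H} (hs : St ρ V₁ V₂ h) : St ρ V₂ V₁ h := ⟨hs.2, hs.1⟩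

theorem Sw.symm {h : H} (hs : Sw ρ V₁ V₂ h) : Sw ρ V₂ V₁ h := ⟨hs.2, hs.1⟩

theorem Blk.symm (B : Blk ρ V₁ V₂) : Blk ρ V₂ V₁ where
  inf := fun v h2 h1 => B.inf v h1 h2
  sup := fun v => by
    obtain ⟨v₁, h1, v₂, h2, h⟩ := B.sup v
    exact ⟨v₂, h2, v₁, h1, by rw [add_comm]; exact h⟩
  ne₁ := B.ne₂
  ne₂ := B.ne₁
  perm := fun h => (B.perm h).imp St.symm Sw.symm

theorem St.mul (C : Cfg ρ b q a D X w) {g h : H} (hg : St ρ V₁ V₂ g) (hh : St ρ V₁ V₂ h) :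
    St ρ V₁ V₂ (g * h) :=
  ⟨fun v hv => by rw [C.ρ_mul]; exact hg.1 _ (hh.1 _ hv),
    fun v hv => by rw [C.ρ_mul]; exact hg.2 _ (hh.2 _ hv)⟩

theorem Sw.mul (C : Cfg ρ b q a D X w) {g h : H} (hg : Sw ρ V₁ V₂ g) (hh : Sw ρ V₁ V₂ h) :
    St ρ V₁ V₂ (g * h) :=
  ⟨fun v hv => by rw [C.ρ_mul]; exact hg.2 _ (hh.1 _ hv),
    fun v hv => by rw [C.ρ_mul]; exact hg.1 _ (hh.2 _ hv)⟩

theorem St.inv (C : Cfg ρ b q a D X w) (B : Blk ρ V₁ V₂) {g : H} (hg : St ρ V₁ V₂ g) :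
    St ρ V₁ V₂ g⁻¹ := by
  rcases B.perm g⁻¹ with h | h
  · exact h
  · exfalso
    obtain ⟨v, hv, hv0⟩ := (Submodule.ne_bot_iff _).1 B.ne₁
    apply hv0
    apply B.inf v hv
    have := hg.2 _ (h.1 v hv)
    rw [C.ρ_apply_inv] at this
    exact this

/-- the situation: `t ∈ X` exchanges the blocks, `a = a₁ + a₂` -/
structure Sit (ρ : H →* (V ≃ₗ[ZMod 2] V)) (b : LinearMap.BilinForm (ZMod 2) V) (q : V → ZMod 2)
    (a : V) (D : Submodule (ZMod 2) V) (X : Subgroup H) (w : ℕ) (V₁ V₂ : Submodule (ZMod 2) V)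
    (t : H) (a₁ a₂ : V) : Prop where
  C : Cfg ρ b q a D X w
  B : Blk ρ V₁ V₂
  tX : t ∈ X
  tsw : Sw ρ V₁ V₂ t
  m₁ : a₁ ∈ V₁
  m₂ : a₂ ∈ V₂
  sum : a₁ + a₂ = a

namespace Sit

theorem uniq (S : Sit ρ b q a D X w V₁ V₂ t a₁ a₂) {u₁ u₂ v₁ v₂ : V} (hu1 : u₁ ∈ V₁)
    (hu2 : u₂ ∈ V₂) (hv1 : v₁ ∈ V₁) (hv2 : v₂ ∈ V₂) (h : u₁ + u₂ = v₁ + v₂) :
    u₁ = v₁ ∧ u₂ = v₂ := by
  have C := S.C
  have h1 : u₁ + v₁ = u₂ + v₂ := by
    have : u₁ + v₁ = (u₁ + u₂) + (u₂ + v₁) := by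
      have : (u₁ + u₂) + (u₂ + v₁) = u₁ + v₁ + (u₂ + u₂) := by abel
      rw [this, C.add_self, add_zero]
    rw [this, h]
    have : v₁ + v₂ + (u₂ + v₁) = u₂ + v₂ + (v₁ + v₁) := by abel
    rw [this, C.add_self, add_zero]
  have h2 := S.B.inf (u₁ + v₁) (V₁.add_mem hu1 hv1) (by rw [h1]; exact V₂.add_mem hu2 hv2)
  have h3 : u₂ + v₂ = 0 := by rw [← h1]; exact h2
  exact ⟨C.add_eq_zero.1 h2, C.add_eq_zero.1 h3⟩

theorem ta₁ (S : Sit ρ b q a D X w V₁ V₂ t a₁ a₂) : ρ t a₁ = a₂ := by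
  have h := S.C.X_a S.tX
  rw [← S.sum, map_add, add_comm] at h
  exact (S.uniq (S.tsw.2 _ S.m₂) (S.tsw.1 _ S.m₁) S.m₁ S.m₂ h).2

theorem ta₂ (S : Sit ρ b q a D X w V₁ V₂ t a₁ a₂) : ρ t a₂ = a₁ := by
  have h := S.C.X_a S.tX
  rw [← S.sum, map_add, add_comm] at h
  exact (S.uniq (S.tsw.2 _ S.m₂) (S.tsw.1 _ S.m₁) S.m₁ S.m₂ h).1

theorem symm (S : Sit ρ b q a D X w V₁ V₂ t a₁ a₂) : Sit ρ b q a D X w V₂ V₁ t a₂ a₁ where
  C := S.C
  B := S.B.symm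
  tX := S.tX
  tsw := S.tsw.symm
  m₁ := S.m₂
  m₂ := S.m₁
  sum := by rw [add_comm]; exact S.sum

theorem tt (S : Sit ρ b q a D X w V₁ V₂ t a₁ a₂) (v : V) : ρ t (ρ t v) = v := by
  rw [← S.C.ρ_mul, S.C.X_sq t S.tX, S.C.ρ_one]

theorem a₁_ne (S : Sit ρ b q a D X w V₁ V₂ t a₁ a₂) : a₁ ≠ 0 := by
  intro h
  apply S.C.a_ne
  rw [← S.sum, ← S.ta₁, h, map_zero, add_zero]

theorem a₂_ne (S : Sit ρ b q a D X w V₁ V₂ t a₁ a₂) : a₂ ≠ 0 := S.symm.a₁_ne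

/-- elements fixing `a` and the blocks fix `a₁` -/
theorem fix₁ (S : Sit ρ b q a D X w V₁ V₂ t a₁ a₂) {g : H} (hg : St ρ V₁ V₂ g)
    (h : ρ g a = a) : ρ g a₁ = a₁ := by
  rw [← S.sum, map_add] at h
  exact (S.uniq (hg.1 _ S.m₁) (hg.2 _ S.m₂) S.m₁ S.m₂ h).1

theorem fix₂ (S : Sit ρ b q a D X w V₁ V₂ t a₁ a₂) {g : H} (hg : St ρ V₁ V₂ g)
    (h : ρ g a = a) : ρ g a₂ = a₂ := S.symm.fix₁ hg.symm h

theorem a_notin₁ (S : Sit ρ b q a D X w V₁ V₂ t a₁ a₂) : a ∉ V₁ := by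
  intro h
  apply S.a₂_ne
  have h1 := S.uniq S.m₁ S.m₂ h V₂.zero_mem (by rw [S.sum, add_zero])
  exact h1.2

/-- (F1) -/
theorem F1 (S : Sit ρ b q a D X w V₁ V₂ t a₁ a₂) {v : V} (hv : v ∈ V₁)
    (h : ∀ x ∈ X, St ρ V₁ V₂ x → ρ x v = v) : v = 0 ∨ v = a₁ := by
  have C := S.C
  have hfix : ∀ x ∈ X, ρ x (v + ρ t v) = v + ρ t v := by
    intro x hx
    rcases S.B.perm x with hs | hs
    · rw [map_add, h x hx hs, ← C.ρ_mul, C.X_comm hx S.tX, C.ρ_mul, h x hx hs]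
    · have h1 : x = x * t * t := by rw [mul_assoc, C.X_sq t S.tX, mul_one]
      have hst : St ρ V₁ V₂ (x * t) := hs.mul C S.tsw
      have hxt := X.mul_mem hx S.tX
      rw [h1, C.ρ_mul, map_add, S.tt, map_add, h _ hxt hst, ← C.ρ_mul (x * t) t,
        C.X_comm hxt S.tX, C.ρ_mul, h _ hxt hst, add_comm]
  rcases C.fix_X hfix with h1 | h1
  · left
    have h2 : v = ρ t v := C.add_eq_zero.1 h1
    exact S.B.inf v hv (by rw [h2]; exact S.tsw.1 v hv)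
  · right
    rw [← S.sum] at h1
    exact (S.uniq hv (S.tsw.1 v hv) S.m₁ S.m₂ h1).1

/-- (F2) -/
theorem F2 (S : Sit ρ b q a D X w V₁ V₂ t a₁ a₂) {v : V} (hv : v ∈ V₁) (hav : b a v = 0) {x : H}
    (hx : x ∈ X) (hs : St ρ V₁ V₂ x) : ρ x v + v = 0 ∨ ρ x v + v = a₁ := by
  have C := S.C
  have hm : ρ x v + v ∈ V₁ := V₁.add_mem (hs.1 v hv) hv
  apply S.F1 hm
  intro y hy hys
  rcases C.X_D y hy _ (C.X_perp x hx v hav) with h | h
  · exact h
  · exfalso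
    apply S.a_notin₁
    have h1 : a = ρ y (ρ x v + v) + (ρ x v + v) := by
      rw [h]
      have : ρ x v + v + a + (ρ x v + v) = a + ((ρ x v + v) + (ρ x v + v)) := by abel
      rw [this, C.add_self, add_zero]
    rw [h1]
    exact V₁.add_mem (hys.1 _ hm) hm

/-- (F3) -/
theorem F3 (S : Sit ρ b q a D X w V₁ V₂ t a₁ a₂) {v : V} (hv : v ∈ V₁) (hav : b a v = 1) {x : H}
    (hx : x ∈ X) (hs : St ρ V₁ V₂ x) (h : ρ x v + v = 0 ∨ ρ x v + v = a₁) : x = 1 := by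
  have C := S.C
  rcases h with h | h
  · exact C.opp hx hav (C.add_eq_zero.1 h)
  · by_contra hx1
    have h1 : ∀ m ∈ V₁, b a m = 0 → ρ x m + m = 0 := by
      intro m hm ham
      rcases S.F2 hm ham hx hs with h2 | h2
      · exact h2
      · exfalso
        apply hx1
        have h3 : b a (v + m) = 1 := by rw [map_add, hav, ham, add_zero]
        apply C.opp hx h3
        apply C.add_eq_zero.1
        have : ρ x (v + m) + (v + m) = (ρ x v + v) + (ρ x m + m) := by rw [map_add]; abel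
        rw [this, h, h2, C.add_self]
    have h2 : ∀ u ∈ V₁, ρ x u + u = b a u • a₁ := by
      intro u hu
      rcases zmod_two (b a u) with h3 | h3
      · rw [h3, zero_smul, h1 u hu h3]
      · rw [h3, one_smul]
        have h4 := h1 (u + v) (V₁.add_mem hu hv) (by rw [map_add, h3, hav]; decide)
        have : ρ x u + u = (ρ x (u + v) + (u + v)) + (ρ x v + v) := by
          have : (ρ x (u + v) + (u + v)) + (ρ x v + v) =
            ρ x u + u + ((ρ x v + ρ x v) + (v + v)) := by rw [map_add]; abel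
          rw [this, C.add_self, C.add_self, add_zero, add_zero]
        rw [this, h4, h, zero_add]
    have h3 : ∀ u ∈ V₂, ρ x u + u = b a u • a₂ := by
      intro u hu
      have h4 := h2 (ρ t u) (S.tsw.2 u hu)
      rw [C.b_a_ρ (C.X_a S.tX)] at h4
      have h5 : ρ t (ρ x (ρ t u) + ρ t u) = ρ x u + u := by
        rw [map_add, S.tt, ← C.ρ_mul, C.X_comm S.tX hx, C.ρ_mul, S.tt]
      rw [← h5, h4, map_smul, S.ta₁]
    obtain ⟨u, hu, hu1, hu2⟩ := C.X_T x hx hx1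
    obtain ⟨u₁, hu₁, u₂, hu₂, rfl⟩ := S.B.sup u
    have h4 : ρ x (u₁ + u₂) + (u₁ + u₂) = (ρ x u₁ + u₁) + (ρ x u₂ + u₂) := by rw [map_add]; abel
    rw [map_add] at hu
    have h5 : b a u₂ = b a u₁ := (CharTwo.add_eq_zero.1 hu).symm
    rw [h4, h2 _ hu₁, h3 _ hu₂, h5, ← smul_add, S.sum] at hu1 hu2
    rcases zmod_two (b a u₁) with h6 | h6
    · apply hu1; rw [h6, zero_smul]
    · apply hu2; rw [h6, one_smul]

/-! ### cardinalities -/

theorem card_V₁ (S : Sit ρ b q a D X w V₁ V₂ t a₁ a₂) : Nat.card V₁ = 2 ^ w := by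
  have C := S.C
  have hfin := C.finite_V
  have e1 : Nat.card V₁ = Nat.card V₂ := by
    apply Nat.card_congr
    refine ⟨fun v => ⟨ρ t v, S.tsw.1 _ v.2⟩, fun v => ⟨ρ t v, S.tsw.2 _ v.2⟩, ?_, ?_⟩
    · intro v; exact Subtype.ext (S.tt _)
    · intro v; exact Subtype.ext (S.tt _)
  have e2 : Nat.card V₁ * Nat.card V₂ = Nat.card V := by
    rw [← Nat.card_prod]
    apply Nat.card_congr
    apply Equiv.ofBijective (fun p : V₁ × V₂ => (p.1 : V) + p.2)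
    constructor
    · rintro ⟨u₁, u₂⟩ ⟨v₁, v₂⟩ h
      have := S.uniq u₁.2 u₂.2 v₁.2 v₂.2 h
      exact Prod.ext (Subtype.ext this.1) (Subtype.ext this.2)
    · intro v
      obtain ⟨v₁, h1, v₂, h2, h⟩ := S.B.sup v
      exact ⟨(⟨v₁, h1⟩, ⟨v₂, h2⟩), h⟩
  rw [← e1, C.card_V, two_mul, pow_add] at e2
  exact Nat.mul_self_inj.1 e2

end Sit

/-- a subset of a subgroup whose complement squares into it has at least half of the elements -/
theorem card_le_two_mul [Finite H] {S T : Subgroup H}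
    (h : ∀ x ∈ S, x ∉ T → ∀ y ∈ S, y ∉ T → x⁻¹ * y ∈ T) : Nat.card S ≤ 2 * Nat.card T := by
  classical
  by_cases hST : S ≤ T
  · have := Nat.card_le_card_of_injective _ (Subgroup.inclusion_injective hST)
    omega
  · obtain ⟨x, hx, hxT⟩ := SetLike.not_le_iff_exists.1 hST
    let f : S → T × Bool := fun y =>
      if hy : (y : H) ∈ T then (⟨y, hy⟩, false) else (⟨x⁻¹ * y, h x hx hxT y y.2 hy⟩, true)
    have hf : Function.Injective f := by
      intro y z hyz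
      by_cases hy : (y : H) ∈ T <;> by_cases hz : (z : H) ∈ T
      · simp only [f, hy, hz, dif_pos, Prod.mk.injEq, Subtype.mk.injEq, and_true] at hyz
        exact Subtype.ext hyz
      · simp [f, hy, hz] at hyz
      · simp [f, hy, hz] at hyz
      · simp only [f, hy, hz, dif_neg, not_false_eq_true, Prod.mk.injEq, Subtype.mk.injEq,
          mul_right_inj, and_true] at hyz
        exact Subtype.ext hyz
    have := Nat.card_le_card_of_injective f hf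
    rw [Nat.card_prod, Nat.card_eq_fintype_card (α := Bool), Fintype.card_bool, mul_comm] at this
    exact this

namespace Sit

/-- `B = N_X(V₁)` -/
def BX (S : Sit ρ b q a D X w V₁ V₂ t a₁ a₂) : Subgroup H where
  carrier := {x | x ∈ X ∧ St ρ V₁ V₂ x}
  one_mem' := ⟨X.one_mem, fun v hv => by rw [S.C.ρ_one]; exact hv,
    fun v hv => by rw [S.C.ρ_one]; exact hv⟩
  mul_mem' := fun hx hy => ⟨X.mul_mem hx.1 hy.1, hx.2.mul S.C hy.2⟩
  inv_mem' := fun hx => ⟨X.inv_mem hx.1, hx.2.inv S.C S.B⟩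

theorem mem_BX (S : Sit ρ b q a D X w V₁ V₂ t a₁ a₂) {x : H} :
    x ∈ S.BX ↔ x ∈ X ∧ St ρ V₁ V₂ x := Iff.rfl

/-- elements of `B` fixing `v` -/
def FX (S : Sit ρ b q a D X w V₁ V₂ t a₁ a₂) (v : V) : Subgroup H where
  carrier := {x | x ∈ S.BX ∧ ρ x v = v}
  one_mem' := ⟨S.BX.one_mem, S.C.ρ_one v⟩
  mul_mem' := fun {x y} hx hy => ⟨S.BX.mul_mem hx.1 hy.1, by rw [S.C.ρ_mul, hy.2, hx.2]⟩
  inv_mem' := fun hx => ⟨S.BX.inv_mem hx.1, S.C.fix_inv hx.2⟩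

theorem mem_FX (S : Sit ρ b q a D X w V₁ V₂ t a₁ a₂) {x : H} {v : V} :
    x ∈ S.FX v ↔ x ∈ S.BX ∧ ρ x v = v := Iff.rfl

theorem card_BX (S : Sit ρ b q a D X w V₁ V₂ t a₁ a₂) : 2 ^ (w - 1) ≤ 2 * Nat.card S.BX := by
  have := S.C.finite_H
  rw [← S.C.card_X]
  apply card_le_two_mul
  intro x hx hxB y hy hyB
  have h1 : Sw ρ V₁ V₂ x := (S.B.perm x).resolve_left fun h => hxB ⟨hx, h⟩
  have h2 : Sw ρ V₁ V₂ y := (S.B.perm y).resolve_left fun h => hyB ⟨hy, h⟩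
  rw [S.C.X_inv hx]
  exact ⟨X.mul_mem hx hy, h1.mul S.C h2⟩

theorem card_FX₁ (S : Sit ρ b q a D X w V₁ V₂ t a₁ a₂) {v : V} (hv : v ∈ V₁) (hav : b a v = 0) :
    2 ^ (w - 1) ≤ 4 * Nat.card (S.FX v) := by
  have := S.C.finite_H
  have C := S.C
  have h1 : Nat.card S.BX ≤ 2 * Nat.card (S.FX v) := by
    apply card_le_two_mul
    intro x hx hxF y hy hyF
    have h1 := (S.F2 hv hav hx.1 hx.2).resolve_left fun h => hxF ⟨hx, C.add_eq_zero.1 h⟩
    have h2 := (S.F2 hv hav hy.1 hy.2).resolve_left fun h => hyF ⟨hy, C.add_eq_zero.1 h⟩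
    refine ⟨S.BX.mul_mem (S.BX.inv_mem hx) hy, ?_⟩
    have h3 : ρ y v = ρ x v := by
      rw [← h1] at h2
      exact add_right_cancel h2
    rw [C.ρ_mul, h3, C.ρ_inv_apply]
  have h2 := S.card_BX
  omega

theorem card_FX₂ (S : Sit ρ b q a D X w V₁ V₂ t a₁ a₂) {v : V} (hv : v ∈ V₂) (hav : b a v = 0) :
    2 ^ (w - 1) ≤ 4 * Nat.card (S.FX v) := by
  have h := S.symm.card_FX₁ hv hav
  have e : S.symm.FX v = S.FX v := by
    ext x
    exact ⟨fun h => ⟨⟨h.1.1, h.1.2.symm⟩, h.2⟩, fun h => ⟨⟨h.1.1, h.1.2.symm⟩, h.2⟩⟩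
  rw [e] at h
  exact h

theorem sixteen_le (S : Sit ρ b q a D X w V₁ V₂ t a₁ a₂) : 16 ≤ 2 ^ (w - 1) := by
  have := S.C.two_le_card_X
  rwa [S.C.card_X] at this

/-- the conjugate situation -/
theorem conj (S : Sit ρ b q a D X w V₁ V₂ t a₁ a₂) {g : H} (hg : St ρ V₁ V₂ g) :
    Sit ρ b q (ρ g a) (Conj.cD ρ g D) (Conj.cX g X) w V₁ V₂ (g * t * g⁻¹) (ρ g a₁) (ρ g a₂) where
  C := Conj.conj S.C g
  B := S.B
  tX := Conj.conj_mem_cX S.tX
  tsw := by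
    have hi := hg.inv S.C S.B
    constructor
    · intro v hv
      rw [S.C.ρ_mul, S.C.ρ_mul]
      exact hg.2 _ (S.tsw.1 _ (hi.1 v hv))
    · intro v hv
      rw [S.C.ρ_mul, S.C.ρ_mul]
      exact hg.1 _ (S.tsw.2 _ (hi.2 v hv))
  m₁ := hg.1 _ S.m₁
  m₂ := hg.2 _ S.m₂
  sum := by rw [← map_add, S.sum]

/-! ### the counting argument -/

theorem core {a' : V} {D' : Submodule (ZMod 2) V} {X' : Subgroup H} {t' : H} {a₁' a₂' : V}
    (S : Sit ρ b q a D X w V₁ V₂ t a₁ a₂) (S' : Sit ρ b q a' D' X' w V₁ V₂ t' a₁' a₂')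
    (hne : ∃ v ∈ V₁, b a v = 1 ∧ b a' v = 0) (hne' : ∃ v ∈ V₁, b a v = 0 ∧ b a' v = 1)
    {Y Y' : Subgroup H} (hY : ∀ y ∈ Y, y ∈ X ∧ St ρ V₁ V₂ y ∧ ρ y a' = a')
    (hY' : ∀ y ∈ Y', y ∈ X' ∧ St ρ V₁ V₂ y ∧ ρ y a = a)
    (hcomm : ∀ y ∈ Y, ∀ z ∈ Y', y * z = z * y) (hc : b a a₁ = 0) (hc' : b a' a₁ = 0)
    (hcard : 2 ^ (w - 1) ≤ 4 * Nat.card Y) : Nat.card Y' ≤ 2 := by
  classical
  have C := S.C
  have hVf := C.finite_V
  have hHf := C.finite_H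
  obtain ⟨v, hv, hav, hav'⟩ := hne
  obtain ⟨v', hv', hbv, hbv'⟩ := hne'
  -- `Y'` centralises `[v, Y]` and `a₁`
  have hfix : ∀ y ∈ Y, ∀ z ∈ Y', ρ z (ρ y v + v) = ρ y v + v := by
    intro y hy z hz
    have h1 : ρ y (ρ z v + v) = ρ z v + v := by
      rcases S'.F2 hv hav' (hY' z hz).1 (hY' z hz).2.1 with h | h
      · rw [h, map_zero]
      · rw [h, S'.fix₁ (hY y hy).2.1 (hY y hy).2.2]
    have h2 : ρ z (ρ y v) = ρ y (ρ z v) := by rw [← C.ρ_mul, ← hcomm y hy z hz, C.ρ_mul]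
    rw [map_add] at h1 ⊢
    rw [h2]
    have h3 : ρ y (ρ z v) = ρ z v + v + ρ y v := by
      rw [← h1, add_assoc, C.add_self, add_zero]
    rw [h3]
    have : ρ z v + v + ρ y v + ρ z v = ρ y v + v + (ρ z v + ρ z v) := by abel
    rw [this, C.add_self, add_zero]
  -- the space `U₀`
  let U₀ : Submodule (ZMod 2) V := V₁ ⊓ LinearMap.ker (b a) ⊓ LinearMap.ker (b a')
  have mU : ∀ u, u ∈ U₀ ↔ (u ∈ V₁ ∧ b a u = 0) ∧ b a' u = 0 := fun u => Iff.rfl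
  have hU : 4 * Nat.card U₀ ≤ 2 ^ w := by
    rw [← S.card_V₁]
    have hinj : Function.Injective (fun p : U₀ × (ZMod 2 × ZMod 2) =>
        (⟨(p.1 : V) + (p.2.1 • v + p.2.2 • v'), V₁.add_mem p.1.2.1.1
          (V₁.add_mem (V₁.smul_mem _ hv) (V₁.smul_mem _ hv'))⟩ : V₁)) := by
      rintro ⟨u, k, l⟩ ⟨u', k', l'⟩ h
      have h1 : (u : V) + (k • v + l • v') = u' + (k' • v + l' • v') := congrArg Subtype.val h
      have e1 : ∀ (u : U₀) (k l : ZMod 2), b a ((u : V) + (k • v + l • v')) = k := by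
        intro u k l
        rw [map_add, map_add, map_smul, map_smul, hav, hbv, u.2.1.2]
        simp
      have e2 : ∀ (u : U₀) (k l : ZMod 2), b a' ((u : V) + (k • v + l • v')) = l := by
        intro u k l
        rw [map_add, map_add, map_smul, map_smul, hav', hbv', u.2.2]
        simp
      have h2 : k = k' := by rw [← e1 u k l, h1, e1]
      have h3 : l = l' := by rw [← e2 u k l, h1, e2]
      subst h2; subst h3
      have h4 := add_right_cancel h1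
      rw [Subtype.ext h4]
    have := Nat.card_le_card_of_injective _ hinj
    rw [Nat.card_prod, Nat.card_prod, Nat.card_zmod] at this
    omega
  -- `[v, Y] + ⟨a₁⟩ = U₀`
  have hm : ∀ y ∈ Y, ∀ k : ZMod 2, ρ y v + v + k • a₁ ∈ U₀ := by
    intro y hy k
    obtain ⟨hyX, hys, hya⟩ := hY y hy
    refine ⟨⟨V₁.add_mem (V₁.add_mem (hys.1 v hv) hv) (V₁.smul_mem _ S.m₁), ?_⟩, ?_⟩
    · show b a _ = 0
      rw [map_add, map_smul, C.b_a_delta (C.X_a hyX), hc, smul_zero, add_zero]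
    · show b a' _ = 0
      rw [map_add, map_smul, S'.C.b_a_delta hya, hc', smul_zero, add_zero]
  have hinj : Function.Injective (fun p : Y × ZMod 2 =>
      (⟨ρ (p.1 : H) v + v + p.2 • a₁, hm p.1 p.1.2 p.2⟩ : U₀)) := by
    rintro ⟨⟨y, hy⟩, k⟩ ⟨⟨z, hz⟩, l⟩ h
    have h1 : ρ y v + v + k • a₁ = ρ z v + v + l • a₁ := congrArg Subtype.val h
    obtain ⟨hyX, hys, hya⟩ := hY y hy
    obtain ⟨hzX, hzs, hza⟩ := hY z hz
    have hx : z⁻¹ * y ∈ X := X.mul_mem (X.inv_mem hzX) hyX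
    have hxs : St ρ V₁ V₂ (z⁻¹ * y) := (hzs.inv C S.B).mul C hys
    have h2 : ρ y v = ρ z v + (k + l) • a₁ := by
      have e : ρ y v = (ρ y v + v + k • a₁) + (v + k • a₁) := by
        have : (ρ y v + v + k • a₁) + (v + k • a₁) = ρ y v + ((v + v) + (k • a₁ + k • a₁)) := by abel
        rw [this, C.add_self, C.add_self, add_zero, add_zero]
      rw [e, h1, add_smul]
      have : (ρ z v + v + l • a₁) + (v + k • a₁) = ρ z v + (k • a₁ + l • a₁) + (v + v) := by abel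
      rw [this, C.add_self, add_zero]
    have h3 : ρ (z⁻¹ * y) v + v = (k + l) • a₁ := by
      rw [C.ρ_mul, h2, map_add, C.ρ_inv_apply, map_smul,
        S.fix₁ (hzs.inv C S.B) (C.X_a (X.inv_mem hzX)), add_right_comm, C.add_self, zero_add]
    have h4 : z⁻¹ * y = 1 := by
      apply S.F3 hv hav hx hxs
      rw [h3]
      rcases zmod_two (k + l) with h5 | h5
      · left; rw [h5, zero_smul]
      · right; rw [h5, one_smul]
    have h5 : y = z := (inv_mul_eq_one.1 h4).symm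
    subst h5
    have h6 : k • a₁ = l • a₁ := add_left_cancel h1
    have h7 : k = l := by
      have h8 : (k + l) • a₁ = 0 := by rw [add_smul, h6, C.add_self]
      rcases smul_eq_zero.1 h8 with h9 | h9
      · exact CharTwo.add_eq_zero.1 h9
      · exact absurd h9 S.a₁_ne
    subst h7
    rfl
  have hbij := hinj.bijective_of_nat_card_le (by
    rw [Nat.card_prod, Nat.card_zmod]
    have h5 := C.five
    have e : 2 ^ w = 2 * 2 ^ (w - 1) := by rw [← pow_succ']; congr 1; omega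
    omega)
  have hcen : ∀ z ∈ Y', ∀ u ∈ U₀, ρ z u = u := by
    intro z hz u hu
    obtain ⟨⟨⟨y, hy⟩, k⟩, h⟩ := hbij.2 ⟨u, hu⟩
    have h1 : ρ y v + v + k • a₁ = u := congrArg Subtype.val h
    rw [← h1, map_add, hfix y hy z hz, map_smul, S.fix₁ (hY' z hz).2.1 (hY' z hz).2.2]
  -- an element of `Y'` fixing `v` is trivial
  have hone : ∀ x ∈ Y', ρ x v = v → x = 1 := by
    intro x hx hxv
    obtain ⟨hxX, hxs, hxa⟩ := hY' x hx
    have h1 : ∀ u ∈ V₁, b a' u = 0 → ρ x u = u := by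
      intro u hu hau
      rcases zmod_two (b a u) with h | h
      · exact hcen x hx u ⟨⟨hu, h⟩, hau⟩
      · have h2 := hcen x hx (u + v) ⟨⟨V₁.add_mem hu hv, by
          show b a (u + v) = 0
          rw [map_add, h, hav]; decide⟩, by
          show b a' (u + v) = 0
          rw [map_add, hau, hav', add_zero]⟩
        rw [map_add, hxv] at h2
        exact add_right_cancel h2
    apply S'.F3 hv' hbv' hxX hxs
    apply S'.F1 (V₁.add_mem (hxs.1 v' hv') hv')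
    intro z hz hzs
    have h2 := h1 (ρ z v' + v') (V₁.add_mem (hzs.1 v' hv') hv') (S'.C.b_a_delta (S'.C.X_a hz) v')
    have h3 : ρ x (ρ z v') = ρ z (ρ x v') := by rw [← C.ρ_mul, ← C.ρ_mul, S'.C.X_comm hxX hz]
    rw [map_add] at h2 ⊢
    rw [← h3]
    have h4 : ρ x (ρ z v') = ρ z v' + v' + ρ x v' := by
      rw [← h2, add_assoc, C.add_self, add_zero]
    rw [h4]
    have : ρ z v' + v' + ρ x v' + ρ z v' = ρ x v' + v' + (ρ z v' + ρ z v') := by abel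
    rw [this, C.add_self, add_zero]
  -- `|Y'| ≤ 2`
  have hinj2 : Function.Injective (fun z : Y' => if ρ (z : H) v = v then (0 : ZMod 2) else 1) := by
    intro z z' h
    have key : ρ (z : H) v = ρ (z' : H) v := by
      have hz := S'.F2 hv hav' (hY' z z.2).1 (hY' z z.2).2.1
      have hz' := S'.F2 hv hav' (hY' z' z'.2).1 (hY' z' z'.2).2.1
      by_cases h1 : ρ (z : H) v = v <;> by_cases h2 : ρ (z' : H) v = v
      · rw [h1, h2]
      · simp [h1, h2] at h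
      · simp [h1, h2] at h
      · have h3 := hz.resolve_left fun h => h1 (C.add_eq_zero.1 h)
        have h4 := hz'.resolve_left fun h => h2 (C.add_eq_zero.1 h)
        rw [← h4] at h3
        exact add_right_cancel h3
    have h5 := hone ((z' : H)⁻¹ * z) (Y'.mul_mem (Y'.inv_mem z'.2) z.2) (by
      rw [C.ρ_mul, key, C.ρ_inv_apply])
    exact Subtype.ext (inv_mul_eq_one.1 h5).symm
  have := Nat.card_le_card_of_injective _ hinj2
  rwa [Nat.card_zmod] at this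

/-! ### (R), totally isotropic case -/

/-- commuting elements -/
theorem comm_of_fix (S : Sit ρ b q a D X w V₁ V₂ t a₁ a₂) {g : H} (hg : St ρ V₁ V₂ g) {y z : H}
    (hy : y ∈ X) (hya : ρ y (ρ g a) = ρ g a) (hz : z ∈ Conj.cX g X) (hza : ρ z a = a) :
    y * z * y⁻¹ * z⁻¹ ∈ X ∧ y * z * y⁻¹ * z⁻¹ ∈ Conj.cX g X := by
  have h1 := (S.conj hg).C.X_norm y hya z hz
  have h2 := S.C.X_norm z hza y⁻¹ (X.inv_mem hy)
  constructor
  · have : y * z * y⁻¹ * z⁻¹ = y * (z * y⁻¹ * z⁻¹) := by group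
    rw [this]; exact X.mul_mem hy h2
  · exact (Conj.cX g X).mul_mem h1 ((Conj.cX g X).inv_mem hz)

theorem b_a₁_zero (S : Sit ρ b q a D X w V₁ V₂ t a₁ a₂) : b a a₁ = 0 := by
  rcases zmod_two (b a a₁) with h | h
  · exact h
  · exfalso
    have hHf := S.C.finite_H
    have h1 := S.card_BX
    have h2 := S.sixteen_le
    have h3 : 1 < Nat.card S.BX := by omega
    have : Nontrivial S.BX := Finite.one_lt_card_iff_nontrivial.1 h3
    obtain ⟨x, hx⟩ := exists_ne (1 : S.BX)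
    apply hx
    have h4 := S.C.opp x.2.1 h (S.fix₁ x.2.2 (S.C.X_a x.2.1))
    exact Subtype.ext h4

theorem R_ti (S : Sit ρ b q a D X w V₁ V₂ t a₁ a₂) (h₁ : ∀ u ∈ V₁, ∀ v ∈ V₁, b u v = 0)
    (h₂ : ∀ u ∈ V₂, ∀ v ∈ V₂, b u v = 0) {g : H} (hg : St ρ V₁ V₂ g) (h1 : ρ g a₁ = a₁) :
    ρ g a₂ = a₂ := by
  by_contra hne
  have C := S.C
  have S' := S.conj hg
  have hHf := C.finite_H
  have hm₂ : ρ g a₂ ∈ V₂ := hg.2 _ S.m₂
  have hba : b a a₁ = 0 := S.b_a₁_zero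
  have hba' : b (ρ g a) a₁ = 0 := by
    nth_rewrite 1 [← h1]
    rw [C.b_inv]; exact hba
  have e1 : ∀ u ∈ V₁, b a u = b a₂ u := by
    intro u hu
    rw [← S.sum, map_add, LinearMap.add_apply, h₁ _ S.m₁ _ hu, zero_add]
  have e2 : ∀ u ∈ V₁, b (ρ g a) u = b (ρ g a₂) u := by
    intro u hu
    rw [← S.sum, map_add, h1, map_add, LinearMap.add_apply, h₁ _ S.m₁ _ hu, zero_add]
  have sep : ∀ d ∈ V₂, ∀ e ∈ V₂, d ≠ 0 → d ≠ e → ∃ v ∈ V₁, b e v = 0 ∧ b d v = 1 := by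
    intro d hd e he h0 h1
    obtain ⟨v, hv1, hv2⟩ := C.exists_sep h0 h1
    obtain ⟨v₁, hv₁, v₂, hv₂, rfl⟩ := S.B.sup v
    rw [map_add, h₂ _ he _ hv₂, add_zero] at hv1
    rw [map_add, h₂ _ hd _ hv₂, add_zero] at hv2
    exact ⟨v₁, hv₁, hv1, hv2⟩
  obtain ⟨v, hv, hv1, hv2⟩ := sep a₂ S.m₂ (ρ g a₂) hm₂ S.a₂_ne (Ne.symm hne)
  obtain ⟨v', hv', hv1', hv2'⟩ := sep (ρ g a₂) hm₂ a₂ S.m₂ S'.a₂_ne hne
  -- `b a (g a₂) = 0`, `b (g a) a₂ = 0`
  have hb1 : b a₁ a₂ = 0 := by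
    have : b a₁ a₂ = b a a₁ := by
      rw [← S.sum, map_add, LinearMap.add_apply, C.b_self, zero_add, C.b_comm]
    rw [this, hba]
  have hb2 : b a (ρ g a₂) = 0 := by
    rw [← S.sum, map_add, LinearMap.add_apply, h₂ _ S.m₂ _ hm₂, add_zero]
    nth_rewrite 1 [← h1]
    rw [C.b_inv, hb1]
  have hb3 : b (ρ g a) a₂ = 0 := by
    rw [← S.sum, map_add, h1, map_add, LinearMap.add_apply, h₂ _ hm₂ _ S.m₂, add_zero, hb1]
  have hcomm : ∀ y ∈ S.FX (ρ g a₂), ∀ z ∈ S'.FX a₂, y * z = z * y := by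
    intro y hy z hz
    have hya : ρ y (ρ g a) = ρ g a := by
      rw [← S.sum, map_add, map_add, h1, hy.2, S.fix₁ hy.1.2 (C.X_a hy.1.1)]
    have hza : ρ z a = a := by
      have h3 := S'.fix₁ hz.1.2 (S'.C.X_a hz.1.1)
      rw [h1] at h3
      rw [← S.sum, map_add, h3, hz.2]
    obtain ⟨hc1, hc2⟩ := S.comm_of_fix hg hy.1.1 hya hz.1.1 hza
    have hs : St ρ V₁ V₂ (y * z * y⁻¹ * z⁻¹) :=
      ((hy.1.2.mul C hz.1.2).mul C (hy.1.2.inv C S.B)).mul C (hz.1.2.inv C S.B)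
    have h3 : y * z * y⁻¹ * z⁻¹ = 1 := by
      apply S.F3 hv (by rw [e1 v hv, hv2]) hc1 hs
      have := S'.F2 hv (by rw [e2 v hv, hv1]) hc2 hs
      rwa [h1] at this
    calc y * z = (y * z * y⁻¹ * z⁻¹) * (z * y) := by group
      _ = z * y := by rw [h3, one_mul]
  have hY : ∀ y ∈ S.FX (ρ g a₂), y ∈ X ∧ St ρ V₁ V₂ y ∧ ρ y (ρ g a) = ρ g a := by
    intro y hy
    refine ⟨hy.1.1, hy.1.2, ?_⟩
    rw [← S.sum, map_add, map_add, h1, hy.2, S.fix₁ hy.1.2 (C.X_a hy.1.1)]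
  have hY' : ∀ z ∈ S'.FX a₂, z ∈ Conj.cX g X ∧ St ρ V₁ V₂ z ∧ ρ z a = a := by
    intro z hz
    refine ⟨hz.1.1, hz.1.2, ?_⟩
    have h3 := S'.fix₁ hz.1.2 (S'.C.X_a hz.1.1)
    rw [h1] at h3
    rw [← S.sum, map_add, h3, hz.2]
  have := S.core S' ⟨v, hv, by rw [e1 v hv, hv2], by rw [e2 v hv, hv1]⟩
    ⟨v', hv', by rw [e1 v' hv', hv1'], by rw [e2 v' hv', hv2']⟩ hY hY' hcomm hba hba'
    (S.card_FX₂ hm₂ hb2)
  have h4 := S'.card_FX₂ S.m₂ hb3
  have h5 := S.sixteen_le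
  omega

/-! ### (R), perpendicular case -/

theorem R_perp_aux (S : Sit ρ b q a D X w V₁ V₂ t a₁ a₂) (h₁ : ∀ u ∈ V₁, ∀ v ∈ V₂, b u v = 0)
    {g : H} (hg : St ρ V₁ V₂ g) (h1 : ρ g a₁ = a₁) (h0 : b a₂ (ρ g a₂) = 0) :
    ρ g a₂ = a₂ := by
  by_contra hne
  have C := S.C
  have S' := S.conj hg
  have hHf := C.finite_H
  have hm₂ : ρ g a₂ ∈ V₂ := hg.2 _ S.m₂
  have h₂ : ∀ u ∈ V₂, ∀ v ∈ V₁, b u v = 0 := fun u hu v hv => by rw [C.b_comm]; exact h₁ v hv u hu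
  have e1 : ∀ u ∈ V₂, b a u = b a₂ u := by
    intro u hu
    rw [← S.sum, map_add, LinearMap.add_apply, h₁ _ S.m₁ _ hu, zero_add]
  have e2 : ∀ u ∈ V₂, b (ρ g a) u = b (ρ g a₂) u := by
    intro u hu
    rw [← S.sum, map_add, h1, map_add, LinearMap.add_apply, h₁ _ S.m₁ _ hu, zero_add]
  have f1 : ∀ u ∈ V₁, b a u = b a₁ u := by
    intro u hu
    rw [← S.sum, map_add, LinearMap.add_apply, h₂ _ S.m₂ _ hu, add_zero]
  have f2 : ∀ u ∈ V₁, b (ρ g a) u = b a₁ u := by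
    intro u hu
    rw [← S.sum, map_add, h1, map_add, LinearMap.add_apply, h₂ _ hm₂ _ hu, add_zero]
  have sep : ∀ d ∈ V₂, ∀ e ∈ V₂, d ≠ 0 → d ≠ e → ∃ v ∈ V₂, b e v = 0 ∧ b d v = 1 := by
    intro d hd e he h0 h1
    obtain ⟨v, hv1, hv2⟩ := C.exists_sep h0 h1
    obtain ⟨v₁, hv₁, v₂, hv₂, rfl⟩ := S.B.sup v
    rw [map_add, h₂ _ he _ hv₁, zero_add] at hv1
    rw [map_add, h₂ _ hd _ hv₁, zero_add] at hv2
    exact ⟨v₂, hv₂, hv1, hv2⟩
  obtain ⟨v, hv, hv1, hv2⟩ := sep a₂ S.m₂ (ρ g a₂) hm₂ S.a₂_ne (Ne.symm hne)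
  obtain ⟨v', hv', hv1', hv2'⟩ := sep (ρ g a₂) hm₂ a₂ S.m₂ S'.a₂_ne hne
  obtain ⟨r, hr, hr1⟩ : ∃ r ∈ V₁, b a r = 1 := by
    obtain ⟨c, hc⟩ := C.exists_off
    obtain ⟨c₁, hc₁, c₂, hc₂, rfl⟩ := S.B.sup c
    rcases zmod_two (b a c₁) with h | h
    · refine ⟨ρ t c₂, S.tsw.2 _ hc₂, ?_⟩
      rw [C.b_a_ρ (C.X_a S.tX)]
      rw [map_add, h, zero_add] at hc
      exact hc
    · exact ⟨c₁, hc₁, h⟩
  have hb2 : b a (ρ g a₂) = 0 := by rw [e1 _ hm₂, h0]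
  have hb3 : b (ρ g a) a₂ = 0 := by rw [e2 _ S.m₂, C.b_comm, h0]
  have hY : ∀ y ∈ S.FX (ρ g a₂), y ∈ X ∧ St ρ V₁ V₂ y ∧ ρ y (ρ g a) = ρ g a := by
    intro y hy
    refine ⟨hy.1.1, hy.1.2, ?_⟩
    rw [← S.sum, map_add, map_add, h1, hy.2, S.fix₁ hy.1.2 (C.X_a hy.1.1)]
  have hY' : ∀ z ∈ S'.FX a₂, z ∈ Conj.cX g X ∧ St ρ V₁ V₂ z ∧ ρ z a = a := by
    intro z hz
    refine ⟨hz.1.1, hz.1.2, ?_⟩
    have h3 := S'.fix₁ hz.1.2 (S'.C.X_a hz.1.1)
    rw [h1] at h3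
    rw [← S.sum, map_add, h3, hz.2]
  -- on `V₁` the two groups commute
  have hcV : ∀ y ∈ S.FX (ρ g a₂), ∀ z ∈ S'.FX a₂, ∀ u ∈ V₁, ρ y (ρ z u) = ρ z (ρ y u) := by
    intro y hy z hz u hu
    have hys := hy.1.2
    have hzs := hz.1.2
    have hm : ρ y u + u ∈ V₁ := V₁.add_mem (hys.1 u hu) hu
    have hn : ρ z u + u ∈ V₁ := V₁.add_mem (hzs.1 u hu) hu
    have ham : b a (ρ y u + u) = 0 := C.b_a_delta (C.X_a hy.1.1) u
    have han' : b (ρ g a) (ρ z u + u) = 0 := S'.C.b_a_delta (S'.C.X_a hz.1.1) u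
    have ham1 : b a₁ (ρ y u + u) = 0 := by rw [← f1 _ hm, ham]
    have han1 : b a₁ (ρ z u + u) = 0 := by rw [← f2 _ hn, han']
    have han : b a (ρ z u + u) = 0 := by rw [f1 _ hn, han1]
    have ham' : b (ρ g a) (ρ y u + u) = 0 := by rw [f2 _ hm, ham1]
    -- `[z u + u, y] = k a₁`, `[y u + u, z] = l a₁`
    obtain ⟨k, hk⟩ : ∃ k : ZMod 2, ρ y (ρ z u + u) + (ρ z u + u) = k • a₁ := by
      rcases S.F2 hn han hy.1.1 hys with h | h
      · exact ⟨0, by rw [h, zero_smul]⟩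
      · exact ⟨1, by rw [h, one_smul]⟩
    obtain ⟨l, hl⟩ : ∃ l : ZMod 2, ρ z (ρ y u + u) + (ρ y u + u) = l • a₁ := by
      rcases S'.F2 hm ham' hz.1.1 hzs with h | h
      · exact ⟨0, by rw [h, zero_smul]⟩
      · exact ⟨1, by rw [h, h1, one_smul]⟩
    have hkl : k = l := by
      rcases zmod_two (b a u) with hau | hau
      · -- everything is trivial
        have g1 : ρ y (ρ z u + u) = ρ z u + u := by
          rcases S'.F2 hu (by rw [f2 _ hu, ← f1 _ hu, hau]) hz.1.1 hzs with h | h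
          · rw [h, map_zero]
          · rw [h, h1, S.fix₁ hys (C.X_a hy.1.1)]
        have g2 : ρ z (ρ y u + u) = ρ y u + u := by
          rcases S.F2 hu hau hy.1.1 hys with h | h
          · rw [h, map_zero]
          · have h3 := S'.fix₁ hzs (S'.C.X_a hz.1.1)
            rw [h1] at h3
            rw [h, h3]
        rw [g1, C.add_self] at hk
        rw [g2, C.add_self] at hl
        have g3 : (k + l) • a₁ = 0 := by rw [add_smul, ← hk, ← hl, add_zero]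
        rcases smul_eq_zero.1 g3 with g4 | g4
        · exact CharTwo.add_eq_zero.1 g4
        · exact absurd g4 S.a₁_ne
      · have g1 : b (ρ y u) (ρ y (ρ z u + u)) = b u (ρ z u + u) := C.b_inv y _ _
        have g2 : b (ρ z u) (ρ z (ρ y u + u)) = b u (ρ y u + u) := C.b_inv z _ _
        have hau1 : b u a₁ = 1 := by rw [C.b_comm, ← f1 _ hu, hau]
        have g3 : ρ y (ρ z u + u) = (ρ z u + u) + k • a₁ := by
          rw [← hk, add_comm (ρ y _), ← add_assoc, C.add_self, zero_add]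
        have g4 : ρ z (ρ y u + u) = (ρ y u + u) + l • a₁ := by
          rw [← hl, add_comm (ρ z _), ← add_assoc, C.add_self, zero_add]
        have g5 : ρ y u = u + (ρ y u + u) := by rw [add_comm, C.add_add_self]
        have g6 : ρ z u = u + (ρ z u + u) := by rw [add_comm, C.add_add_self]
        generalize ρ y u + u = m at *
        generalize ρ z u + u = n at *
        rw [g3, g5, map_add (b (u + m)), map_add b, LinearMap.add_apply, LinearMap.add_apply,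
          map_smul, map_smul, hau1, C.b_comm m a₁, ham1] at g1
        rw [g4, g6, map_add (b (u + n)), map_add b, LinearMap.add_apply, LinearMap.add_apply,
          map_smul, map_smul, hau1, C.b_comm n a₁, han1, C.b_comm n m] at g2
        have e1 : b m n + k = 0 := by
          simp only [smul_eq_mul, mul_one, mul_zero, add_zero] at g1
          have : b u n + b m n + k = b u n := g1
          have h := congrArg (fun x => b u n + x) this
          simp only [← add_assoc, CharTwo.add_self_eq_zero, zero_add] at h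
          exact h
        have e2 : b m n + l = 0 := by
          simp only [smul_eq_mul, mul_one, mul_zero, add_zero] at g2
          have : b u m + b m n + l = b u m := g2
          have h := congrArg (fun x => b u m + x) this
          simp only [← add_assoc, CharTwo.add_self_eq_zero, zero_add] at h
          exact h
        exact add_left_cancel (e1.trans e2.symm)
    have g1 : ρ y (ρ z u) = ρ z u + u + k • a₁ + ρ y u := by
      rw [← hk, map_add]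
      have : ρ z u + u + (ρ y (ρ z u) + ρ y u + (ρ z u + u)) + ρ y u =
        ρ y (ρ z u) + ((ρ z u + ρ z u) + (u + u) + (ρ y u + ρ y u)) := by abel
      rw [this]
      simp only [C.add_self, add_zero]
    have g2 : ρ z (ρ y u) = ρ y u + u + l • a₁ + ρ z u := by
      rw [← hl, map_add]
      have : ρ y u + u + (ρ z (ρ y u) + ρ z u + (ρ y u + u)) + ρ z u =
        ρ z (ρ y u) + ((ρ z u + ρ z u) + (u + u) + (ρ y u + ρ y u)) := by abel
      rw [this]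
      simp only [C.add_self, add_zero]
    rw [g1, g2, hkl]
    abel
  have hcomm : ∀ y ∈ S.FX (ρ g a₂), ∀ z ∈ S'.FX a₂, y * z = z * y := by
    intro y hy z hz
    obtain ⟨hc1, -⟩ := S.comm_of_fix hg hy.1.1 (hY y hy).2.2 hz.1.1 (hY' z hz).2.2
    have h3 : y * z * y⁻¹ * z⁻¹ = 1 := by
      apply C.opp hc1 hr1
      have e : y * z * y⁻¹ * z⁻¹ = (y * z) * (z * y)⁻¹ := by group
      have h4 := hcV y hy z hz (ρ (z * y)⁻¹ r)
        (((hz.1.2.mul C hy.1.2).inv C S.B).1 r hr)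
      rw [e, C.ρ_mul, C.ρ_mul, h4, ← C.ρ_mul z y, C.ρ_apply_inv]
    calc y * z = (y * z * y⁻¹ * z⁻¹) * (z * y) := by group
      _ = z * y := by rw [h3, one_mul]
  have := S.symm.core S'.symm ⟨v, hv, by rw [e1 v hv, hv2], by rw [e2 v hv, hv1]⟩
    ⟨v', hv', by rw [e1 v' hv', hv1'], by rw [e2 v' hv', hv2']⟩
    (Y := S.FX (ρ g a₂)) (Y' := S'.FX a₂)
    (fun y hy => ⟨(hY y hy).1, (hY y hy).2.1.symm, (hY y hy).2.2⟩)
    (fun y hy => ⟨(hY' y hy).1, (hY' y hy).2.1.symm, (hY' y hy).2.2⟩) hcomm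
    (by rw [e1 _ S.m₂, C.b_self]) hb3 (S.card_FX₂ hm₂ hb2)
  have h4 := S'.card_FX₂ S.m₂ hb3
  have h5 := S.sixteen_le
  omega

/-- in a subgroup of order at least 8 there are three 'independent' elements -/
theorem exists_three {B : Subgroup H} [Finite H] (hB : 8 ≤ Nat.card B) :
    ∃ x ∈ B, ∃ y ∈ B, ∃ z ∈ B, x ≠ 1 ∧ y ≠ 1 ∧ z ≠ 1 ∧ x ≠ y ∧ x ≠ z ∧ y ≠ z ∧ x ≠ y * z := by
  classical
  have hfin : Fintype B := Fintype.ofFinite B
  rw [Nat.card_eq_fintype_card] at hB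
  have pick : ∀ s : Finset B, s.card < 8 → ∃ x : B, x ∉ s := by
    intro s hs
    by_contra hcon
    push Not at hcon
    have : s = Finset.univ := Finset.eq_univ_iff_forall.2 hcon
    rw [this, Finset.card_univ] at hs
    omega
  obtain ⟨y, hy⟩ := pick {1} (by rw [Finset.card_singleton]; norm_num)
  obtain ⟨z, hz⟩ := pick {1, y} (lt_of_le_of_lt (Finset.card_le_two) (by norm_num))
  obtain ⟨x, hx⟩ := pick {1, y, z, y * z} (lt_of_le_of_lt (Finset.card_le_four) (by norm_num))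
  simp only [Finset.mem_insert, Finset.mem_singleton, not_or] at hx hy hz
  refine ⟨x, x.2, y, y.2, z, z.2, ?_, ?_, ?_, ?_, ?_, ?_, ?_⟩
  · exact fun h => hx.1 (Subtype.ext h)
  · exact fun h => hy (Subtype.ext h)
  · exact fun h => hz.1 (Subtype.ext h)
  · exact fun h => hx.2.1 (Subtype.ext h)
  · exact fun h => hx.2.2.1 (Subtype.ext h)
  · exact fun h => hz.2 (Subtype.ext h).symm
  · exact fun h => hx.2.2.2 (Subtype.ext h)

/-- an element `x ≠ 1` of `B` with `b v (x v) = 0`, `v ∈ V₁` -/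
theorem exists_zero (S : Sit ρ b q a D X w V₁ V₂ t a₁ a₂) {v : V} (hv : v ∈ V₁) : ∃ x ∈ S.BX, x ≠ 1 ∧ b v (ρ x v) = 0 := by
  have C := S.C
  have hHf := C.finite_H
  by_contra hcon
  push Not at hcon
  have hone : ∀ x ∈ S.BX, x ≠ 1 → b v (ρ x v) = 1 := fun x hx hx1 => zmod_two_ne (hcon x hx hx1)
  -- `[v, x, y] = k a₁` with `k = 1` for distinct nontrivial `x`, `y`
  have key : ∀ x ∈ S.BX, ∀ y ∈ S.BX, x ≠ 1 → y ≠ 1 → x ≠ y →
      ρ y (ρ x v + v) + (ρ x v + v) = a₁ := by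
    intro x hx y hy hx1 hy1 hxy
    have hm : ρ x v + v ∈ V₁ := V₁.add_mem (hx.2.1 v hv) hv
    rcases S.F2 hm (C.b_a_delta (C.X_a hx.1) v) hy.1 hy.2 with h | h
    · exfalso
      have h1 : y * x ≠ 1 := by
        intro h2
        apply hxy
        have := C.X_sq y hy.1
        exact mul_left_cancel (h2.trans this.symm)
      have h2 := hone _ (S.BX.mul_mem hy hx) h1
      rw [C.ρ_mul] at h2
      have h3 : ρ y (ρ x v) = ρ x v + v + ρ y v := by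
        rw [map_add] at h
        have : ρ y (ρ x v) = (ρ y (ρ x v) + ρ y v + (ρ x v + v)) + (ρ x v + v + ρ y v) := by
          have : (ρ y (ρ x v) + ρ y v + (ρ x v + v)) + (ρ x v + v + ρ y v) =
            ρ y (ρ x v) + ((ρ y v + ρ y v) + (ρ x v + ρ x v) + (v + v)) := by abel
          rw [this]; simp only [C.add_self, add_zero]
        rw [this, h, zero_add]
      rw [h3, map_add, map_add, hone x hx hx1, hone y hy hy1, C.b_self] at h2
      revert h2; decide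
    · exact h
  have hB8 : 8 ≤ Nat.card S.BX := by
    have h1 := S.card_BX
    have h2 := S.sixteen_le
    omega
  obtain ⟨x, hx, y, hy, z, hz, hx1, hy1, hz1, hxy, hxz, hyz, hxyz⟩ :=
    exists_three hB8
  have hyz1 : y * z ≠ 1 := by
    intro h
    apply hyz
    have := C.X_sq z hz.1
    exact mul_right_cancel (h.trans this.symm)
  have k1 := key x hx y hy hx1 hy1 hxy
  have k2 := key x hx z hz hx1 hz1 hxz
  have k3 := key x hx (y * z) (S.BX.mul_mem hy hz) hx1 hyz1 hxyz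
  rw [C.ρ_mul] at k3
  have k4 : ρ z (ρ x v + v) = (ρ x v + v) + a₁ := by
    rw [← k2, add_comm (ρ z _), ← add_assoc, C.add_self, zero_add]
  rw [k4, map_add, S.fix₁ hy.2 (C.X_a hy.1), add_right_comm, k1, C.add_self] at k3
  exact S.a₁_ne k3.symm

theorem R_perp (S : Sit ρ b q a D X w V₁ V₂ t a₁ a₂) (h₁ : ∀ u ∈ V₁, ∀ v ∈ V₂, b u v = 0)
    {g : H} (hg : St ρ V₁ V₂ g) (h1 : ρ g a₁ = a₁) : ρ g a₂ = a₂ := by
  have C := S.C
  rcases zmod_two (b a₂ (ρ g a₂)) with h0 | h0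
  · exact S.R_perp_aux h₁ hg h1 h0
  · exfalso
    have hm₂ : ρ g a₂ ∈ V₂ := hg.2 _ S.m₂
    have e1 : b a (ρ g a₂) = 1 := by
      rw [← S.sum, map_add, LinearMap.add_apply, h₁ _ S.m₁ _ hm₂, zero_add, h0]
    obtain ⟨x, hx, hx1, hx0⟩ := S.symm.exists_zero hm₂
    have hxs : St ρ V₁ V₂ x := hx.2.symm
    have hs : St ρ V₁ V₂ (g⁻¹ * x * g) := ((hg.inv C S.B).mul C hxs).mul C hg
    have h2 : ρ (g⁻¹ * x * g) a₁ = a₁ := by
      apply C.ρ_inj g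
      rw [Conj.act' C, h1, S.fix₁ hxs (C.X_a hx.1)]
    have h3 : b a₂ (ρ (g⁻¹ * x * g) a₂) = 0 := by
      rw [← C.b_inv g, Conj.act' C]
      exact hx0
    have h4 := S.R_perp_aux h₁ hs h2 h3
    apply hx1
    apply C.opp hx.1 e1
    rw [← Conj.act' C, h4]

/-! ### the end -/

theorem half (S : Sit ρ b q a D X w V₁ V₂ t a₁ a₂)
    (hR : ∀ g, St ρ V₁ V₂ g → ρ g a₁ = a₁ → ρ g a₂ = a₂) {g : H} (hg : St ρ V₁ V₂ g)
    (h : b a (ρ g a₁) = 0) : b a (ρ g a₂) = 0 := by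
  have C := S.C
  have hHf := C.finite_H
  rcases zmod_two (b a (ρ g a₂)) with h1 | h1
  · exact h1
  · exfalso
    have h2 := S.card_FX₁ (hg.1 _ S.m₁) h
    have h3 := S.sixteen_le
    have h4 : 1 < Nat.card (S.FX (ρ g a₁)) := by omega
    have : Nontrivial (S.FX (ρ g a₁)) := Finite.one_lt_card_iff_nontrivial.1 h4
    obtain ⟨y, hy⟩ := exists_ne (1 : S.FX (ρ g a₁))
    apply hy
    apply Subtype.ext
    have hys := y.2.1.2
    have hs : St ρ V₁ V₂ (g⁻¹ * y * g) := ((hg.inv C S.B).mul C hys).mul C hg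
    have h5 : ρ (g⁻¹ * y * g) a₁ = a₁ := by
      apply C.ρ_inj g
      rw [Conj.act' C, y.2.2]
    apply C.opp y.2.1.1 h1
    rw [← Conj.act' C, hR _ hs h5]

theorem false_of (S : Sit ρ b q a D X w V₁ V₂ t a₁ a₂)
    (hR : ∀ g, St ρ V₁ V₂ g → ρ g a₁ = a₁ → ρ g a₂ = a₂)
    (hR' : ∀ g, St ρ V₁ V₂ g → ρ g a₂ = a₂ → ρ g a₁ = a₁) : False := by
  have C := S.C
  have h1 : ∀ g, St ρ V₁ V₂ g → b a (ρ g a) = 0 := by
    intro g hg
    have e : b a (ρ g a) = b a (ρ g a₁) + b a (ρ g a₂) := by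
      rw [← map_add, ← map_add, S.sum]
    rw [e]
    rcases zmod_two (b a (ρ g a₁)) with h | h
    · rw [h, S.half hR hg h, add_zero]
    · rcases zmod_two (b a (ρ g a₂)) with h2 | h2
      · exfalso
        have h3 := S.symm.half (fun g hg => hR' g hg.symm) hg.symm h2
        rw [h3] at h
        exact zero_ne_one h
      · rw [h, h2]; decide
  obtain ⟨g, hg⟩ := C.exists_opp
  rcases S.B.perm g with hs | hs
  · rw [h1 g hs] at hg
    exact zero_ne_one hg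
  · have h2 := h1 (g * t) (hs.mul C S.tsw)
    rw [C.ρ_mul, C.X_a S.tX, hg] at h2
    exact one_ne_zero h2

end Sit

/-- from a block decomposition to the situation -/
theorem exists_sit (C : Cfg ρ b q a D X w) (B : Blk ρ V₁ V₂) :
    ∃ t a₁ a₂, Sit ρ b q a D X w V₁ V₂ t a₁ a₂ := by
  obtain ⟨t, ht, hts⟩ : ∃ t ∈ X, ¬ St ρ V₁ V₂ t := by
    by_contra hcon
    push Not at hcon
    have h1 := C.a_mem_of_inv (W := V₁) (fun x hx v hv => (hcon x hx).1 v hv) B.ne₁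
    have h2 := C.a_mem_of_inv (W := V₂) (fun x hx v hv => (hcon x hx).2 v hv) B.ne₂
    exact C.a_ne (B.inf a h1 h2)
  obtain ⟨a₁, h1, a₂, h2, h⟩ := B.sup a
  exact ⟨t, a₁, a₂, C, B, ht, (B.perm t).resolve_left hts, h1, h2, h⟩

/-- **THEOREM IMP**, totally isotropic blocks. -/
theorem false_ti (C : Cfg ρ b q a D X w) (B : Blk ρ V₁ V₂) (h₁ : ∀ u ∈ V₁, ∀ v ∈ V₁, b u v = 0)
    (h₂ : ∀ u ∈ V₂, ∀ v ∈ V₂, b u v = 0) : False := by
  obtain ⟨t, a₁, a₂, S⟩ := exists_sit C B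
  exact S.false_of (fun g hg h => S.R_ti h₁ h₂ hg h) (fun g hg h => S.symm.R_ti h₂ h₁ hg.symm h)

/-- **THEOREM IMP**, perpendicular blocks. -/
theorem false_perp (C : Cfg ρ b q a D X w) (B : Blk ρ V₁ V₂)
    (h₁ : ∀ u ∈ V₁, ∀ v ∈ V₂, b u v = 0) : False := by
  obtain ⟨t, a₁, a₂, S⟩ := exists_sit C B
  exact S.false_of (fun g hg h => S.R_perp h₁ hg h)
    (fun g hg h => S.symm.R_perp (fun u hu v hv => by rw [C.b_comm]; exact h₁ v hv u hu) hg.symm h)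

/-- **THEOREM IMP** in the form consumed by `Omega/EH3/Irr` (helper807); `V₁ = ⊥` must be excluded. -/
theorem imp (C : Cfg ρ b q a D X w) (V₁ V₂ : Submodule (ZMod 2) V) (h1 : V₁ ≠ ⊥) (h2 : V₂ ≠ ⊥)
    (hc : IsCompl V₁ V₂)
    (hp : ∀ h : H, (V₁.map (ρ h : V →ₗ[ZMod 2] V) = V₁ ∧ V₂.map (ρ h : V →ₗ[ZMod 2] V) = V₂) ∨
      (V₁.map (ρ h : V →ₗ[ZMod 2] V) = V₂ ∧ V₂.map (ρ h : V →ₗ[ZMod 2] V) = V₁))
    (hb : ((∀ u ∈ V₁, ∀ v ∈ V₁, b u v = 0) ∧ (∀ u ∈ V₂, ∀ v ∈ V₂, b u v = 0)) ∨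
      (∀ u ∈ V₁, ∀ v ∈ V₂, b u v = 0)) : False := by
  have B : Blk ρ V₁ V₂ :=
    { inf := fun v hv1 hv2 => by
        have : v ∈ V₁ ⊓ V₂ := ⟨hv1, hv2⟩
        rw [hc.inf_eq_bot] at this
        exact this
      sup := fun v => by
        have : v ∈ V₁ ⊔ V₂ := by rw [hc.sup_eq_top]; trivial
        exact Submodule.mem_sup.1 this
      ne₁ := h1
      ne₂ := h2
      perm := fun h => by
        rcases hp h with ⟨h3, h4⟩ | ⟨h3, h4⟩
        · exact Or.inl ⟨fun v hv => h3.le ⟨v, hv, rfl⟩, fun v hv => h4.le ⟨v, hv, rfl⟩⟩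
        · exact Or.inr ⟨fun v hv => h3.le ⟨v, hv, rfl⟩, fun v hv => h4.le ⟨v, hv, rfl⟩⟩ }
  rcases hb with ⟨h3, h4⟩ | h3
  · exact false_ti C B h3 h4
  · exact false_perp C B h3

end Cfsg.Agent.Omega.EH3.Imp
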