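import Cfsg.Agent.Omega.EH3.Irr.Shape

/-!
# EH3: `|C_H(L)|` is 1 or 3 if `V|L` is irreducible (helper586)
-/

set_option autoImplicit false

namespace Cfsg.Agent.Omega.EH3.CentIrr

open Subgroup

variable {H V : Type*} [Group H] [AddCommGroup V] [Module (ZMod 2) V]
  {ρ : H →* (V ≃ₗ[ZMod 2] V)} {b : LinearMap.BilinForm (ZMod 2) V} {q : V → ZMod 2}
  {a : V} {D : Submodule (ZMod 2) V} {X : Subgroup H} {w : ℕ} {L : Subgroup H}

/-- `C_H(L)` has no involution -/
theorem no_invol (C : Cfg ρ b q a D X w) (hirr : Irr.Shape.Ir ρ L) {t : H} (htc : ∀ l ∈ L, t * l = l * t)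
    (ht : t * t = 1) : t = 1 := by
  let f : V →ₗ[ZMod 2] V := (ρ t : V →ₗ[ZMod 2] V) + LinearMap.id
  have hf : ∀ v, f v = ρ t v + v := fun _ => rfl
  have hcm : Irr.Shape.Cm ρ L f := by
    intro l hl v
    rw [hf, hf, map_add, ← C.ρ_mul, ← C.ρ_mul, htc l hl]
  apply C.ext
  intro v
  rw [C.ρ_one]
  by_contra hne
  have hv : f v ≠ 0 := fun h => hne (C.add_eq_zero.1 h)
  have hf0 : f ≠ 0 := by
    intro h
    apply hv
    rw [h]; rfl
  apply hv
  apply Irr.Shape.injective hirr hcm hf0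
  rw [hf, hf, map_add, ← C.ρ_mul, ht, C.ρ_one, add_comm v, C.add_self]

theorem odd_cent (C : Cfg ρ b q a D X w) (hirr : Irr.Shape.Ir ρ L) :
    Odd (Nat.card (centralizer (L : Set H))) := by
  have := C.finite_H
  rw [← Nat.not_even_iff_odd]
  intro h
  obtain ⟨t, ht⟩ := exists_prime_orderOf_dvd_card' (G := centralizer (L : Set H)) 2 (even_iff_two_dvd.1 h)
  have h1 : (t : H) * t = 1 := by
    have := pow_orderOf_eq_one t
    rw [ht, pow_two] at this
    exact congrArg Subtype.val this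
  have h2 := no_invol C hirr (t := t) (fun l hl => (mem_centralizer_iff.1 t.2 l hl).symm) h1
  have h3 : t = 1 := Subtype.ext h2
  rw [h3, orderOf_one] at ht
  omega

/-- **`|C_H(L)| ≤ 3`** -/
theorem card_cent_le (C : Cfg ρ b q a D X w) (hL : L.Normal) (hirr : Irr.Shape.Ir ρ L) :
    Nat.card (centralizer (L : Set H)) ≤ 3 := by
  classical
  have := C.finite_H
  have hfE := Irr.Shape.finite_E (ρ := ρ) (L := L) C
  have h4 := Irr.Shape.card_le C hL hirr
  let g : centralizer (L : Set H) → {f : Irr.Shape.E ρ L // f ≠ 0} := fun c =>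
    ⟨⟨((ρ (c : H) : V ≃ₗ[ZMod 2] V) : V →ₗ[ZMod 2] V), fun l hl v => by
      show ρ (c : H) (ρ l v) = ρ l (ρ (c : H) v)
      rw [← C.ρ_mul, ← C.ρ_mul, mem_centralizer_iff.1 c.2 l hl]⟩, fun h => by
      have h1 := congrArg (fun x : Irr.Shape.E ρ L => (x : Module.End (ZMod 2) V) a) h
      have h2 : ρ (c : H) a = 0 := h1
      apply C.a_ne
      have h3 := C.ρ_inv_apply (c : H) a
      rw [h2, map_zero] at h3
      exact h3.symm⟩
  have hg : Function.Injective g := by
    intro c d h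
    apply Subtype.ext
    apply C.ext
    intro v
    exact congrArg (fun x : {f : Irr.Shape.E ρ L // f ≠ 0} => ((x : Irr.Shape.E ρ L) : Module.End (ZMod 2) V) v) h
  have h1 := Nat.card_le_card_of_injective g hg
  have : Fintype (Irr.Shape.E ρ L) := Fintype.ofFinite _
  have h2 : Nat.card {f : Irr.Shape.E ρ L // f ≠ 0} = Nat.card (Irr.Shape.E ρ L) - 1 := by
    rw [Nat.card_eq_fintype_card, Nat.card_eq_fintype_card, Fintype.card_subtype_compl, Fintype.card_subtype_eq]
  omega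

/-- **`|C_H(L)|` is 1 or 3** -/
theorem card_cent (C : Cfg ρ b q a D X w) (hL : L.Normal) (hirr : Irr.Shape.Ir ρ L) :
    Nat.card (centralizer (L : Set H)) = 1 ∨ Nat.card (centralizer (L : Set H)) = 3 := by
  have h1 := card_cent_le C hL hirr
  obtain ⟨k, hk⟩ := odd_cent C hirr
  omega

end Cfsg.Agent.Omega.EH3.CentIrr
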