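import Cfsg.Agent.Omega.EH3.Cons

/-!
# LEMMA CUBE (blueprint OMEGA-FF2b-helper796, (1))

`B ≤ H` normalised by `X`, `C_B(a)` contains the commutators of `B` and has odd index in `B`: then `b³ a = a` for all
`b ∈ B`; if `X` centralises `B` modulo `C_B(a)`, then `B` fixes `a`.
-/

set_option autoImplicit false

namespace Cfsg.Agent.Omega.EH3

open Subgroup

namespace Cfg

variable {H V : Type*} [Group H] [AddCommGroup V] [Module (ZMod 2) V]
  {ρ : H →* (V ≃ₗ[ZMod 2] V)} {b : LinearMap.BilinForm (ZMod 2) V} {q : V → ZMod 2}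
  {a : V} {D : Submodule (ZMod 2) V} {X : Subgroup H} {w : ℕ}

/-- if `X` fixes `g a` then `g` fixes `a` -/
theorem fix_of_X (C : Cfg ρ b q a D X w) {g : H} (h : ∀ x ∈ X, ρ x (ρ g a) = ρ g a) : ρ g a = a := by
  rcases C.fix_X h with h1 | h1
  · exfalso
    apply C.a_ne
    have := C.ρ_inv_apply g a
    rw [h1, map_zero] at this
    exact this.symm
  · exact h1

theorem ρ_X_conj (C : Cfg ρ b q a D X w) {x : H} (hx : x ∈ X) (g : H) :
    ρ x (ρ g a) = ρ (x * g * x⁻¹) a := by
  rw [C.ρ_mul, C.ρ_mul, C.fix_inv (C.X_a hx)]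

/-- `X` centralises `B` modulo `C(a)`: then `B` fixes `a`. -/
theorem fix_of_cent (C : Cfg ρ b q a D X w) {g : H}
    (h : ∀ x ∈ X, ρ (x * g * x⁻¹) a = ρ g a) : ρ g a = a :=
  C.fix_of_X fun x hx => (C.ρ_X_conj hx g).trans (h x hx)

section

variable (C : Cfg ρ b q a D X w) {B : Subgroup H}

/-- **LEMMA CUBE.** -/
theorem cube (C : Cfg ρ b q a D X w) {B : Subgroup H} (hXB : ∀ x ∈ X, ∀ g ∈ B, x * g * x⁻¹ ∈ B)
    (hcomm : ∀ g ∈ B, ∀ h ∈ B, ρ (g * h * g⁻¹ * h⁻¹) a = a)
    (hodd : ∀ g ∈ B, ∃ k, Odd k ∧ ρ (g ^ k) a = a) : ∀ g ∈ B, ρ (g ^ 3) a = a := by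
  classical
  have := C.finite_H
  -- the quotient `Γ = B / C_B(a)`
  let K : Subgroup B := (stab ρ a).subgroupOf B
  have hK : ∀ g : B, g ∈ K ↔ ρ g a = a := fun g => by
    rw [Subgroup.mem_subgroupOf, mem_stab]
  have hcomK : ∀ g h : B, g * h * g⁻¹ * h⁻¹ ∈ K := fun g h => (hK _).2 (hcomm g g.2 h h.2)
  have hKn : K.Normal := ⟨fun k hk g => by
    have h1 := K.mul_mem (hcomK g k) hk
    rwa [inv_mul_cancel_right] at h1⟩
  have hcommQ : ∀ x y : B ⧸ K, x * y = y * x := by
    intro x y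
    obtain ⟨x, rfl⟩ := QuotientGroup.mk_surjective x
    obtain ⟨y, rfl⟩ := QuotientGroup.mk_surjective y
    rw [← QuotientGroup.mk_mul, ← QuotientGroup.mk_mul, QuotientGroup.eq]
    have := hcomK y⁻¹ x⁻¹
    simpa [mul_assoc] using this
  let _ : CommGroup (B ⧸ K) := { (inferInstance : Group (B ⧸ K)) with mul_comm := hcommQ }
  let π : B →* B ⧸ K := QuotientGroup.mk' K
  have hπ : ∀ g h : B, π g = π h ↔ ρ g a = ρ h a := by
    intro g h
    have h1 : π g = π h ↔ g⁻¹ * h ∈ K := QuotientGroup.eq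
    rw [h1, hK]
    constructor
    · intro h2
      have h3 : (h : H) = g * ((g⁻¹ * h : B) : H) := by push_cast; group
      rw [h3, C.ρ_mul, h2]
    · intro h2
      push_cast
      rw [C.ρ_mul, ← h2, C.ρ_inv_apply]
  have hπ1 : ∀ g : B, π g = 1 ↔ ρ g a = a := by
    intro g
    rw [← map_one π, hπ]
    push_cast
    rw [C.ρ_one]
  -- conjugation by `x ∈ X` on `B`
  let c : ∀ x : H, x ∈ X → B →* B := fun x hx =>
    { toFun := fun g => ⟨x * g * x⁻¹, hXB x hx g g.2⟩
      map_one' := Subtype.ext (by simp)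
      map_mul' := fun g h => Subtype.ext (by push_cast; group) }
  have hc : ∀ x (hx : x ∈ X) (g h : B), π g = π h → π (c x hx g) = π (c x hx h) := by
    intro x hx g h hgh
    rw [hπ] at hgh ⊢
    show ρ (x * g * x⁻¹) a = ρ (x * h * x⁻¹) a
    rw [← C.ρ_X_conj hx, ← C.ρ_X_conj hx, hgh]
  have hoddQ : ∀ g : B, π g ^ 2 = 1 → π g = 1 := by
    intro g h2
    obtain ⟨k, ⟨j, rfl⟩, hk⟩ := hodd g g.2
    have h3 : π g ^ (2 * j + 1) = 1 := by
      rw [← map_pow, hπ1]
      push_cast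
      exact hk
    rw [pow_succ, pow_mul, h2, one_pow, one_mul] at h3
    exact h3
  -- real elements
  have key : ∀ L : Finset H, (∀ x ∈ L, x ∈ X) → (∃ g : B, π g ^ 3 ≠ 1) →
      ∃ g : B, π g ^ 3 ≠ 1 ∧ ∀ x ∈ L, ∀ hx : x ∈ X, π (c x hx g) = π g ∨ π (c x hx g) = (π g)⁻¹ := by
    intro L
    induction L using Finset.induction_on with
    | empty =>
      intro _ ⟨g, hg⟩
      exact ⟨g, hg, fun x hx => absurd hx (Finset.notMem_empty x)⟩
    | insert x L _ ih =>
      intro hL hex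
      obtain ⟨g, hg, hr⟩ := ih (fun y hy => hL y (Finset.mem_insert_of_mem hy)) hex
      have hx : x ∈ X := hL x (Finset.mem_insert_self x L)
      -- the two candidates
      have hcc : ∀ y (hy : y ∈ X), c y hy (c x hx g) = c x hx (c y hy g) := by
        intro y hy
        apply Subtype.ext
        show y * (x * g * x⁻¹) * y⁻¹ = x * (y * g * y⁻¹) * x⁻¹
        have h1 := C.X_comm hy hx
        have h2 : x⁻¹ * y⁻¹ = y⁻¹ * x⁻¹ := by rw [← mul_inv_rev, ← mul_inv_rev, h1]
        calc y * (x * g * x⁻¹) * y⁻¹ = (y * x) * g * (x⁻¹ * y⁻¹) := by group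
          _ = (x * y) * g * (y⁻¹ * x⁻¹) := by rw [h1, h2]
          _ = _ := by group
      have hxx : c x hx (c x hx g) = g := by
        apply Subtype.ext
        show x * (x * g * x⁻¹) * x⁻¹ = g
        rw [C.X_inv hx]
        calc x * (x * (g : H) * x) * x = (x * x) * g * (x * x) := by group
          _ = g := by rw [C.X_sq x hx]; group
      have hy1 : ∀ y (hy : y ∈ X), π (c y hy g) = π g ∨ π (c y hy g) = (π g)⁻¹ →
          (π (c y hy (g * c x hx g)) = π (g * c x hx g) ∨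
            π (c y hy (g * c x hx g)) = (π (g * c x hx g))⁻¹) ∧
          (π (c y hy (g * (c x hx g)⁻¹)) = π (g * (c x hx g)⁻¹) ∨
            π (c y hy (g * (c x hx g)⁻¹)) = (π (g * (c x hx g)⁻¹))⁻¹) := by
        intro y hy hyr
        rcases hyr with h1 | h1
        · have h2 : π (c y hy (c x hx g)) = π (c x hx g) := by
            rw [hcc y hy]; exact hc x hx _ _ h1
          refine ⟨Or.inl ?_, Or.inl ?_⟩
          · rw [map_mul, map_mul, map_mul, h1, h2]
          · rw [map_mul, map_mul, map_mul, map_inv, map_inv, map_inv, h1, h2]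
        · have h2 : π (c y hy (c x hx g)) = (π (c x hx g))⁻¹ := by
            rw [hcc y hy, ← map_inv, ← map_inv]
            refine hc x hx _ _ ?_
            rw [h1, map_inv]
          refine ⟨Or.inr ?_, Or.inr ?_⟩
          · rw [map_mul, map_mul, map_mul, h1, h2, mul_inv]
          · rw [map_mul, map_mul, map_mul, map_inv, map_inv, map_inv, h1, h2, mul_inv]
      have hx1 : π (c x hx (g * c x hx g)) = π (g * c x hx g) := by
        rw [map_mul, map_mul, map_mul, hxx, mul_comm]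
      have hx2 : π (c x hx (g * (c x hx g)⁻¹)) = (π (g * (c x hx g)⁻¹))⁻¹ := by
        rw [map_mul, map_mul, map_mul, map_inv, map_inv, map_inv, hxx, mul_inv, inv_inv, mul_comm]
      by_cases h3 : π (g * c x hx g) ^ 3 = 1
      · refine ⟨g * (c x hx g)⁻¹, ?_, ?_⟩
        · intro h4
          apply hg
          have h5 : π (g ^ 3) ^ 2 = 1 := by
            have h6 : π (g ^ 3) ^ 2 = π (g * c x hx g) ^ 3 * π (g * (c x hx g)⁻¹) ^ 3 := by
              rw [map_pow, map_mul, map_mul, map_inv, ← mul_pow, mul_mul_mul_comm, mul_inv_cancel,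
                mul_one, ← pow_mul, ← sq, ← pow_mul]
            rw [h6, h3, h4, one_mul]
          have h7 := hoddQ _ h5
          rwa [map_pow] at h7
        · intro y hy hyX
          rcases Finset.mem_insert.1 hy with rfl | hyL
          · exact Or.inr hx2
          · exact (hy1 y hyX (hr y hyL hyX)).2
      · refine ⟨g * c x hx g, h3, ?_⟩
        intro y hy hyX
        rcases Finset.mem_insert.1 hy with rfl | hyL
        · exact Or.inl hx1
        · exact (hy1 y hyX (hr y hyL hyX)).1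
  by_contra hcon
  push Not at hcon
  obtain ⟨g, hgB, hg3⟩ := hcon
  have hex : ∃ g : B, π g ^ 3 ≠ 1 := ⟨⟨g, hgB⟩, fun h => hg3 (by
    rw [← map_pow, hπ1] at h
    exact h)⟩
  obtain ⟨g, hg, hr⟩ := key ((Set.toFinite (X : Set H)).toFinset)
    (fun x hx => by simpa using hx) hex
  have hr' : ∀ x (hx : x ∈ X), π (c x hx g) = π g ∨ π (c x hx g) = (π g)⁻¹ :=
    fun x hx => hr x (by simpa using hx) hx
  have hcx : ∀ x (hx : x ∈ X) (g : B), ρ x (ρ g a) = ρ (c x hx g) a := fun x hx g => C.ρ_X_conj hx g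
  have hinv : ∀ x (hx : x ∈ X), ρ x (ρ g a) = ρ g a ∨
      (ρ x (ρ g a) = ρ (g : H)⁻¹ a ∧ ρ x (ρ (g : H)⁻¹ a) = ρ g a) := by
    intro x hx
    rcases hr' x hx with h | h
    · left
      rw [hcx x hx, (hπ _ _).1 h]
    · right
      constructor
      · rw [hcx x hx, (hπ (c x hx g) g⁻¹).1 (by rw [h, map_inv])]
        rfl
      · have h2 := hcx x hx g⁻¹
        rw [(hπ (c x hx g⁻¹) g).1 (by rw [map_inv, map_inv, h, inv_inv])] at h2
        exact h2
  -- the final computation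
  by_cases hall : ∀ x (hx : x ∈ X), ρ x (ρ g a) = ρ g a
  · have h1 := C.fix_of_X hall
    apply hg
    rw [(hπ1 g).2 h1, one_pow]
  · have hv : ∀ x ∈ X, ρ x (ρ g a + ρ (g : H)⁻¹ a) = ρ g a + ρ (g : H)⁻¹ a := by
      intro x hx
      rw [map_add]
      rcases hinv x hx with h | ⟨h, h'⟩
      · have h2 : ρ x (ρ (g : H)⁻¹ a) = ρ (g : H)⁻¹ a := by
          have h3 := hcx x hx g⁻¹
          have h4 : π (c x hx g) = π g := (hπ _ _).2 (by rw [← hcx x hx, h])
          rw [(hπ (c x hx g⁻¹) g⁻¹).1 (by rw [map_inv, map_inv, map_inv, h4])] at h3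
          exact h3
        rw [h, h2]
      · rw [h, h', add_comm]
    rcases C.fix_X hv with h0 | h0
    · -- `g a = g⁻¹ a`
      have h1 : ρ g a = ρ (g : H)⁻¹ a := C.add_eq_zero.1 h0
      apply hg
      have h2 : π g = (π g)⁻¹ := by
        rw [← map_inv, hπ]
        exact h1
      have h3 : π g ^ 2 = 1 := by
        rw [sq]
        nth_rewrite 2 [h2]
        exact mul_inv_cancel _
      rw [hoddQ g h3, one_pow]
    · -- `g a + g⁻¹ a = a`
      apply hg
      rw [← map_pow, hπ1]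
      push_cast
      have h1 := congrArg (ρ (g : H)) h0
      rw [map_add, C.ρ_apply_inv, ← C.ρ_mul] at h1
      -- `g² a + a = g a`
      have h2 := congrArg (ρ (g : H)) h1
      rw [map_add, ← C.ρ_mul, ← C.ρ_mul] at h2
      have h3 : ρ ((g : H) * (g * g)) a + ρ g a + ρ g a = ρ (g * g) a + ρ g a := by rw [h2]
      rw [C.add_add_self, ← h1, ← add_assoc, C.add_self, zero_add] at h3
      rw [pow_succ, sq, mul_assoc]
      exact h3

end

end Cfg

end Cfsg.Agent.Omega.EH3
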