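import Cfsg.Agent.Omega.EH3.Cons

/-!
# EH3: two configurations of the same group are conjugate (helper754)

`Cfg.exists_map` : `C : Cfg ρ b q a D X w`, `C' : Cfg ρ b q a' D' X' w'` ⇒ `ρ h a = a'` for some `h`.
-/

set_option autoImplicit false

namespace Cfsg.Agent.Omega.EH3.Cfg

open Subgroup

variable {H V : Type*} [Group H] [AddCommGroup V] [Module (ZMod 2) V]
  {ρ : H →* (V ≃ₗ[ZMod 2] V)} {b : LinearMap.BilinForm (ZMod 2) V} {q : V → ZMod 2}
  {a a' : V} {D D' : Submodule (ZMod 2) V} {X X' : Subgroup H} {w w' : ℕ}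

/-- a Sylow 2-subgroup fixes `a`, a conjugate of it contains `X'`, and `C_V(X') = {0, a'}` -/
theorem exists_map (C : Cfg ρ b q a D X w) (C' : Cfg ρ b q a' D' X' w') : ∃ h, ρ h a = a' := by
  have hfin := C.finite_H
  have : Fact (Nat.Prime 2) := ⟨Nat.prime_two⟩
  obtain ⟨T, -, hT⟩ := C.exists_syl
  obtain ⟨T', hT', -⟩ := C'.exists_syl
  obtain ⟨h, hh⟩ := MulAction.exists_smul_eq H T T'
  refine ⟨h, ?_⟩
  have key : ∀ x ∈ X', ρ x (ρ h a) = ρ h a := by
    intro x hx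
    have h1 : x ∈ (T' : Subgroup H) := hT' hx
    rw [← hh, Sylow.coe_subgroup_smul, Subgroup.mem_pointwise_smul_iff_inv_smul_mem] at h1
    have h2 : h⁻¹ * x * h ∈ (T : Subgroup H) := by
      have e : (MulAut.conj h)⁻¹ • x = h⁻¹ * x * h := by
        rw [← map_inv, MulAut.smul_def, MulAut.conj_apply, inv_inv]
      rw [← e]; exact h1
    have h3 : ρ (h⁻¹ * x * h) a = a := hT h2
    have e : x * h = h * (h⁻¹ * x * h) := by group
    rw [← C.ρ_mul, e, C.ρ_mul, h3]
  rcases C'.fix_X key with h1 | h1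
  · exact absurd ((LinearEquiv.map_eq_zero_iff _).1 h1) C.a_ne
  · exact h1

end Cfsg.Agent.Omega.EH3.Cfg
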