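import Cfsg.Agent.Omega.EH3.Cons
import Cfsg.Agent.Lib.ElemAbGL

/-!
# EH3: counting (helper888)

* `ncard_sing` : `V` has `2^(2w-1) + 2^(w-1) - 1` nonzero singular vectors;
* `index_le` : (CNT) `|H : H_a| ≤ 2^(2w-1) + 2^(w-1) - 1`;
* `card_stab_dvd` : `|H_a|` divides `2^k |GL_{w-1}(2)|`;
* `card_dvd` : (ARITH) `|H|` divides `|H : H_a| 2^k |GL_{w-1}(2)|`;
* `arith` : for a number `m` prime to 2 dividing `|H|`: `m ≤ gcd(m, |GL_{w-1}(2)|) (2^(2w-1) + 2^(w-1) - 1)`.
-/

set_option autoImplicit false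

namespace Cfsg.Agent.Omega.EH3.Cfg

variable {H V : Type*} [Group H] [AddCommGroup V] [Module (ZMod 2) V]
  {ρ : H →* (V ≃ₗ[ZMod 2] V)} {b : LinearMap.BilinForm (ZMod 2) V} {q : V → ZMod 2}
  {a : V} {D : Submodule (ZMod 2) V} {X : Subgroup H} {w : ℕ}

/-- the numbers of singular and nonsingular vectors outside `D` are equal -/
theorem ncard_off (C : Cfg ρ b q a D X w) :
    {v : V | v ∉ D ∧ q v = 0}.ncard = {v : V | v ∉ D ∧ q v = 1}.ncard := by
  classical
  have := C.finite_V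
  -- a choice of `d ∈ D` with `b v d = 1` depending only on the coset of `v`
  have hex : ∀ v : V, v ∉ D → ∃ d ∈ D, b v d = 1 := by
    intro v hv
    by_contra hcon
    push Not at hcon
    apply hv
    apply C.perp_D
    intro d hd
    rw [C.b_comm]
    rcases zmod_two (b v d) with h | h
    · exact h
    · exact absurd h (hcon d hd)
  let δ : (V ⧸ D) → V := fun u =>
    if h : u.out ∉ D then (hex u.out h).choose else 0
  have hδ : ∀ v : V, v ∉ D → δ (Submodule.Quotient.mk v) ∈ D ∧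
      b v (δ (Submodule.Quotient.mk v)) = 1 := by
    intro v hv
    set u : V ⧸ D := Submodule.Quotient.mk v with hu
    have h1 : u.out - v ∈ D := by
      rw [← Submodule.Quotient.eq, ← hu]
      exact Quotient.out_eq u
    have h2 : u.out ∉ D := by
      intro h
      apply hv
      have := D.sub_mem h h1
      rwa [sub_sub_cancel] at this
    have h3 : δ u = (hex u.out h2).choose := by
      show (if h : u.out ∉ D then (hex u.out h).choose else 0) = _
      rw [dif_pos h2]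
    obtain ⟨h4, h5⟩ := (hex u.out h2).choose_spec
    rw [h3]
    refine ⟨h4, ?_⟩
    have h6 := C.b_D h1 h4
    rw [map_sub, LinearMap.sub_apply, h5, sub_eq_zero] at h6
    exact h6.symm
  let f : V → V := fun v => v + δ (Submodule.Quotient.mk v)
  have hmk : ∀ v : V, v ∉ D → (Submodule.Quotient.mk (f v) : V ⧸ D) = Submodule.Quotient.mk v := by
    intro v hv
    rw [Submodule.Quotient.eq]
    show v + _ - v ∈ D
    rw [add_sub_cancel_left]
    exact (hδ v hv).1
  have hfD : ∀ v : V, v ∉ D → f v ∉ D := by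
    intro v hv h
    apply hv
    have := D.sub_mem h (hδ v hv).1
    show v ∈ D
    rwa [show f v - δ (Submodule.Quotient.mk v) = v from add_sub_cancel_right _ _] at this
  have hff : ∀ v : V, v ∉ D → f (f v) = v := by
    intro v hv
    show f v + δ (Submodule.Quotient.mk (f v)) = v
    rw [hmk v hv]
    show v + δ (Submodule.Quotient.mk v) + δ (Submodule.Quotient.mk v) = v
    exact C.add_add_self _ _
  have hq : ∀ v : V, v ∉ D → q (f v) = q v + 1 := by
    intro v hv
    show q (v + _) = _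
    rw [C.q_add, C.q_D _ (hδ v hv).1, (hδ v hv).2, add_zero]
  apply le_antisymm
  · apply Set.ncard_le_ncard_of_injOn f
    · rintro v ⟨hv, h⟩
      exact ⟨hfD v hv, by rw [hq v hv, h]; decide⟩
    · rintro v ⟨hv, -⟩ u ⟨hu, -⟩ h
      rw [← hff v hv, ← hff u hu, h]
  · apply Set.ncard_le_ncard_of_injOn f
    · rintro v ⟨hv, h⟩
      exact ⟨hfD v hv, by rw [hq v hv, h]; decide⟩
    · rintro v ⟨hv, -⟩ u ⟨hu, -⟩ h
      rw [← hff v hv, ← hff u hu, h]

/-- the number of nonzero singular vectors -/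
theorem ncard_sing (C : Cfg ρ b q a D X w) :
    {v : V | v ≠ 0 ∧ q v = 0}.ncard = 2 ^ (2 * w - 1) + 2 ^ (w - 1) - 1 := by
  classical
  have := C.finite_V
  have h0 := C.ncard_off
  have h1 : (D : Set V).ncard = 2 ^ w := C.card_D
  have h2 : (Set.univ : Set V).ncard = 2 ^ (2 * w) := by rw [Set.ncard_univ, C.card_V]
  have h3 : (Set.univ : Set V) = (D : Set V) ∪ ({v : V | v ∉ D ∧ q v = 0} ∪
      {v : V | v ∉ D ∧ q v = 1}) := by
    ext v
    simp only [Set.mem_univ, Set.mem_union, SetLike.mem_coe, true_iff]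
    by_cases hv : v ∈ D
    · exact Or.inl hv
    · rcases zmod_two (q v) with h | h
      · exact Or.inr (Or.inl ⟨hv, h⟩)
      · exact Or.inr (Or.inr ⟨hv, h⟩)
  have h4 : Disjoint {v : V | v ∉ D ∧ q v = 0} {v : V | v ∉ D ∧ q v = 1} := by
    rw [Set.disjoint_left]
    rintro v ⟨-, h⟩ ⟨-, h'⟩
    rw [h] at h'
    exact zero_ne_one h'
  have h5 : Disjoint (D : Set V) ({v : V | v ∉ D ∧ q v = 0} ∪ {v : V | v ∉ D ∧ q v = 1}) := by
    rw [Set.disjoint_left]
    rintro v hv (⟨h, -⟩ | ⟨h, -⟩)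
    · exact h hv
    · exact h hv
  rw [h3, Set.ncard_union_eq h5, Set.ncard_union_eq h4, h1, ← h0] at h2
  have h6 : {v : V | v ≠ 0 ∧ q v = 0} = ((D : Set V) \ {0}) ∪ {v : V | v ∉ D ∧ q v = 0} := by
    ext v
    simp only [Set.mem_ofPred_eq, Set.mem_union, Set.mem_sdiff, SetLike.mem_coe,
      Set.mem_singleton_iff]
    constructor
    · rintro ⟨h7, h8⟩
      by_cases hv : v ∈ D
      · exact Or.inl ⟨hv, h7⟩
      · exact Or.inr ⟨hv, h8⟩
    · rintro (⟨h7, h8⟩ | ⟨h7, h8⟩)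
      · exact ⟨h8, C.q_D v h7⟩
      · refine ⟨?_, h8⟩
        rintro rfl
        exact h7 D.zero_mem
  have h7 : Disjoint ((D : Set V) \ {0}) {v : V | v ∉ D ∧ q v = 0} := by
    rw [Set.disjoint_left]
    rintro v ⟨hv, -⟩ ⟨h, -⟩
    exact h hv
  rw [h6, Set.ncard_union_eq h7, Set.ncard_sdiff_singleton_of_mem (show (0 : V) ∈ (D : Set V) from D.zero_mem),
    h1]
  have h8 := C.five
  have h9 : 2 ^ (2 * w) = 2 * 2 ^ (2 * w - 1) := by rw [← pow_succ']; congr 1; omega
  have h10 : 2 ^ w = 2 * 2 ^ (w - 1) := by rw [← pow_succ']; congr 1; omega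
  have h11 : 0 < 2 ^ (w - 1) := by positivity
  omega

/-- the orbit of `a` -/
theorem index_le_ncard (C : Cfg ρ b q a D X w) :
    (stab ρ a).index ≤ {v : V | v ≠ 0 ∧ q v = 0}.ncard := by
  classical
  have := C.finite_V
  have hfin := C.finite_H
  have h1 : (stab ρ a).index = Nat.card (H ⧸ stab ρ a) := rfl
  have h2 : {v : V | v ≠ 0 ∧ q v = 0}.ncard = Nat.card {v : V | v ≠ 0 ∧ q v = 0} := rfl
  rw [h1, h2]
  let f : (H ⧸ stab ρ a) → {v : V | v ≠ 0 ∧ q v = 0} := fun x =>
    ⟨ρ x.out a, fun h => C.a_ne (C.ρ_inj x.out (by rw [h, map_zero])), by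
      rw [C.q_inv]; exact C.q_a⟩
  apply Nat.card_le_card_of_injective f
  intro x y h
  have h3 : ρ x.out a = ρ y.out a := congrArg Subtype.val h
  have h4 : x.out⁻¹ * y.out ∈ stab ρ a := by
    show ρ (x.out⁻¹ * y.out) a = a
    rw [C.ρ_mul, ← h3, C.ρ_inv_apply]
  have h5 := QuotientGroup.eq.2 h4
  rwa [QuotientGroup.out_eq', QuotientGroup.out_eq'] at h5

/-- **(CNT)** -/
theorem index_le (C : Cfg ρ b q a D X w) :
    (stab ρ a).index ≤ 2 ^ (2 * w - 1) + 2 ^ (w - 1) - 1 :=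
  C.index_le_ncard.trans C.ncard_sing.le

theorem index_norm_le (C : Cfg ρ b q a D X w) :
    (Subgroup.normalizer (X : Set H)).index ≤ 2 ^ (2 * w - 1) + 2 ^ (w - 1) - 1 := by
  rw [← C.stab_eq]; exact C.index_le

/-- `|GL_n(2)|` -/
def glc (n : ℕ) : ℕ := ∏ i : Fin n, (2 ^ n - 2 ^ (i : ℕ))

theorem card_mulAut_X (C : Cfg ρ b q a D X w) : Nat.card (MulAut X) = glc (w - 1) := by
  have hfin := C.finite_H
  have : Fact (Nat.Prime 2) := ⟨Nat.prime_two⟩
  let _ : CommGroup X :=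
    { (inferInstance : Group X) with
      mul_comm := fun x y => Subtype.ext (C.X_comm x.2 y.2) }
  obtain ⟨e⟩ := Cfsg.Agent.Lib.ElemAbGL.mulAut_equiv_GL (V := X) 2 (w - 1)
    (fun x => by
      apply Subtype.ext
      show (x : H) ^ 2 = 1
      rw [pow_two]; exact C.X_sq x x.2) C.card_X
  rw [Nat.card_congr e.toEquiv, Matrix.card_GL_field, glc]
  rfl

/-- `|H_a|` divides `2^k |GL_{w-1}(2)|` -/
theorem card_stab_dvd (C : Cfg ρ b q a D X w) : ∃ k, Nat.card (stab ρ a) ∣ 2 ^ k * glc (w - 1) := by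
  classical
  have hfin := C.finite_H
  have : Fact (Nat.Prime 2) := ⟨Nat.prime_two⟩
  -- the action of `H_a` on `X`
  let ψ : stab ρ a →* MulAut X :=
    { toFun := fun h =>
        { toFun := fun x => ⟨h * x * (h : H)⁻¹, C.X_norm h h.2 x x.2⟩
          invFun := fun x => ⟨(h : H)⁻¹ * x * h, by
            have := C.X_norm (h : H)⁻¹ ((stab ρ a).inv_mem h.2) x x.2
            rwa [inv_inv] at this⟩
          left_inv := fun x => Subtype.ext (by
            show (h : H)⁻¹ * (h * x * (h : H)⁻¹) * h = x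
            group)
          right_inv := fun x => Subtype.ext (by
            show (h : H) * ((h : H)⁻¹ * x * h) * (h : H)⁻¹ = x
            group)
          map_mul' := fun x y => Subtype.ext (by
            show (h : H) * (x * y) * (h : H)⁻¹ = h * x * (h : H)⁻¹ * (h * y * (h : H)⁻¹)
            group) }
      map_one' := by
        ext x
        show ((1 : stab ρ a) : H) * x * ((1 : stab ρ a) : H)⁻¹ = x
        simp
      map_mul' := fun g h => by
        ext x
        show ((g * h : stab ρ a) : H) * x * ((g * h : stab ρ a) : H)⁻¹ =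
          g * (h * x * (h : H)⁻¹) * (g : H)⁻¹
        rw [Subgroup.coe_mul]
        group }
  have hker : IsPGroup 2 ψ.ker := by
    intro g
    refine ⟨2, ?_⟩
    apply Subtype.ext
    apply Subtype.ext
    show ((g : stab ρ a) : H) ^ (2 ^ 2) = 1
    apply C.pow_four
    intro x hx
    have h1 : ψ g = 1 := g.2
    have h2 : ((ψ g) ⟨x, hx⟩ : H) = x := by rw [h1]; rfl
    have h3 : ((g : stab ρ a) : H) * x * ((g : stab ρ a) : H)⁻¹ = x := h2
    rwa [mul_inv_eq_iff_eq_mul] at h3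
  obtain ⟨k, hk⟩ := IsPGroup.iff_card.1 hker
  refine ⟨k, ?_⟩
  have h1 := Subgroup.card_eq_card_quotient_mul_card_subgroup ψ.ker
  have h2 : Nat.card (stab ρ a ⧸ ψ.ker) = Nat.card ψ.range :=
    Nat.card_congr (QuotientGroup.quotientKerEquivRange ψ).toEquiv
  have h3 : Nat.card ψ.range ∣ glc (w - 1) := by
    rw [← C.card_mulAut_X]
    exact Subgroup.card_subgroup_dvd_card _
  rw [h1, h2, hk, mul_comm]
  exact mul_dvd_mul_left _ h3

/-- **(ARITH)** -/
theorem card_dvd (C : Cfg ρ b q a D X w) :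
    ∃ k, Nat.card H ∣ (stab ρ a).index * (2 ^ k * glc (w - 1)) := by
  obtain ⟨k, hk⟩ := C.card_stab_dvd
  refine ⟨k, ?_⟩
  rw [← (stab ρ a).index_mul_card]
  exact mul_dvd_mul_left _ hk

/-- (ARITH) for an odd divisor `m` of `|H|` -/
theorem arith (C : Cfg ρ b q a D X w) {m : ℕ} (hm : m ∣ Nat.card H) (h2 : Nat.Coprime m 2) :
    m ≤ Nat.gcd m (glc (w - 1)) * (2 ^ (2 * w - 1) + 2 ^ (w - 1) - 1) := by
  have hfin := C.finite_H
  obtain ⟨k, hk⟩ := C.card_dvd
  have h3 : m ∣ glc (w - 1) * (stab ρ a).index := by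
    have h4 := hm.trans hk
    have h5 : (stab ρ a).index * (2 ^ k * glc (w - 1)) =
        2 ^ k * (glc (w - 1) * (stab ρ a).index) := by ring
    rw [h5] at h4
    exact (Nat.Coprime.pow_right k h2).dvd_of_dvd_mul_left h4
  have h4 : m ∣ Nat.gcd m (glc (w - 1)) * (stab ρ a).index := by
    have h5 : m ∣ Nat.gcd (m * (stab ρ a).index) (glc (w - 1) * (stab ρ a).index) :=
      Nat.dvd_gcd (dvd_mul_right _ _) h3
    rwa [Nat.gcd_mul_right] at h5
  have h5 : 0 < (stab ρ a).index := Nat.pos_of_ne_zero Subgroup.index_ne_zero_of_finite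
  have h6 : 0 < m := Nat.pos_of_ne_zero (by
    rintro rfl
    rw [zero_dvd_iff] at hm
    exact Nat.card_pos.ne' hm)
  have h7 : 0 < Nat.gcd m (glc (w - 1)) := Nat.gcd_pos_of_pos_left _ h6
  exact (Nat.le_of_dvd (Nat.mul_pos h7 h5) h4).trans (Nat.mul_le_mul_left _ C.index_le)

end Cfsg.Agent.Omega.EH3.Cfg
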