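import Cfsg.Agent.Omega.EH3.Cons
import Cfsg.Agent.Omega.W5.NearTI

/-!
# EH3: the configuration gives helper947's system `Sys` (helper888)
-/

set_option autoImplicit false

namespace Cfsg.Agent.Omega.EH3.Cfg

open Cfsg.Agent.Omega.W5.NearTI

variable {H V : Type*} [Group H] [AddCommGroup V] [Module (ZMod 2) V]
  {ρ : H →* (V ≃ₗ[ZMod 2] V)} {b : LinearMap.BilinForm (ZMod 2) V} {q : V → ZMod 2}
  {a : V} {D : Submodule (ZMod 2) V} {X : Subgroup H} {w : ℕ}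

/-- **`Cfg ⇒ Sys`** -/
theorem sys (C : Cfg ρ b q a D X w) : Sys b ρ.range (X.map ρ) D a where
  alt := C.b_self
  comm := C.b_comm
  nondeg := C.nondeg
  inv := by rintro _ ⟨h, rfl⟩ v u; exact C.b_inv h v u
  X_le := by rintro _ ⟨x, -, rfl⟩; exact ⟨x, rfl⟩
  ne := C.a_ne
  mem := C.a_mem
  X_e := by rintro _ ⟨x, hx, rfl⟩; exact C.X_a hx
  X_D := by rintro _ ⟨x, hx, rfl⟩ d hd; exact C.X_D x hx d hd
  X_perp := by rintro _ ⟨x, hx, rfl⟩ v hv; exact C.X_perp x hx v hv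
  X_sq := by rintro _ ⟨x, hx, rfl⟩; rw [← map_mul, C.X_sq x hx, map_one]
  X_comm := by rintro _ ⟨x, hx, rfl⟩ _ ⟨y, hy, rfl⟩; rw [← map_mul, ← map_mul, C.X_comm hx hy]
  normal := by
    rintro _ ⟨h, rfl⟩ ha _ ⟨x, hx, rfl⟩
    exact ⟨h * x * h⁻¹, C.X_norm h ha x hx, by rw [map_mul, map_mul, map_inv]⟩
  D_inv := by rintro _ ⟨h, rfl⟩ ha d hd; exact C.D_inv h ha d hd
  full := by
    intro φ hφ
    obtain ⟨x, hx, h⟩ := C.X_all φ hφ
    exact ⟨ρ x, ⟨x, hx, rfl⟩, h⟩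
  free := by
    rintro _ ⟨x, hx, rfl⟩ v hv h
    rw [C.X_semi x hx v hv h, map_one]
  surj := by
    intro v s hv hs
    obtain ⟨x, hx, h⟩ := C.exists_sigma hv hs
    exact ⟨ρ x, ⟨x, hx, rfl⟩, h⟩
  D_iso := fun v hv u hu => C.b_D hv hu

end Cfsg.Agent.Omega.EH3.Cfg
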