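import Cfsg.Agent.Omega.EH3.NodeS
import Mathlib.LinearAlgebra.Matrix.SpecialLinearGroup
import Mathlib.RingTheory.IntegralDomain

/-!
# Nodes from homomorphisms onto `SL(2, F)` (blueprint OMEGA-FF2b-helper796)

* `Pre.comap`, `NodeL.comap` : pull back along a surjective `ψ : E →* G₀` whose kernel is a 2-group;
* `slNode` : `SL(2, F)`, `F` finite of characteristic 2, is an `L₂(F)`-node;
* `nodeL_of_hom` : `ψ : E →* SL(2, F)` onto with 2-group as kernel, `T` a Sylow 2-subgroup of `E` : there is a `NodeL`;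
* `fix_of_hom` : `E` fixes `a` if `|F| ≥ 8`.
-/

set_option autoImplicit false

namespace Cfsg.Agent.Omega.EH3

open Subgroup

section comap

variable {H G₀ : Type*} [Group H] [Group G₀] {E : Subgroup H} {T₀ O₀ : Subgroup G₀}

/-- the pull back of a subgroup of `G₀` as a subgroup of `H` -/
def pull (ψ : E →* G₀) (K : Subgroup G₀) : Subgroup H := (K.comap ψ).map E.subtype

theorem mem_pull (ψ : E →* G₀) (K : Subgroup G₀) {g : H} :
    g ∈ pull ψ K ↔ ∃ h : g ∈ E, ψ ⟨g, h⟩ ∈ K := by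
  unfold pull
  constructor
  · rintro ⟨x, hx, rfl⟩
    exact ⟨x.2, hx⟩
  · rintro ⟨h, hg⟩
    exact ⟨⟨g, h⟩, hg, rfl⟩

theorem mem_pull_coe (ψ : E →* G₀) (K : Subgroup G₀) (g : E) : (g : H) ∈ pull ψ K ↔ ψ g ∈ K := by
  rw [mem_pull]
  exact ⟨fun ⟨_, h⟩ => h, fun h => ⟨g.2, h⟩⟩

theorem pull_le (ψ : E →* G₀) (K : Subgroup G₀) : pull ψ K ≤ E := fun _ hg => ((mem_pull ψ K).1 hg).1

/-- the normalizer in `E` of the pull back -/
theorem mem_normalizer_pull (ψ : E →* G₀) (hψ : Function.Surjective ψ) (K : Subgroup G₀) (g : E) :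
    (g : H) ∈ normalizer ((pull ψ K : Subgroup H) : Set H) ↔ ψ g ∈ normalizer (K : Set G₀) := by
  rw [mem_normalizer_iff, mem_normalizer_iff]
  constructor
  · intro h k
    obtain ⟨x, rfl⟩ := hψ k
    have := h x
    rw [mem_pull_coe] at this
    have h2 := mem_pull_coe ψ K (g * x * g⁻¹)
    push_cast at h2
    rw [h2, map_mul, map_mul, map_inv] at this
    exact this
  · intro h x
    constructor
    · intro hx
      obtain ⟨hxE, hx⟩ := (mem_pull ψ K).1 hx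
      refine (mem_pull ψ K).2 ⟨E.mul_mem (E.mul_mem g.2 hxE) (E.inv_mem g.2), ?_⟩
      have := (h (ψ ⟨x, hxE⟩)).1 hx
      rw [← map_inv, ← map_mul, ← map_mul] at this
      exact this
    · intro hx
      obtain ⟨hxE, hx⟩ := (mem_pull ψ K).1 hx
      have hxE' : x ∈ E := by
        have := E.mul_mem (E.mul_mem (E.inv_mem g.2) hxE) g.2
        have h3 : (g : H)⁻¹ * (g * x * (g : H)⁻¹) * g = x := by group
        rwa [h3] at this
      refine (mem_pull ψ K).2 ⟨hxE', (h (ψ ⟨x, hxE'⟩)).2 ?_⟩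
      rw [← map_inv, ← map_mul, ← map_mul]
      exact hx

/-- **Pull back of a rank one situation.** -/
theorem Pre.comap (ψ : E →* G₀) (hψ : Function.Surjective ψ) (hker : IsPGroup 2 ψ.ker)
    (P : Pre (⊤ : Subgroup G₀) T₀ O₀) : Pre E (pull ψ T₀) (pull ψ O₀) where
  T_le := pull_le ψ T₀
  O_le := by
    intro g hg
    obtain ⟨hE, h⟩ := (mem_pull ψ O₀).1 hg
    exact (mem_pull ψ T₀).2 ⟨hE, P.O_le h⟩
  two := by
    rintro ⟨g, hg⟩
    obtain ⟨hE, h⟩ := (mem_pull ψ T₀).1 hg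
    obtain ⟨k, hk⟩ := P.two ⟨_, h⟩
    have h1 : (⟨g, hE⟩ : E) ^ 2 ^ k ∈ ψ.ker := by
      rw [MonoidHom.mem_ker, map_pow]
      exact congrArg Subtype.val hk
    obtain ⟨l, hl⟩ := hker ⟨_, h1⟩
    refine ⟨k + l, Subtype.ext ?_⟩
    have h2 := congrArg (fun x : ψ.ker => ((x : E) : H)) hl
    have h3 : (g ^ 2 ^ k) ^ 2 ^ l = 1 := by simpa using h2
    show g ^ 2 ^ (k + l) = 1
    rw [pow_add, pow_mul, h3]
  norm := by
    intro g hg o ho
    obtain ⟨hE, h⟩ := (mem_pull ψ O₀).1 ho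
    refine (mem_pull ψ O₀).2 ⟨E.mul_mem (E.mul_mem hg hE) (E.inv_mem hg), ?_⟩
    have := P.norm (ψ ⟨g, hg⟩) (mem_top _) _ h
    rw [← map_inv, ← map_mul, ← map_mul] at this
    exact this
  trans := by
    intro g hg hgN k hk hkN
    have h1 : ψ ⟨g, hg⟩ ∉ normalizer (T₀ : Set G₀) := fun hc =>
      hgN ((mem_normalizer_pull ψ hψ T₀ ⟨g, hg⟩).2 hc)
    have h2 : ψ ⟨k, hk⟩ ∉ normalizer (T₀ : Set G₀) := fun hc =>
      hkN ((mem_normalizer_pull ψ hψ T₀ ⟨k, hk⟩).2 hc)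
    obtain ⟨t, ht, htn⟩ := P.trans _ (mem_top _) h1 _ (mem_top _) h2
    obtain ⟨t, rfl⟩ := hψ t
    refine ⟨t, (mem_pull_coe ψ T₀ t).2 ht, ?_⟩
    have h3 := (mem_normalizer_pull ψ hψ T₀ ((t * ⟨g, hg⟩)⁻¹ * ⟨k, hk⟩)).2 (by
      rw [map_mul, map_inv, map_mul]; exact htn)
    simpa using h3
  core := by
    intro g hg hall
    refine (mem_pull ψ O₀).2 ⟨hg, P.core _ (mem_top _) fun k _ => ?_⟩
    obtain ⟨k, rfl⟩ := hψ k
    have h1 := hall k k.2
    have h2 := (mem_normalizer_pull ψ hψ T₀ (k⁻¹ * ⟨g, hg⟩ * k)).1 (by simpa using h1)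
    rw [map_mul, map_mul, map_inv] at h2
    exact h2

open Classical in
/-- **Pull back of an `L₂(F)`-node.** -/
theorem NodeL.comap {F : Type*} [Field F] {φ : G₀ → F} {c lam} (ψ : E →* G₀)
    (hψ : Function.Surjective ψ) (hker : IsPGroup 2 ψ.ker)
    (P : NodeL (⊤ : Subgroup G₀) T₀ O₀ φ c lam) (c' : E) (hc' : ψ c' = c) :
    NodeL E (pull ψ T₀) (pull ψ O₀) (fun h => if hh : h ∈ E then φ (ψ ⟨h, hh⟩) else 0) (c' : H) lam where
  toPre := P.toPre.comap ψ hψ hker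
  map_mul := by
    intro s hs t ht
    obtain ⟨hsE, hs⟩ := (mem_pull ψ T₀).1 hs
    obtain ⟨htE, ht⟩ := (mem_pull ψ T₀).1 ht
    have h1 := P.map_mul _ hs _ ht
    rw [← _root_.map_mul] at h1
    simp only [dif_pos hsE, dif_pos htE, dif_pos (E.mul_mem hsE htE)]
    exact h1
  ker := by
    intro s hs
    obtain ⟨hsE, hs⟩ := (mem_pull ψ T₀).1 hs
    have h1 := P.ker _ hs
    simp only [dif_pos hsE]
    rw [h1]
    exact ⟨fun h => (mem_pull ψ O₀).2 ⟨hsE, h⟩, fun h => ((mem_pull ψ O₀).1 h).2⟩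
  surj := by
    intro f
    obtain ⟨t, ht, htf⟩ := P.surj f
    obtain ⟨t, rfl⟩ := hψ t
    refine ⟨t, (mem_pull_coe ψ T₀ t).2 ht, ?_⟩
    simp only [dif_pos t.2]
    exact htf
  c_mem := c'.2
  c_norm := (mem_normalizer_pull ψ hψ T₀ c').2 (by rw [hc']; exact P.c_norm)
  gen := by
    intro g hg hgN
    have h1 := (mem_normalizer_pull ψ hψ T₀ ⟨g, hg⟩).1 hgN
    obtain ⟨k, t, ht, h2⟩ := P.gen _ (mem_top _) h1
    refine ⟨k, ((c' : H) ^ k)⁻¹ * g, ?_, (mul_inv_cancel_left _ _).symm⟩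
    have h3 := (mem_pull_coe ψ T₀ ((c' ^ k)⁻¹ * ⟨g, hg⟩)).2 (by
      rw [_root_.map_mul, _root_.map_inv, _root_.map_pow, hc', h2, inv_mul_cancel_left]
      exact ht)
    simpa using h3
  act := by
    intro t ht
    obtain ⟨htE, ht⟩ := (mem_pull ψ T₀).1 ht
    have h1 := P.act _ ht
    have h2 : (c' : H) * t * (c' : H)⁻¹ ∈ E := E.mul_mem (E.mul_mem c'.2 htE) (E.inv_mem c'.2)
    have h3 : ψ ⟨(c' : H) * t * (c' : H)⁻¹, h2⟩ = c * ψ ⟨t, htE⟩ * c⁻¹ := by
      rw [← hc', ← _root_.map_inv, ← _root_.map_mul, ← _root_.map_mul]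
      rfl
    simp only [dif_pos h2, dif_pos htE]
    rw [h3, h1]
  ne := P.ne
  ord := P.ord
  tor := by
    have h1 := (mem_pull_coe ψ T₀ (c' ^ (Nat.card F - 1))).2 (by
      rw [_root_.map_pow, hc']; exact P.tor)
    simpa using h1

end comap

/-! ### `SL(2, F)` -/

section SL2

open Matrix

variable {F : Type*} [Field F]

theorem sl_mul (g h : SpecialLinearGroup (Fin 2) F) (i j : Fin 2) :
    (g * h).1 i j = g.1 i 0 * h.1 0 j + g.1 i 1 * h.1 1 j := by
  show (g.1 * h.1) i j = _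
  rw [Matrix.mul_apply, Fin.sum_univ_two]

theorem sl_ext {g h : SpecialLinearGroup (Fin 2) F} (h00 : g.1 0 0 = h.1 0 0) (h01 : g.1 0 1 = h.1 0 1)
    (h10 : g.1 1 0 = h.1 1 0) (h11 : g.1 1 1 = h.1 1 1) : g = h := by
  apply Subtype.ext
  ext i j
  fin_cases i <;> fin_cases j
  · exact h00
  · exact h01
  · exact h10
  · exact h11

theorem sl_det (g : SpecialLinearGroup (Fin 2) F) : g.1 0 0 * g.1 1 1 - g.1 0 1 * g.1 1 0 = 1 := by
  have := g.2
  rwa [Matrix.det_fin_two] at this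

/-- the unipotent elements -/
def uni (t : F) : SpecialLinearGroup (Fin 2) F := ⟨!![1, t; 0, 1], by simp [Matrix.det_fin_two]⟩

theorem uni_00 (t : F) : (uni t).1 0 0 = 1 := rfl
theorem uni_01 (t : F) : (uni t).1 0 1 = t := rfl
theorem uni_10 (t : F) : (uni t).1 1 0 = 0 := rfl
theorem uni_11 (t : F) : (uni t).1 1 1 = 1 := rfl

theorem one_00 : (1 : SpecialLinearGroup (Fin 2) F).1 0 0 = 1 := rfl
theorem one_01 : (1 : SpecialLinearGroup (Fin 2) F).1 0 1 = 0 := rfl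
theorem one_10 : (1 : SpecialLinearGroup (Fin 2) F).1 1 0 = 0 := rfl
theorem one_11 : (1 : SpecialLinearGroup (Fin 2) F).1 1 1 = 1 := rfl

theorem uni_mul (s t : F) : uni s * uni t = uni (s + t) := by
  apply sl_ext <;> simp only [sl_mul, uni_00, uni_01, uni_10, uni_11] <;> ring

theorem uni_zero : uni (0 : F) = 1 := by
  apply sl_ext <;> simp only [uni_00, uni_01, uni_10, uni_11, one_00, one_01, one_10, one_11]

theorem uni_inv (t : F) : (uni t)⁻¹ = uni (-t) := by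
  rw [inv_eq_iff_mul_eq_one, uni_mul, add_neg_cancel, uni_zero]

/-- the unipotent subgroup -/
def UU (F : Type*) [Field F] : Subgroup (SpecialLinearGroup (Fin 2) F) where
  carrier := Set.range uni
  one_mem' := ⟨0, uni_zero⟩
  mul_mem' := by
    rintro _ _ ⟨s, rfl⟩ ⟨t, rfl⟩
    exact ⟨s + t, (uni_mul s t).symm⟩
  inv_mem' := by
    rintro _ ⟨s, rfl⟩
    exact ⟨-s, (uni_inv s).symm⟩

theorem mem_UU {g : SpecialLinearGroup (Fin 2) F} : g ∈ UU F ↔ ∃ t, uni t = g := Iff.rfl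

theorem mem_UU_iff {g : SpecialLinearGroup (Fin 2) F} :
    g ∈ UU F ↔ g.1 0 0 = 1 ∧ g.1 1 0 = 0 := by
  rw [mem_UU]
  constructor
  · rintro ⟨t, rfl⟩
    exact ⟨uni_00 t, uni_10 t⟩
  · rintro ⟨h0, h1⟩
    have := sl_det g
    rw [h0, h1, one_mul, mul_zero, sub_zero] at this
    exact ⟨g.1 0 1, sl_ext (by rw [h0]; rfl) rfl (by rw [h1]; rfl) (by rw [this]; rfl)⟩

/-- the diagonal elements -/
def dia (u : Fˣ) : SpecialLinearGroup (Fin 2) F :=
  ⟨!![(u : F), 0; 0, ((u⁻¹ : Fˣ) : F)], by simp [Matrix.det_fin_two]⟩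

theorem dia_00 (u : Fˣ) : (dia u).1 0 0 = (u : F) := rfl
theorem dia_01 (u : Fˣ) : (dia u).1 0 1 = 0 := rfl
theorem dia_10 (u : Fˣ) : (dia u).1 1 0 = 0 := rfl
theorem dia_11 (u : Fˣ) : (dia u).1 1 1 = ((u⁻¹ : Fˣ) : F) := rfl

theorem dia_mul (u v : Fˣ) : dia u * dia v = dia (u * v) := by
  apply sl_ext <;> simp only [sl_mul, dia_00, dia_01, dia_10, dia_11, Units.val_mul, mul_inv] <;> ring

theorem dia_one : dia (1 : Fˣ) = 1 := by
  apply sl_ext <;> simp [dia_00, dia_01, dia_10, dia_11, one_00, one_01, one_10, one_11]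

theorem dia_pow (u : Fˣ) (k : ℕ) : dia u ^ k = dia (u ^ k) := by
  induction k with
  | zero => rw [pow_zero, pow_zero, dia_one]
  | succ k ih => rw [pow_succ, ih, dia_mul, pow_succ]

theorem mem_normalizer_UU (g : SpecialLinearGroup (Fin 2) F) :
    g ∈ normalizer ((UU F : Subgroup _) : Set (SpecialLinearGroup (Fin 2) F)) ↔ g.1 1 0 = 0 := by
  have key : ∀ (g : SpecialLinearGroup (Fin 2) F), g.1 1 0 = 0 → ∀ t : F, g * uni t * g⁻¹ ∈ UU F := by
    intro g h0 t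
    refine ⟨g.1 0 0 * g.1 0 0 * t, ?_⟩
    rw [eq_mul_inv_iff_mul_eq]
    have hdet := sl_det g
    rw [h0, mul_zero, sub_zero] at hdet
    apply sl_ext <;> simp only [sl_mul, uni_00, uni_01, uni_10, uni_11, h0]
    · ring
    · linear_combination (g.1 0 0 * t) * hdet
    · ring
    · ring
  rw [mem_normalizer_iff]
  constructor
  · intro h
    obtain ⟨s, hs⟩ := (h (uni 1)).1 ⟨1, rfl⟩
    rw [eq_mul_inv_iff_mul_eq] at hs
    have h2 := congrArg (fun m : SpecialLinearGroup (Fin 2) F => m.1 1 1) hs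
    simp only [sl_mul, uni_00, uni_01, uni_10, uni_11] at h2
    linear_combination -h2
  · intro h0 x
    constructor
    · rintro ⟨t, rfl⟩
      exact key g h0 t
    · rintro ⟨t, ht⟩
      have h1 : (g⁻¹).1 1 0 = 0 := by
        have : (g⁻¹).1 1 0 = - g.1 1 0 := by
          show (g.1).adjugate 1 0 = _
          rw [Matrix.adjugate_fin_two]
          rfl
        rw [this, h0, neg_zero]
      have h2 := key g⁻¹ h1 t
      rw [ht] at h2
      have h3 : g⁻¹ * (g * x * g⁻¹) * g⁻¹⁻¹ = x := by group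
      rwa [h3] at h2

/-- **`SL(2, F)` is an `L₂(F)`-node.** -/
theorem slNode [Finite F] [CharP F 2] : ∃ u : Fˣ,
    NodeL (⊤ : Subgroup (SpecialLinearGroup (Fin 2) F)) (UU F) ⊥ (fun g => g.1 0 1) (dia u)
      ((u : F) ^ 2) := by
  classical
  have : Fintype F := Fintype.ofFinite F
  obtain ⟨u, hu⟩ := IsCyclic.exists_generator (α := Fˣ)
  refine ⟨u, ?_⟩
  have hcard : Nat.card Fˣ = Nat.card F - 1 := Nat.card_units F
  have heven : 2 ∣ Nat.card F := by
    rw [Nat.card_eq_fintype_card, ← CharP.cast_eq_zero_iff F 2]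
    exact FiniteField.cast_card_eq_zero F
  have hpos : 0 < Nat.card F := Nat.card_pos
  have hord : orderOf u = Nat.card F - 1 := by
    rw [← hcard]; exact orderOf_eq_card_of_forall_mem_zpowers hu
  refine
    { T_le := le_top
      O_le := bot_le
      two := ?_
      norm := ?_
      trans := ?_
      core := ?_
      map_mul := ?_
      ker := ?_
      surj := fun f => ⟨uni f, ⟨f, rfl⟩, rfl⟩
      c_mem := mem_top _
      c_norm := (mem_normalizer_UU _).2 rfl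
      gen := ?_
      act := ?_
      ne := pow_ne_zero 2 u.ne_zero
      ord := ?_
      tor := ?_ }
  · rintro ⟨_, t, rfl⟩
    refine ⟨1, Subtype.ext ?_⟩
    show uni t ^ 2 ^ 1 = 1
    rw [pow_one, sq, uni_mul, CharTwo.add_self_eq_zero, uni_zero]
  · rintro g _ o ho
    rw [mem_bot] at ho ⊢
    rw [ho]; group
  · intro g _ hg h _ hh
    rw [mem_normalizer_UU] at hg hh
    refine ⟨uni (h.1 0 0 / h.1 1 0 - g.1 0 0 / g.1 1 0), ⟨_, rfl⟩, ?_⟩
    rw [mem_normalizer_UU]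
    have h1 : ((uni (h.1 0 0 / h.1 1 0 - g.1 0 0 / g.1 1 0) * g)⁻¹ * h).1 1 0
        = (uni (h.1 0 0 / h.1 1 0 - g.1 0 0 / g.1 1 0) * g).1 0 0 * h.1 1 0
          - (uni (h.1 0 0 / h.1 1 0 - g.1 0 0 / g.1 1 0) * g).1 1 0 * h.1 0 0 := by
      rw [sl_mul]
      have h2 : ∀ k : SpecialLinearGroup (Fin 2) F, (k⁻¹).1 1 0 = - k.1 1 0 ∧ (k⁻¹).1 1 1 = k.1 0 0 := by
        intro k
        constructor
        · show (k.1).adjugate 1 0 = _
          rw [Matrix.adjugate_fin_two]; rfl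
        · show (k.1).adjugate 1 1 = _
          rw [Matrix.adjugate_fin_two]; rfl
      rw [(h2 _).1, (h2 _).2]
      ring
    rw [h1]
    simp only [sl_mul, uni_00, uni_01, uni_10, uni_11]
    field_simp
    ring
  · intro g _ hall
    rw [mem_bot]
    have h1 : g.1 1 0 = 0 := by
      have := hall 1 (mem_top _)
      rw [inv_one, one_mul, mul_one, mem_normalizer_UU] at this
      exact this
    -- the element `w`
    let w : SpecialLinearGroup (Fin 2) F := ⟨!![0, -1; 1, 0], by simp [Matrix.det_fin_two]⟩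
    have hconj : ∀ k : SpecialLinearGroup (Fin 2) F, (k⁻¹ * g * k).1 1 0
        = -k.1 1 0 * (g.1 0 0 * k.1 0 0 + g.1 0 1 * k.1 1 0) +
          k.1 0 0 * (g.1 1 0 * k.1 0 0 + g.1 1 1 * k.1 1 0) := by
      intro k
      rw [mul_assoc, sl_mul]
      have h2 : (k⁻¹).1 1 0 = - k.1 1 0 ∧ (k⁻¹).1 1 1 = k.1 0 0 := by
        constructor
        · show (k.1).adjugate 1 0 = _
          rw [Matrix.adjugate_fin_two]; rfl
        · show (k.1).adjugate 1 1 = _
          rw [Matrix.adjugate_fin_two]; rfl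
      rw [h2.1, h2.2, sl_mul, sl_mul]
    have h2 : g.1 0 1 = 0 := by
      have := (mem_normalizer_UU _).1 (hall w (mem_top _))
      rw [hconj] at this
      simp only [show w.1 1 0 = 1 from rfl, show w.1 0 0 = 0 from rfl] at this
      linear_combination -this
    have h3 : g.1 0 0 = g.1 1 1 := by
      let v : SpecialLinearGroup (Fin 2) F := ⟨!![1, 0; 1, 1], by simp [Matrix.det_fin_two]⟩
      have := (mem_normalizer_UU _).1 (hall v (mem_top _))
      rw [hconj] at this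
      simp only [show v.1 1 0 = 1 from rfl, show v.1 0 0 = 1 from rfl, h1, h2] at this
      linear_combination -this
    have hdet := sl_det g
    rw [h1, h3, mul_zero, sub_zero] at hdet
    have h4 : g.1 1 1 = 1 := by
      have h5 : (g.1 1 1 - 1) * (g.1 1 1 - 1) = 0 := by
        have h2 : (2 : F) = 0 := CharTwo.two_eq_zero
        linear_combination hdet + (1 - g.1 1 1) * h2
      have h6 := mul_self_eq_zero.1 h5
      linear_combination h6
    exact sl_ext (by rw [h3, h4]; rfl) (by rw [h2]; rfl) (by rw [h1]; rfl) (by rw [h4]; rfl)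
  · rintro _ ⟨s, rfl⟩ _ ⟨t, rfl⟩
    simp only [uni_mul, uni_01]
  · rintro _ ⟨s, rfl⟩
    simp only [uni_01, mem_bot]
    constructor
    · rintro rfl; exact uni_zero
    · intro h
      have := congrArg (fun m : SpecialLinearGroup (Fin 2) F => m.1 0 1) h
      exact this
  · intro g _ hg
    rw [mem_normalizer_UU] at hg
    have hdet := sl_det g
    rw [hg, mul_zero, sub_zero] at hdet
    have h0 : g.1 0 0 ≠ 0 := left_ne_zero_of_mul_eq_one hdet
    obtain ⟨k, hk⟩ := hu (Units.mk0 _ h0)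
    -- natural exponent
    obtain ⟨m, hm⟩ : ∃ m : ℕ, u ^ m = Units.mk0 _ h0 := by
      have := (mem_powers_iff_mem_zpowers (x := u) (y := Units.mk0 _ h0)).2 ⟨k, hk⟩
      exact this
    refine ⟨m, (dia u ^ m)⁻¹ * g, ?_, (mul_inv_cancel_left _ _).symm⟩
    rw [dia_pow, hm, mem_UU_iff]
    have hinv : (dia (Units.mk0 _ h0))⁻¹ = dia (Units.mk0 _ h0)⁻¹ := by
      rw [inv_eq_iff_mul_eq_one, dia_mul, mul_inv_cancel, dia_one]
    rw [hinv]
    constructor
    · simp [sl_mul, dia_00, dia_01, h0]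
    · simp [sl_mul, dia_10, dia_11, hg]
  · rintro _ ⟨t, rfl⟩
    have hinv : (dia u)⁻¹ = dia u⁻¹ := by
      rw [inv_eq_iff_mul_eq_one, dia_mul, mul_inv_cancel, dia_one]
    simp only [hinv, sl_mul, dia_00, dia_01, dia_10, dia_11, uni_00, uni_01, uni_10, uni_11, inv_inv]
    ring
  · intro k hk
    have h1 : u ^ (2 * k) = 1 := by
      apply Units.ext
      rw [Units.val_pow_eq_pow_val, pow_mul]
      exact hk
    have h2 := orderOf_dvd_of_pow_eq_one h1
    rw [hord] at h2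
    refine Nat.Coprime.dvd_of_dvd_mul_left ?_ h2
    obtain ⟨j, hj⟩ := heven
    have : Odd (Nat.card F - 1) := ⟨j - 1, by omega⟩
    exact this.coprime_two_right
  · rw [dia_pow, ← hord, pow_orderOf_eq_one, dia_one]
    exact (UU F).one_mem

end SL2

/-! ### `T` is a Sylow 2-subgroup of `E` -/

section sylow

variable {H : Type*} [Group H] {E T O : Subgroup H} {F : Type*} [Field F] {φ : H → F} {c : H} {lam : F}

theorem odd_card_sub [Finite F] [CharP F 2] : Odd (Nat.card F - 1) := by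
  have : Fintype F := Fintype.ofFinite F
  have h1 : 2 ∣ Nat.card F := by
    rw [Nat.card_eq_fintype_card, ← CharP.cast_eq_zero_iff F 2]
    exact FiniteField.cast_card_eq_zero F
  have h2 : 0 < Nat.card F := Nat.card_pos
  obtain ⟨k, hk⟩ := h1
  exact ⟨k - 1, by omega⟩

/-- 2-elements of `N_E(T)` lie in `T` -/
theorem NodeL.mem_of_two [Finite F] [CharP F 2] (h : NodeL E T O φ c lam) {g : H} (hg : g ∈ E)
    (hgN : g ∈ normalizer (T : Set H)) (h2 : ∃ k : ℕ, g ^ 2 ^ k = 1) : g ∈ T := by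
  obtain ⟨k, hk⟩ := h2
  have h1 := h.pow_mem_T hg hgN
  have hco : Nat.Coprime (2 ^ k) (Nat.card F - 1) :=
    Nat.Coprime.pow_left k (Nat.coprime_two_left.2 odd_card_sub)
  have h3 : g ^ (Int.gcd (2 ^ k : ℕ) (Nat.card F - 1 : ℕ) : ℤ) ∈ T := by
    rw [Int.gcd_eq_gcd_ab, zpow_add, zpow_mul, zpow_mul, zpow_natCast, zpow_natCast, hk, one_zpow,
      one_mul]
    exact zpow_mem h1 _
  rw [Int.gcd_natCast_natCast, hco] at h3
  simpa using h3

/-- `T` is a maximal 2-subgroup of `E` -/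
theorem NodeL.maximal [Finite H] [Finite F] [CharP F 2] (h : NodeL E T O φ c lam) {Q : Subgroup H}
    (hQE : Q ≤ E) (hQ : IsPGroup 2 Q) (hTQ : T ≤ Q) : Q = T := by
  by_contra hne
  have : Fact (Nat.Prime 2) := ⟨Nat.prime_two⟩
  have hlt : T.subgroupOf Q < ⊤ := by
    rw [lt_top_iff_ne_top]
    intro h1
    exact hne (le_antisymm (subgroupOf_eq_top.1 h1) hTQ)
  have hnil : Group.IsNilpotent Q := hQ.isNilpotent
  have hnc := Group.normalizerCondition_of_isNilpotent (G := Q) _ hlt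
  obtain ⟨g, hg, hgT⟩ := Set.exists_of_ssubset hnc
  apply hgT
  show (g : H) ∈ T
  refine h.mem_of_two (hQE g.2) ?_ ?_
  · rw [mem_normalizer_iff]
    intro t
    have hg' := mem_normalizer_iff.1 hg
    constructor
    · intro ht
      exact (hg' ⟨t, hTQ ht⟩).1 ht
    · intro ht
      have htQ : t ∈ Q := by
        have h1 := Q.mul_mem (Q.mul_mem (Q.inv_mem g.2) (hTQ ht)) g.2
        have h2 : (g : H)⁻¹ * (g * t * (g : H)⁻¹) * g = t := by group
        rwa [h2] at h1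
      exact (hg' ⟨t, htQ⟩).2 ht
  · obtain ⟨k, hk⟩ := hQ g
    exact ⟨k, by simpa using congrArg Subtype.val hk⟩

/-- **An `L₂(F)`-node from a homomorphism onto `SL(2, F)`.** -/
theorem nodeL_of_hom [Finite H] [Finite F] [CharP F 2] (hTE : T ≤ E) (hT : IsPGroup 2 T)
    (hmax : ∀ Q : Subgroup H, Q ≤ E → IsPGroup 2 Q → T ≤ Q → Q = T)
    (ψ : E →* Matrix.SpecialLinearGroup (Fin 2) F) (hψ : Function.Surjective ψ)
    (hker : IsPGroup 2 ψ.ker) :
    ∃ (O : Subgroup H) (φ : H → F) (c : H) (lam : F), NodeL E T O φ c lam := by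
  have : Fact (Nat.Prime 2) := ⟨Nat.prime_two⟩
  obtain ⟨u, hu⟩ := slNode (F := F)
  obtain ⟨c₁, hc₁⟩ := hψ (dia u)
  have h1 := hu.comap ψ hψ hker c₁ hc₁
  -- Sylow subgroups of `E`
  have mk : ∀ R : Subgroup H, R ≤ E → IsPGroup 2 R →
      (∀ Q : Subgroup H, Q ≤ E → IsPGroup 2 Q → R ≤ Q → Q = R) →
      ∃ P : Sylow 2 E, (P : Subgroup E) = R.subgroupOf E := by
    intro R hRE hR hRmax
    refine ⟨⟨R.subgroupOf E, ?_, ?_⟩, rfl⟩
    · exact hR.comap_subtype
    · intro Q hQ hle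
      have h2 := hRmax (Q.map E.subtype) (map_subtype_le Q) (hQ.map _) (by
        intro r hr
        exact ⟨⟨r, hRE hr⟩, hle hr, rfl⟩)
      rw [← h2]
      ext x
      simp [mem_subgroupOf]
  obtain ⟨P, hP⟩ := mk T hTE hT hmax
  obtain ⟨P₁, hP₁⟩ := mk _ h1.T_le h1.two (fun Q hQE hQ hle => h1.maximal hQE hQ hle)
  obtain ⟨e, he⟩ := MulAction.exists_smul_eq E P₁ P
  have hconj : ∀ x : E, (x : H) ∈ T ↔ ((e⁻¹ * x * e : E) : H) ∈ pull ψ (UU F) := by
    intro x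
    have h2 : (x : H) ∈ T ↔ x ∈ (P : Subgroup E) := by rw [hP]; rfl
    have h3 : ∀ y : E, (y : H) ∈ pull ψ (UU F) ↔ y ∈ (P₁ : Subgroup E) := by
      intro y; rw [hP₁]; rfl
    rw [h2, h3, ← he, Sylow.coe_subgroup_smul, Subgroup.mem_pointwise_smul_iff_inv_smul_mem]
    rw [show (MulAut.conj e)⁻¹ • x = e⁻¹ * x * e by
      rw [← map_inv, MulAut.smul_def, MulAut.conj_apply, inv_inv]]
  let ψ' : E →* Matrix.SpecialLinearGroup (Fin 2) F := ψ.comp (MulAut.conj e⁻¹).toMonoidHom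
  have hψ'a : ∀ x, ψ' x = ψ (e⁻¹ * x * e) := by
    intro x
    show ψ (e⁻¹ * x * e⁻¹⁻¹) = _
    rw [inv_inv]
  have hψ' : Function.Surjective ψ' := hψ.comp (MulAut.conj e⁻¹).surjective
  have hker' : IsPGroup 2 ψ'.ker := by
    rintro ⟨x, hx⟩
    rw [MonoidHom.mem_ker, hψ'a] at hx
    obtain ⟨k, hk⟩ := hker ⟨_, hx⟩
    refine ⟨k, Subtype.ext ?_⟩
    have h2 : (e⁻¹ * x * e) ^ 2 ^ k = 1 := congrArg Subtype.val hk
    have h3 : (e⁻¹ * x * e) ^ 2 ^ k = e⁻¹ * x ^ 2 ^ k * e := by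
      have := conj_pow (i := 2 ^ k) (a := e⁻¹) (b := x)
      rwa [inv_inv] at this
    rw [h3] at h2
    show x ^ 2 ^ k = 1
    have h4 : x ^ 2 ^ k = e * (e⁻¹ * x ^ 2 ^ k * e) * e⁻¹ := by group
    rw [h4, h2]; group
  obtain ⟨c₂, hc₂⟩ := hψ' (dia u)
  have h2 := hu.comap ψ' hψ' hker' c₂ hc₂
  have hT' : pull ψ' (UU F) = T := by
    ext x
    constructor
    · intro hx
      obtain ⟨hxE, hx⟩ := (mem_pull ψ' (UU F)).1 hx
      rw [hψ'a] at hx
      exact (hconj ⟨x, hxE⟩).2 ((mem_pull_coe ψ (UU F) _).2 hx)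
    · intro hx
      have h3 := (hconj ⟨x, hTE hx⟩).1 hx
      rw [mem_pull_coe, ← hψ'a] at h3
      exact (mem_pull ψ' (UU F)).2 ⟨hTE hx, h3⟩
  rw [hT'] at h2
  exact ⟨_, _, _, _, h2⟩

end sylow

/-- `S` a Sylow 2-subgroup of `H` normalising `E`: `S ∩ E` is a maximal 2-subgroup of `E`. -/
theorem syl_inf_maximal {H : Type*} [Group H] [Finite H] (S : Sylow 2 H) {E : Subgroup H}
    (hSE : ∀ s ∈ S, ∀ e ∈ E, s * e * s⁻¹ ∈ E) {Q : Subgroup H} (hQE : Q ≤ E) (hQ : IsPGroup 2 Q)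
    (hle : (S : Subgroup H) ⊓ E ≤ Q) : Q = (S : Subgroup H) ⊓ E := by
  have : Fact (Nat.Prime 2) := ⟨Nat.prime_two⟩
  let M : Subgroup H := Cfg.EX E S hSE
  have hSM : (S : Subgroup H) ≤ M := fun x hx => ⟨1, E.one_mem, x, hx, by simp⟩
  have hEM : E ≤ M := fun x hx => ⟨x, hx, 1, (S : Subgroup H).one_mem, by simp⟩
  have hQM : Q ≤ M := hQE.trans hEM
  obtain ⟨P, hP⟩ := (hQ.comap_subtype (K := M)).exists_le_sylow
  obtain ⟨m, hm⟩ := MulAction.exists_smul_eq M (S.subtype hSM) P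
  obtain ⟨e, he, s, hs, hmes⟩ := m.2
  -- `e⁻¹ Q e ≤ S ∩ E`
  have h1 : ∀ x ∈ Q, e⁻¹ * x * e ∈ (S : Subgroup H) ⊓ E := by
    intro x hx
    refine ⟨?_, E.mul_mem (E.mul_mem (E.inv_mem he) (hQE hx)) he⟩
    have h2 : (⟨x, hQM hx⟩ : M) ∈ (P : Subgroup M) := hP (by
      rw [mem_comap]; exact hx)
    rw [← hm, Sylow.coe_subgroup_smul, Subgroup.mem_pointwise_smul_iff_inv_smul_mem, ← map_inv,
      MulAut.smul_def, MulAut.conj_apply, inv_inv] at h2
    have h3 : (m : H)⁻¹ * x * (m : H) ∈ (S : Subgroup H) := h2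
    rw [hmes] at h3
    have h4 : e⁻¹ * x * e = s * ((e * s)⁻¹ * x * (e * s)) * s⁻¹ := by group
    rw [h4]
    exact (S : Subgroup H).mul_mem ((S : Subgroup H).mul_mem hs h3) ((S : Subgroup H).inv_mem hs)
  have h2 : Nat.card Q ≤ Nat.card ((S : Subgroup H) ⊓ E : Subgroup H) :=
    Nat.card_le_card_of_injective (fun x : Q => (⟨_, h1 x x.2⟩ : ((S : Subgroup H) ⊓ E : Subgroup H))) (by
      intro x y hxy
      have h3 : e⁻¹ * (x : H) * e = e⁻¹ * y * e := congrArg Subtype.val hxy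
      exact Subtype.ext (mul_left_cancel (mul_right_cancel h3)))
  exact (Subgroup.eq_of_le_of_card_ge hle h2).symm

section final

variable {H V : Type*} [Group H] [AddCommGroup V] [Module (ZMod 2) V]
  {ρ : H →* (V ≃ₗ[ZMod 2] V)} {b : LinearMap.BilinForm (ZMod 2) V} {q : V → ZMod 2}
  {a : V} {D : Submodule (ZMod 2) V} {X : Subgroup H} {w : ℕ} {E T : Subgroup H}
  {F : Type*} [Field F]

/-- **LEMMA NODE**, final form: `T` a Sylow 2-subgroup of `E` fixing `a`, `E` and `T` normalised by `X`, `E` has a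
homomorphism onto `SL(2, F)`, `|F| ≥ 8`, with a 2-group as kernel. Then `E` fixes `a`. -/
theorem fix_of_hom [Finite F] [CharP F 2] (C : Cfg ρ b q a D X w) (hTE : T ≤ E) (hT : IsPGroup 2 T)
    (hmax : ∀ Q : Subgroup H, Q ≤ E → IsPGroup 2 Q → T ≤ Q → Q = T) (hx : XCond ρ a X E T)
    (ψ : E →* Matrix.SpecialLinearGroup (Fin 2) F) (hψ : Function.Surjective ψ)
    (hker : IsPGroup 2 ψ.ker) (hq : 8 ≤ Nat.card F) : ∀ g ∈ E, ρ g a = a := by
  have := C.finite_H
  obtain ⟨O, φ, c, lam, h⟩ := nodeL_of_hom hTE hT hmax ψ hψ hker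
  exact h.fix C hx hq

/-- Sylow form: `S` a Sylow 2-subgroup of `H` fixing `a`, containing `X`, and `S ∩ E` a Sylow 2-subgroup of `E` because
`S` normalises `E`. -/
theorem fix_of_syl [Finite F] [CharP F 2] (C : Cfg ρ b q a D X w) (S : Sylow 2 H)
    (hS : (S : Subgroup H) ≤ stab ρ a) (hSE : ∀ s ∈ S, ∀ e ∈ E, s * e * s⁻¹ ∈ E)
    (ψ : E →* Matrix.SpecialLinearGroup (Fin 2) F) (hψ : Function.Surjective ψ)
    (hker : IsPGroup 2 ψ.ker) (hq : 8 ≤ Nat.card F) : ∀ g ∈ E, ρ g a = a := by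
  have := C.finite_H
  have hXS := C.X_le_syl S hS
  refine fix_of_hom C (T := (S : Subgroup H) ⊓ E) inf_le_right (S.isPGroup'.to_le inf_le_left) ?_ ?_ ψ hψ hker hq
  · exact fun Q hQE hQ hle => syl_inf_maximal S hSE hQE hQ hle
  · exact ⟨fun x hx e he => hSE x (hXS hx) e he,
      fun x hx t ht => ⟨S.mul_mem (S.mul_mem (hXS hx) ht.1) (S.inv_mem (hXS hx)), hSE x (hXS hx) t ht.2⟩,
      fun t ht => hS ht.1⟩

end final

end Cfsg.Agent.Omega.EH3
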