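import Cfsg.Agent.LargeExtra.CC.Main
import Cfsg.Agent.Omega.Tools.SEBender

/-!
# The end of EH3 by LEMMA CC and THEOREM SE (#12990, #12471; omega job 260)

`Q = O₂(C_G(z))` large extraspecial, `C_G(z) ≤ Y`, and every conjugate of `z` in `Q` is a
`Y`-conjugate of `z` (`hadj`; e.g. `Y` = stabiliser of a connected component of the graph
`r ~ s ↔ s ∈ Q_r` on `z^G`, or `Y = ⟨C_G(z), N_G(⟨z,a⟩)⟩` if `C_G(z)` is transitive on
`z^G ∩ Q - {z}`).

* `Far Q z g` : `s = z^g` commutes with `z`, `s ∉ Q`, and `Q ∩ Q_s` contains no conjugate of `z`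
  (this is the hypothesis of LEMMA CC: commuting, in different components);
* `mem_class_or_far` : a conjugate of `z` commuting with `z` is in `z^Y` or `Far`;
* `class_eq` : if nothing is `Far`, `z^G ∩ Y = z^Y`;
* `Far.two` : `Far` gives helper71's `LargeExtra.CC.Two` for `(Q, Q_s, z, s)`;
* `Far.card` : LEMMA CC for a `Far` pair;
* `eq_top` : if nothing is `Far`, `G` is simple of characteristic 2 type and `Q` contains a conjugate
  `≠ z` of `z`, then `Y = G` (`hB` = Bender, `fun H hH => (StrongEmb.Strong.exists_isSplit hna H hH)`).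
-/

set_option autoImplicit false

namespace Cfsg.Agent.Omega.EH3.CCTop

open Subgroup Cfsg Cfsg.Agent.Co2Type.Quad Cfsg.Agent.LargeExtra.Base

universe u

variable {G : Type u} [Group G] {Q : Subgroup G} {z : G}

/-- `s = g z g⁻¹` commutes with `z`, lies outside `Q`, and no conjugate of `z` lies in
`Q ∩ Q_s`. -/
structure Far (Q : Subgroup G) (z g : G) : Prop where
  comm : (g * z * g⁻¹) * z = z * (g * z * g⁻¹)
  notMem : g * z * g⁻¹ ∉ Q
  noCommon : ∀ k : G, k * z * k⁻¹ ∈ Q →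
    k * z * k⁻¹ ∉ Q.map (MulAut.conj g).toMonoidHom

theorem Far.two (h : Large Q z) {g : G} (hf : Far Q z g) :
    Cfsg.Agent.LargeExtra.CC.Two Q (Q.map (MulAut.conj g).toMonoidHom) z (g * z * g⁻¹)
      (fun x => ∃ k : G, k * z * k⁻¹ = x) where
  lr := h
  ls := h.conj g
  comm := hf.comm
  hr := fun hz => hf.noCommon 1 (by simpa using h.z_mem) (by simpa using hz)
  hs := hf.notMem
  conj := by
    rintro c x ⟨k, rfl⟩
    exact ⟨c * k, by group⟩
  Pr := ⟨1, by group⟩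
  Ps := ⟨g, rfl⟩
  none := by
    rintro x hx hx' ⟨k, rfl⟩
    exact hf.noCommon k hx hx'

theorem mem_map_conj {g x : G} : x ∈ Q.map (MulAut.conj g).toMonoidHom ↔ g⁻¹ * x * g ∈ Q := by
  constructor
  · rintro ⟨y, hy, rfl⟩
    have e : g⁻¹ * (MulAut.conj g).toMonoidHom y * g = y := by
      show g⁻¹ * (g * y * g⁻¹) * g = y
      group
    rw [e]; exact hy
  · intro h
    exact ⟨_, h, by show g * (g⁻¹ * x * g) * g⁻¹ = x; group⟩

/-- symmetry of `~`. -/
theorem adj_symm (h : Large Q z) {g k : G}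
    (h1 : k * z * k⁻¹ ∈ Q.map (MulAut.conj g).toMonoidHom) :
    g * z * g⁻¹ ∈ Q.map (MulAut.conj k).toMonoidHom := by
  rw [mem_map_conj] at h1 ⊢
  have e1 : g⁻¹ * (k * z * k⁻¹) * g = (g⁻¹ * k) * z * (g⁻¹ * k)⁻¹ := by group
  rw [e1] at h1
  have e2 : k⁻¹ * (g * z * g⁻¹) * k = (g⁻¹ * k)⁻¹ * z * (g⁻¹ * k) := by group
  rw [e2]
  by_cases hne : (g⁻¹ * k) * z * (g⁻¹ * k)⁻¹ = z
  · have e3 : (g⁻¹ * k)⁻¹ * z * (g⁻¹ * k) = z := by
      nth_rewrite 1 [← hne]; group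
    rw [e3]; exact h.z_mem
  · exact mem_map_conj.1 (pair_of_conj h h1 hne).z_mem

section

variable {Y : Subgroup G} (h : Large Q z)
  (hadj : ∀ g : G, g * z * g⁻¹ ∈ Q → ∃ y ∈ Y, g * z * g⁻¹ = y * z * y⁻¹)
include h hadj

/-- the class `z^Y` is closed under `~`. -/
theorem adj_closed {y g : G} (hy : y ∈ Y)
    (h1 : g * z * g⁻¹ ∈ Q.map (MulAut.conj y).toMonoidHom) :
    ∃ y' ∈ Y, g * z * g⁻¹ = y' * z * y'⁻¹ := by
  have _ := h
  rw [mem_map_conj] at h1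
  have e1 : y⁻¹ * (g * z * g⁻¹) * y = (y⁻¹ * g) * z * (y⁻¹ * g)⁻¹ := by group
  rw [e1] at h1
  obtain ⟨y', hy', h2⟩ := hadj _ h1
  refine ⟨y * y', Y.mul_mem hy hy', ?_⟩
  calc g * z * g⁻¹ = y * ((y⁻¹ * g) * z * (y⁻¹ * g)⁻¹) * y⁻¹ := by group
    _ = y * (y' * z * y'⁻¹) * y⁻¹ := by rw [h2]
    _ = _ := by group

theorem mem_class_or_far {g : G} (hc : (g * z * g⁻¹) * z = z * (g * z * g⁻¹)) :
    (∃ y ∈ Y, g * z * g⁻¹ = y * z * y⁻¹) ∨ Far Q z g := by
  by_cases hQ : g * z * g⁻¹ ∈ Q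
  · exact Or.inl (hadj g hQ)
  by_cases hcom : ∃ k : G, k * z * k⁻¹ ∈ Q ∧ k * z * k⁻¹ ∈ Q.map (MulAut.conj g).toMonoidHom
  · left
    obtain ⟨k, hk, hkg⟩ := hcom
    obtain ⟨y, hy, hky⟩ := hadj k hk
    have h1 := adj_symm h hkg
    rw [map_eq_of_conj h hky] at h1
    exact adj_closed h hadj hy h1
  · right
    push Not at hcom
    exact ⟨hc, hQ, hcom⟩

variable [Finite G]

/-- `z^G ∩ Y = z^Y`. -/
theorem class_eq (S : Sylow 2 G) (hS : (S : Subgroup G) ≤ centralizer ({z} : Set G))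
    (hC : centralizer ({z} : Set G) ≤ Y) (hfar : ∀ g : G, ¬ Far Q z g) {g : G}
    (hg : g * z * g⁻¹ ∈ Y) : ∃ y ∈ Y, g * z * g⁻¹ = y * z * y⁻¹ := by
  obtain ⟨y, hy, h1⟩ := SE.exists_conj_mem S (hS.trans hC) hg (by
    have e : (g * z * g⁻¹) ^ 2 = g * (z * z) * g⁻¹ := by simp only [sq]; group
    rw [e, h.z_sq]; group)
  have h2 := mem_centralizer_singleton_iff.1 (hS h1)
  have e1 : y⁻¹ * (g * z * g⁻¹) * y = (y⁻¹ * g) * z * (y⁻¹ * g)⁻¹ := by group
  rw [e1] at h2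
  rcases mem_class_or_far h hadj (g := y⁻¹ * g) h2 with ⟨y', hy', h3⟩ | h3
  · refine ⟨y * y', Y.mul_mem hy hy', ?_⟩
    calc g * z * g⁻¹ = y * ((y⁻¹ * g) * z * (y⁻¹ * g)⁻¹) * y⁻¹ := by group
      _ = y * (y' * z * y'⁻¹) * y⁻¹ := by rw [h3]
      _ = _ := by group
  · exact absurd h3 (hfar _)

/-- `Q ≤ S` for every Sylow 2-subgroup `S ≤ C_G(z)`. -/
theorem Q_le_S (S : Sylow 2 G) (hS : (S : Subgroup G) ≤ centralizer ({z} : Set G)) :
    Q ≤ (S : Subgroup G) := by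
  have _ := hadj
  have hn : (S : Subgroup G) ≤ normalizer (Q : Set G) := by
    intro s hs
    have h1 := mem_centralizer_singleton_iff.1 (hS hs)
    rw [mem_normalizer_iff]
    intro x
    refine ⟨fun hx => h.conj_mem s h1 x hx, fun hx => ?_⟩
    have h2 : s⁻¹ * z = z * s⁻¹ := by
      have : Commute s z := h1
      exact this.inv_left.eq
    have h3 := h.conj_mem s⁻¹ h2 _ hx
    have e : s⁻¹ * (s * x * s⁻¹) * (s⁻¹)⁻¹ = x := by group
    rwa [e] at h3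
  have h1 : IsPGroup 2 ((S : Subgroup G) ⊔ Q : Subgroup G) :=
    IsPGroup.to_sup_of_normal_right' S.isPGroup' (isPGroup h) hn
  have h2 := S.is_maximal' h1 le_sup_left
  rw [← h2]
  exact le_sup_right

/-- `Y` is not 2-closed. -/
theorem not_le_normalizer (S : Sylow 2 G) (hS : (S : Subgroup G) ≤ centralizer ({z} : Set G))
    {g : G} (hin : g * z * g⁻¹ ∈ Q) (hne : g * z * g⁻¹ ≠ z) :
    ¬ Y ≤ normalizer ((S : Subgroup G) : Set G) := by
  intro hn
  obtain ⟨y, hy, h1⟩ := hadj g hin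
  rw [h1] at hin hne
  have hQS := Q_le_S h hadj S hS
  -- `y z y⁻¹` is central in `S`
  have h2 : ∀ x ∈ Q, (y * z * y⁻¹) * x = x * (y * z * y⁻¹) := by
    intro x hx
    have h3 : y⁻¹ * x * y ∈ (S : Subgroup G) := by
      have h4 : y⁻¹ ∈ normalizer ((S : Subgroup G) : Set G) := inv_mem (hn hy)
      have := (mem_normalizer_iff.1 h4 x).1 (hQS hx)
      simpa using this
    have h5 := mem_centralizer_singleton_iff.1 (hS h3)
    calc (y * z * y⁻¹) * x = y * (z * (y⁻¹ * x * y)) * y⁻¹ := by group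
      _ = y * ((y⁻¹ * x * y) * z) * y⁻¹ := by rw [h5]
      _ = _ := by group
  rcases h.cent _ hin h2 with h3 | h3
  · have h4 : z = 1 := by
      have : z = y⁻¹ * (y * z * y⁻¹) * y := by group
      rw [this, h3]; group
    exact h.z_ne h4
  · exact hne h3

variable [IsSimpleGroup G]

/-- **THE END BY LEMMA CC**: if no commuting conjugate of `z` is `Far`, then `Y = G`. -/
theorem eq_top (hG : IsCharacteristicTwoType G) (S : Sylow 2 G)
    (hS : (S : Subgroup G) ≤ centralizer ({z} : Set G))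
    (hC : centralizer ({z} : Set G) ≤ Y) (hfar : ∀ g : G, ¬ Far Q z g) {g : G}
    (hin : g * z * g⁻¹ ∈ Q) (hne : g * z * g⁻¹ ≠ z)
    (hB : ∀ H : Subgroup G, IsStronglyEmbedded H →
      ∃ R : Subgroup G, Cfsg.Agent.StrongEmb.Split.IsSplit H R) : Y = ⊤ := by
  have hz2 : z ^ 2 = 1 := by rw [pow_two]; exact h.z_sq
  obtain ⟨y, hy, hyc⟩ := exists_not_comm h hin (h.conj g).z_ne hne
  have hna : ∃ a b : G, a * b ≠ b * a := by
    refine ⟨y, g * z * g⁻¹, fun hc => ?_⟩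
    rw [hyc] at hc
    exact h.z_ne (mul_eq_left.1 hc)
  have hr : Cfsg.Agent.StrongEmb.TwoRank.CommPair G :=
    ⟨g * z * g⁻¹, z, orderOf_z (h.conj g), orderOf_z h, hne, h.comm_z _ hin⟩
  exact SE.eq_top_of_split hna hG S hS hz2 h.z_ne hC
    (fun g hg => class_eq h hadj S hS hC hfar hg) hr hB
    (not_le_normalizer h hadj S hS hin hne)

end

end Cfsg.Agent.Omega.EH3.CCTop
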