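import Cfsg.Agent.Omega.EH3.NFive
import Cfsg.Agent.Omega.EH3.OddOne
import Cfsg.Agent.SignalizersComponents.ComponentExists
import Cfsg.Agent.SignalizersComponents.Components
import Cfsg.Agent.Lib.Cores

/-!
# EH3: the outer part of THEOREM CL (helper947)

`Cfg`: the Fitting subgroup `F` of `H` is trivial, or of order `3`, fixed point free on `V` and inverted by an element
of `X` (THEOREM OD of helper393, helper950); `C_H(F)` contains a component `K` of `H`.  If the components of `H` are
all equal (THEOREM CL, helper291), `K` is normal with centre of odd order, and `X ∩ C_H(K) = 1` or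
`X ∩ C_H(K) = ⟨t⟩` where `t` inverts `F = ⟨d⟩`, `|F| = 3`, `[K, d] = 1`.
-/

set_option autoImplicit false

namespace Cfsg.Agent.Omega.EH3.CLOut

open Cfsg Subgroup
open Cfsg.Agent.SignalizersComponents Cfsg.Agent.SignalizersComponents.Components

variable {H V : Type*} [Group H] [AddCommGroup V] [Module (ZMod 2) V]
  {ρ : H →* (V ≃ₗ[ZMod 2] V)} {b : LinearMap.BilinForm (ZMod 2) V} {q : V → ZMod 2}
  {a : V} {D : Submodule (ZMod 2) V} {X : Subgroup H} {w : ℕ}

theorem pCore_eq_bot (C : Cfg ρ b q a D X w) : pCore 2 H = ⊥ :=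
  C.core (Lib.Cores.pCore_normal 2) (Lib.Cores.pCore_isPGroup 2)

theorem odd_card_fitting (C : Cfg ρ b q a D X w) : Odd (Nat.card (fittingSubgroup H)) := by
  have := C.finite_H
  have hf : Fact (Nat.Prime 2) := ⟨Nat.prime_two⟩
  have h2 : fittingSubgroup H ≤ pPrimeCore 2 H := by
    rw [Lib.Cores.fittingSubgroup_eq_iSup_pCore]
    refine iSup_le fun p => ?_
    have hp : Fact (p : ℕ).Prime := ⟨p.2⟩
    by_cases hp2 : (p : ℕ) = 2
    · rw [hp2, pCore_eq_bot C]
      exact bot_le
    · refine Lib.Cores.le_pPrimeCore (Lib.Cores.pCore_normal _) ?_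
      obtain ⟨n, hn⟩ := IsPGroup.iff_card.mp (Lib.Cores.pCore_isPGroup (G := H) (p : ℕ))
      rw [hn]
      exact Nat.Coprime.pow_left n ((Nat.coprime_primes p.2 Nat.prime_two).mpr hp2)
  have h3 : Odd (Nat.card (pPrimeCore 2 H)) :=
    Nat.coprime_two_right.mp (Lib.Cores.pPrimeCore_coprime 2)
  exact h3.of_dvd_nat (card_dvd_of_le h2)

theorem elemAb (C : Cfg ρ b q a D X w) : Cfsg.IsElementaryAbelian 2 X :=
  ⟨⟨⟨fun x y => Subtype.ext (C.X_comm x.2 y.2)⟩⟩, fun x hx => by rw [pow_two]; exact C.X_sq x hx⟩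

/-- THEOREM OD for solvable normal subgroups of odd order -/
theorem od (C : Cfg ρ b q a D X w) {R : Subgroup H} (hR : R.Normal) (ho : Odd (Nat.card R))
    (hs : Group.IsSolvable R) : R = ⊥ ∨ (Nat.card R = 3 ∧ (∀ r ∈ R, r ≠ 1 → ∀ v, ρ r v = v → v = 0) ∧
      ∃ x ∈ X, (∀ r ∈ R, x * r * x⁻¹ = r⁻¹) ∧
        ∀ y ∈ X, y ∈ centralizer (R : Set H) ∨ y * x ∈ centralizer (R : Set H)) := by
  have := C.finite_V
  have := C.finite_H
  let act : DistribMulAction H V := {
    smul := fun h v => ρ h v
    one_smul := fun v => C.ρ_one v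
    mul_smul := fun g h v => C.ρ_mul g h v
    smul_zero := fun h => map_zero (ρ h)
    smul_add := fun h u v => map_add (ρ h) u v }
  obtain ⟨c, hc⟩ := C.exists_off
  have hsub : ∀ u v : V, u - v = u + v := fun u v => by rw [sub_eq_add_neg, C.neg_eq]
  have key := OddOne.result (H := H) (V := V) C.add_self
    (fun h hh => C.ext fun v => by rw [C.ρ_one]; exact hh v) (elemAb C) ho hs
    (by rw [normalizer_eq_top_iff.mpr hR]; exact le_top) C.a_ne (fun x hx => C.X_a hx)
    (fun v hv => C.fix_X hv) C.five C.card_V D.toAddSubgroup (le_of_eq C.card_D) c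
    (fun x hx v => by
      have h1 : x • v = ρ x v := rfl
      have h2 : x • c = ρ x c := rfl
      rw [h1, h2, hsub, hsub, hsub]
      rcases zmod_two (b a v) with hv | hv
      · left; exact C.X_perp x hx v hv
      · right
        have h3 := C.X_perp x hx (v + c) (by rw [map_add, hv, hc]; decide)
        have e : ρ x v + v + (ρ x c + c) = ρ x (v + c) + (v + c) := by rw [map_add]; abel
        rw [e]; exact h3)
  exact key

/-- THEOREM OD for `F(H)` -/
theorem fitting (C : Cfg ρ b q a D X w) :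
    fittingSubgroup H = ⊥ ∨ (Nat.card (fittingSubgroup H) = 3 ∧
      (∀ r ∈ fittingSubgroup H, r ≠ 1 → ∀ v, ρ r v = v → v = 0) ∧
      ∃ x ∈ X, (∀ r ∈ fittingSubgroup H, x * r * x⁻¹ = r⁻¹) ∧
        ∀ y ∈ X, y ∈ centralizer (fittingSubgroup H : Set H) ∨
          y * x ∈ centralizer (fittingSubgroup H : Set H)) := by
  have := C.finite_H
  have hn := Lib.Cores.fittingSubgroup_isNilpotent (G := H)
  exact od C Lib.Cores.fittingSubgroup_normal (odd_card_fitting C) inferInstance

/-- an element of order two is not in `F(H)` -/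
theorem not_mem_fitting (C : Cfg ρ b q a D X w) {t : H} (h2 : t * t = 1) (h1 : t ≠ 1) :
    t ∉ fittingSubgroup H := by
  intro h
  have := C.finite_H
  have h3 : orderOf (⟨t, h⟩ : fittingSubgroup H) ∣ Nat.card (fittingSubgroup H) := orderOf_dvd_natCard _
  rw [Subgroup.orderOf_mk, orderOf_eq_prime (by rw [pow_two]; exact h2) h1] at h3
  have h4 := odd_card_fitting C
  rw [← Nat.not_even_iff_odd, even_iff_two_dvd] at h4
  exact h4 h3

/-- `C_H(F(H))` is not solvable -/
theorem not_isSolvable (C : Cfg ρ b q a D X w) :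
    ¬ Group.IsSolvable (centralizer (fittingSubgroup H : Set H)) := by
  classical
  intro hs
  have := C.finite_H
  have hn : (fittingSubgroup H).Normal := Lib.Cores.fittingSubgroup_normal
  have hle : centralizer (fittingSubgroup H : Set H) ≤ fittingSubgroup H :=
    ComponentExists.le_fitting_of_isSubnormal_of_isSolvable (inferInstance : Subgroup.Normal _).isSubnormal hs le_rfl
  -- two elements `≠ 1` of `X` are equal
  have hX : ∀ x ∈ X, x ≠ 1 → x ∉ centralizer (fittingSubgroup H : Set H) := fun x hx h1 h =>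
    not_mem_fitting C (C.X_sq x hx) h1 (hle h)
  have h16 := C.two_le_card_X
  rcases fitting C with h | ⟨-, -, x, hx, -, hxc⟩
  · obtain ⟨y, hy, hy1⟩ := C.exists_X_ne
    apply hX y hy hy1
    rw [h, mem_centralizer_iff]
    intro z hz
    rw [coe_bot, Set.mem_singleton_iff] at hz
    rw [hz, one_mul, mul_one]
  · have h2 : ∀ y ∈ X, y = 1 ∨ y = x := by
      intro y hy
      by_cases hy1 : y = 1
      · exact Or.inl hy1
      · right
        rcases hxc y hy with h | h
        · exact absurd h (hX y hy hy1)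
        · by_contra hne
          refine hX (y * x) (X.mul_mem hy hx) (fun h3 => hne ?_) h
          rw [← C.X_inv hx]
          exact eq_inv_of_mul_eq_one_left h3
    have hinj : Function.Injective fun y : X => (decide ((y : H) = 1) : Bool) := by
      intro y z hyz
      apply Subtype.ext
      rcases h2 y y.2 with hy | hy <;> rcases h2 z z.2 with hz | hz
      · rw [hy, hz]
      · by_cases hx1 : x = 1
        · rw [hy, hz, hx1]
        · simp [hy, hz, hx1] at hyz
      · by_cases hx1 : x = 1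
        · rw [hy, hz, hx1]
        · simp [hy, hz, hx1] at hyz
      · rw [hy, hz]
    have h3 := Nat.card_le_card_of_injective _ hinj
    have h4 : Nat.card Bool = 2 := by simp
    omega

/-- `H` has a component -/
theorem exists_component (C : Cfg ρ b q a D X w) : ∃ K : Subgroup H, IsComponent K := by
  have := C.finite_H
  have hn : (fittingSubgroup H).Normal := Lib.Cores.fittingSubgroup_normal
  obtain ⟨K, hK, -⟩ := ComponentExists.exists_isComponent_le
    (C := centralizer (fittingSubgroup H : Set H)) (inferInstance : Subgroup.Normal _).isSubnormal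
    (not_isSolvable C) le_rfl
  exact ⟨K, hK⟩

/-- a normal component has centre of odd order -/
theorem odd_center (C : Cfg ρ b q a D X w) {K : Subgroup H} (hn : K.Normal) : Odd (Nat.card (center K)) := by
  have := C.finite_H
  rw [← Nat.not_even_iff_odd, even_iff_two_dvd]
  intro h2
  have : Fact (Nat.Prime 2) := ⟨Nat.prime_two⟩
  obtain ⟨z, hz⟩ := exists_prime_orderOf_dvd_card' 2 h2
  let Ω : Subgroup H := {
    carrier := {x | (∃ hx : x ∈ K, (⟨x, hx⟩ : K) ∈ center K) ∧ x * x = 1}
    one_mem' := ⟨⟨K.one_mem, (center K).one_mem⟩, one_mul 1⟩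
    mul_mem' := by
      rintro x y ⟨⟨hx, hxc⟩, hx2⟩ ⟨⟨hy, hyc⟩, hy2⟩
      refine ⟨⟨K.mul_mem hx hy, (center K).mul_mem hxc hyc⟩, ?_⟩
      have h : y * x = x * y := congrArg Subtype.val (mem_center_iff.1 hxc ⟨y, hy⟩)
      calc x * y * (x * y) = x * (y * x) * y := by group
        _ = (x * x) * (y * y) := by rw [h]; group
        _ = 1 := by rw [hx2, hy2, one_mul]
    inv_mem' := by
      rintro x ⟨⟨hx, hxc⟩, hx2⟩
      refine ⟨⟨K.inv_mem hx, (center K).inv_mem hxc⟩, ?_⟩
      rw [← mul_inv_rev, hx2, inv_one] }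
  have hΩn : Ω.Normal := by
    refine ⟨?_⟩
    rintro x ⟨⟨hx, hxc⟩, hx2⟩ g
    refine ⟨⟨hn.conj_mem x hx g, ?_⟩, ?_⟩
    · rw [mem_center_iff]
      intro k
      have h1 : g⁻¹ * (k : H) * g ∈ K := by
        have := hn.conj_mem (k : H) k.2 g⁻¹
        rwa [inv_inv] at this
      have h2 : (g⁻¹ * (k : H) * g) * x = x * (g⁻¹ * (k : H) * g) :=
        congrArg Subtype.val (mem_center_iff.1 hxc ⟨_, h1⟩)
      apply Subtype.ext
      show (k : H) * (g * x * g⁻¹) = g * x * g⁻¹ * (k : H)
      calc (k : H) * (g * x * g⁻¹) = g * ((g⁻¹ * (k : H) * g) * x) * g⁻¹ := by group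
        _ = g * x * g⁻¹ * (k : H) := by rw [h2]; group
    · calc g * x * g⁻¹ * (g * x * g⁻¹) = g * (x * x) * g⁻¹ := by group
        _ = 1 := by rw [hx2]; group
  have hΩ2 : IsPGroup 2 Ω := fun x => ⟨1, Subtype.ext (by
    show (x : H) ^ (2 ^ 1) = 1
    rw [pow_one, pow_two]; exact x.2.2)⟩
  have hbot := C.core hΩn hΩ2
  have h1 : z * z = 1 := by
    have := pow_orderOf_eq_one z
    rwa [hz, pow_two] at this
  have hmem : ((z : K) : H) ∈ Ω := ⟨⟨(z : K).2, z.2⟩, by
    have := congrArg (fun y : center K => ((y : K) : H)) h1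
    exact this⟩
  rw [hbot, mem_bot] at hmem
  have h3 : z = 1 := Subtype.ext (Subtype.ext hmem)
  rw [h3, orderOf_one] at hz
  omega

/-- a component has even order (Feit-Thompson) -/
theorem even_of_isComponent {H : Type*} [Group H]
    (hFT : ∀ K : Subgroup H, Odd (Nat.card K) → Group.IsSolvable K) {K : Subgroup H} (hK : IsComponent K) :
    Even (Nat.card K) := by
  rw [← Nat.not_odd_iff_even]
  exact fun h => ComponentExists.not_isComponent_of_isSolvable (hFT K h) hK

/-- the case `X ∩ C_H(K) ≠ 1` -/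
theorem triple (C : Cfg ρ b q a D X w) (hu : ∀ K K' : Subgroup H, IsComponent K → IsComponent K' → K = K')
    {K : Subgroup H} (hK : IsComponent K) (hn : K.Normal) (h : X ⊓ centralizer (K : Set H) ≠ ⊥) :
    ∃ d t : H, t ∈ X ∧ orderOf t = 2 ∧ orderOf d = 3 ∧ t * d * t⁻¹ = d⁻¹ ∧ (∀ l ∈ K, t * l = l * t) ∧
      (∀ l ∈ K, d * l = l * d) ∧ (∀ v, ρ d v = v → v = 0) ∧ (zpowers d).Normal := by
  have := C.finite_H
  obtain ⟨⟨t, ht⟩, ht1⟩ := (nontrivial_iff_exists_ne (1 : ↥(X ⊓ centralizer (K : Set H)))).1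
    ((Subgroup.nontrivial_iff_ne_bot _).2 h)
  have ht1 : t ≠ 1 := fun h => ht1 (Subtype.ext h)
  have htX : t ∈ X := ht.1
  have ht2 := C.X_sq t htX
  have hF : (fittingSubgroup H).Normal := Lib.Cores.fittingSubgroup_normal
  -- `C_H(K) ∩ C_H(F) ≤ F`
  have hle : centralizer (K : Set H) ⊓ centralizer (fittingSubgroup H : Set H) ≤ fittingSubgroup H := by
    have hnn : (centralizer (K : Set H) ⊓ centralizer (fittingSubgroup H : Set H)).Normal := inferInstance
    by_cases hs : Group.IsSolvable ↥(centralizer (K : Set H) ⊓ centralizer (fittingSubgroup H : Set H))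
    · exact ComponentExists.le_fitting_of_isSubnormal_of_isSolvable hnn.isSubnormal hs inf_le_right
    · exfalso
      obtain ⟨K', hK', hle⟩ := ComponentExists.exists_isComponent_le hnn.isSubnormal hs inf_le_right
      have h1 : K ≤ centralizer (K : Set H) := by
        conv_lhs => rw [hu K K' hK hK']
        exact hle.trans inf_le_left
      apply quasisimple_not_isMulCommutative hK.2
      exact ⟨⟨fun x y => Subtype.ext (mem_centralizer_iff.1 (h1 y.2) x x.2)⟩⟩
  have htF : t ∉ centralizer (fittingSubgroup H : Set H) := fun h =>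
    not_mem_fitting C ht2 ht1 (hle ⟨ht.2, h⟩)
  rcases fitting C with hb | ⟨h3, hfix, x, hx, hinv, hxc⟩
  · exfalso
    apply htF
    rw [hb, mem_centralizer_iff]
    intro z hz
    rw [coe_bot, Set.mem_singleton_iff] at hz
    rw [hz, one_mul, mul_one]
  have hp3 : Fact (Nat.Prime 3) := ⟨Nat.prime_three⟩
  obtain ⟨⟨d, hd⟩, hd3⟩ := exists_prime_orderOf_dvd_card' (G := fittingSubgroup H) 3 (by rw [h3])
  rw [Subgroup.orderOf_mk] at hd3
  have hd1 : d ≠ 1 := by
    rintro rfl
    rw [orderOf_one] at hd3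
    omega
  have hz : zpowers d = fittingSubgroup H := by
    apply Subgroup.eq_of_le_of_card_ge (zpowers_le.2 hd)
    rw [h3, Nat.card_zpowers, hd3]
  have hdc : ∀ l ∈ K, d * l = l * d := by
    intro l hl
    have h1 := layer_le_centralizer_fitting (component_le_layer hK hl)
    exact mem_centralizer_iff.1 h1 d hd
  refine ⟨d, t, htX, orderOf_eq_prime (by rw [pow_two]; exact ht2) ht1, hd3, ?_, ?_, hdc, hfix d hd hd1,
    by rw [hz]; exact hF⟩
  · -- `t = c x` with `c` centralising `F`
    have h1 : t * x ∈ centralizer (fittingSubgroup H : Set H) := (hxc t htX).resolve_left htF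
    have h2 := mem_centralizer_iff.1 h1 (x⁻¹ * d * x) (by
      have := hF.conj_mem d hd x⁻¹
      rwa [inv_inv] at this)
    have h4 : t * d = (x⁻¹ * d * x) * t := by
      have hxt := C.X_comm htX hx
      have e1 : t * x * (x⁻¹ * d * x) = t * d * x := by group
      have e2 : x⁻¹ * d * x * (t * x) = x⁻¹ * d * x * t * x := by group
      rw [e1, e2] at h2
      exact (mul_right_cancel h2).symm
    have h5 : x⁻¹ * d * x = d⁻¹ := by
      have h6 := hinv d hd
      have h7 := C.X_inv hx
      rw [h7] at h6 ⊢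
      exact h6
    rw [h4, h5, mul_inv_cancel_right]
  · intro l hl
    exact (mem_centralizer_iff.1 ht.2 l hl).symm

/-- **THEOREM CL from the uniqueness of the component.** -/
theorem main (C : Cfg ρ b q a D X w) (hFT : ∀ K : Subgroup H, Odd (Nat.card K) → Group.IsSolvable K)
    (hu : (∀ K : Subgroup H, IsComponent K → Even (Nat.card K)) →
      ∀ K K' : Subgroup H, IsComponent K → IsComponent K' → K = K') :
    ∃ L : Subgroup H, L.Normal ∧ IsQuasisimple L ∧ Odd (Nat.card (center L)) ∧
      (X ⊓ centralizer (L : Set H) = ⊥ ∨ ∃ d t : H, t ∈ X ∧ orderOf t = 2 ∧ orderOf d = 3 ∧ t * d * t⁻¹ = d⁻¹ ∧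
        (∀ l ∈ L, t * l = l * t) ∧ (∀ l ∈ L, d * l = l * d) ∧ (∀ v, ρ d v = v → v = 0) ∧
        (zpowers d).Normal) := by
  have hu := hu fun K hK => even_of_isComponent hFT hK
  obtain ⟨K, hK⟩ := exists_component C
  have hn : K.Normal := by
    refine ⟨fun n hnK g => ?_⟩
    have h1 := hu K _ hK (isComponent_conj g hK)
    rw [h1]
    exact ⟨n, hnK, by simp⟩
  refine ⟨K, hn, hK.2, odd_center C hn, ?_⟩
  by_cases h : X ⊓ centralizer (K : Set H) = ⊥
  · exact Or.inl h
  · exact Or.inr (triple C hu hK hn h)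

end Cfsg.Agent.Omega.EH3.CLOut
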