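import Cfsg.Agent.Omega.EH3.Main
import Cfsg.Agent.Omega.EH3.CLOut
import Cfsg.Agent.S0205

/-!
# EH3: THEOREM CL from the uniqueness of the component (helper947)

* `Unique` : the configuration `Cfg` has exactly one component, if every component has even order (helper291);
* `cl_of` : `Unique → Main.CL` (Feit-Thompson: `S0205`).
-/

set_option autoImplicit false

namespace Cfsg.Agent.Omega.EH3.CLPlug

universe u

/-- the uniqueness of the component -/
def Unique : Prop :=
  ∀ (H V : Type u) [Group H] [AddCommGroup V] [Module (ZMod 2) V] (ρ : H →* (V ≃ₗ[ZMod 2] V))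
    (b : LinearMap.BilinForm (ZMod 2) V) (q : V → ZMod 2) (a : V) (D : Submodule (ZMod 2) V) (X : Subgroup H) (w : ℕ),
    Cfg ρ b q a D X w → (∀ K : Subgroup H, Cfsg.IsComponent K → Even (Nat.card K)) →
    ∀ K K' : Subgroup H, Cfsg.IsComponent K → Cfsg.IsComponent K' → K = K'

theorem cl_of (h : Unique.{u}) : Main.CL.{u} := by
  intro H V _ _ _ ρ b q a D X w C
  have := C.finite_H
  obtain ⟨L, hn, hq, ho, h4⟩ := CLOut.main C (fun K hK => S0205.result hK) (h H V ρ b q a D X w C)
  refine ⟨L, hn, hq, ho, h4.imp_right ?_⟩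
  rintro ⟨d, t, h1, h2, h3, h5, h6, h7, h8, h9⟩
  exact ⟨d, t, ⟨h1, h2, h3, h5, h6, h7, h8, h9⟩⟩

end Cfsg.Agent.Omega.EH3.CLPlug
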