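import Cfsg.Agent.Omega.EH3.ToSys
import Cfsg.Agent.Omega.W5.Parity

/-!
# EH3: (N5) in the configuration `Cfg` (helper947)

`Cfg.card_cent_le_of_perfect`, `Cfg.card_cent_le` : a normal subgroup `N ≠ 1` of `H` which is perfect (resp. not
solvable) satisfies `|C_X(N)| ≤ 2`.  `Cfg.orbit_le`: if `N` is normal in `H` and commutes with two distinct elements
`≠ 1` of `X`, then the span of every `N`-orbit on the points has dimension `≤ 2`.
-/

set_option autoImplicit false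

namespace Cfsg.Agent.Omega.EH3.Cfg

open Cfsg.Agent.Omega.W5.NearTI Cfsg.Agent.Omega.W5.Parity Module

variable {H V : Type*} [Group H] [AddCommGroup V] [Module (ZMod 2) V]
  {ρ : H →* (V ≃ₗ[ZMod 2] V)} {b : LinearMap.BilinForm (ZMod 2) V} {q : V → ZMod 2}
  {a : V} {D : Submodule (ZMod 2) V} {X : Subgroup H} {w : ℕ}

theorem norX (C : Cfg ρ b q a D X w) {N : Subgroup H} (hN : ∀ x ∈ X, ∀ n ∈ N, x * n * x⁻¹ ∈ N)
    {f g : H} (hf : f ∈ X) (hg : g ∈ X) (hf1 : f ≠ 1) (hg1 : g ≠ 1) (hfg : f ≠ g)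
    (hfc : ∀ n ∈ N, n * f = f * n) (hgc : ∀ n ∈ N, n * g = g * n) :
    NorX b ρ.range (X.map ρ) D a (N.map ρ) (ρ f) (ρ g) where
  sys := C.sys
  le := by rintro _ ⟨n, -, rfl⟩; exact ⟨n, rfl⟩
  normX := by
    rintro _ ⟨x, hx, rfl⟩ _ ⟨n, hn, rfl⟩
    exact ⟨x * n * x⁻¹, hN x hx n hn, by rw [map_mul, map_mul, map_inv]⟩
  f_mem := ⟨f, hf, rfl⟩
  g_mem := ⟨g, hg, rfl⟩
  f_ne := fun h => hf1 (C.inj (by rw [h, map_one]))
  g_ne := fun h => hg1 (C.inj (by rw [h, map_one]))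
  ne := fun h => hfg (C.inj h)
  f_cent := by rintro _ ⟨n, hn, rfl⟩; rw [← map_mul, ← map_mul, hfc n hn]
  g_cent := by rintro _ ⟨n, hn, rfl⟩; rw [← map_mul, ← map_mul, hgc n hn]

theorem nor (C : Cfg ρ b q a D X w) {N : Subgroup H} (hN : N.Normal)
    {f g : H} (hf : f ∈ X) (hg : g ∈ X) (hf1 : f ≠ 1) (hg1 : g ≠ 1) (hfg : f ≠ g)
    (hfc : ∀ n ∈ N, n * f = f * n) (hgc : ∀ n ∈ N, n * g = g * n) :
    Nor b ρ.range (X.map ρ) D a (N.map ρ) (ρ f) (ρ g) where
  toNorX := C.norX (fun x _ n hn => hN.conj_mem n hn x) hf hg hf1 hg1 hfg hfc hgc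
  norm := by
    rintro _ ⟨h, rfl⟩ _ ⟨n, hn, rfl⟩
    exact ⟨h * n * h⁻¹, hN.conj_mem n hn h, by rw [map_mul, map_mul, map_inv]⟩

theorem stab_le (_C : Cfg ρ b q a D X w) :
    ∀ h ∈ (stab ρ a).map ρ, h ∈ ρ.range ∧ h a = a := by
  rintro _ ⟨h, hh, rfl⟩
  exact ⟨⟨h, rfl⟩, hh⟩

theorem odd_relIndex (C : Cfg ρ b q a D X w) : Odd (((stab ρ a).map ρ).relIndex ρ.range) := by
  rw [MonoidHom.range_eq_map, ← Subgroup.relIndex_comap, Subgroup.comap_map_eq_self_of_injective C.inj,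
    Subgroup.relIndex_top_right]
  exact C.odd_index

/-- (N5): the `N`-orbit of `a` spans a space of dimension at most two -/
theorem orbit_le (C : Cfg ρ b q a D X w) {N : Subgroup H} (hN : N.Normal)
    {f g : H} (hf : f ∈ X) (hg : g ∈ X) (hf1 : f ≠ 1) (hg1 : g ≠ 1) (hfg : f ≠ g)
    (hfc : ∀ n ∈ N, n * f = f * n) (hgc : ∀ n ∈ N, n * g = g * n) :
    finrank (ZMod 2) (U (N.map ρ) a) ≤ 2 := by
  have := C.finite_V
  obtain ⟨h, hh⟩ := C.exists_opp
  exact (C.nor hN hf hg hf1 hg1 hfg hfc hgc).finrank_le C.stab_le C.odd_relIndex ⟨ρ h, ⟨h, rfl⟩, hh⟩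

/-- (N5) for perfect normal subgroups: no two elements `≠ 1` of `X` commute with `N` -/
theorem eq_of_cent (C : Cfg ρ b q a D X w) {N : Subgroup H} (hN : N.Normal) (hp : ⁅N, N⁆ = N)
    (h1 : N ≠ ⊥) {f g : H} (hf : f ∈ X) (hg : g ∈ X) (hf1 : f ≠ 1) (hg1 : g ≠ 1)
    (hfc : ∀ n ∈ N, n * f = f * n) (hgc : ∀ n ∈ N, n * g = g * n) : f = g := by
  by_contra hfg
  apply h1
  have := C.finite_V
  obtain ⟨h, hh⟩ := C.exists_opp
  have h2 : N.map ρ = ⊥ := by
    refine (C.nor hN hf hg hf1 hg1 hfg hfc hgc).eq_bot_of_perfect C.stab_le C.odd_relIndex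
      ⟨ρ h, ⟨h, rfl⟩, hh⟩ ?_ ?_
    · rw [← Subgroup.map_commutator, hp]
    · rw [← C.span_orbit]
      congr 1
      ext v
      constructor
      · rintro ⟨_, ⟨k, rfl⟩, h3⟩; exact ⟨k, h3⟩
      · rintro ⟨k, h3⟩; exact ⟨ρ k, ⟨k, rfl⟩, h3⟩
  rw [eq_bot_iff]
  intro n hn
  have h3 : ρ n ∈ N.map ρ := ⟨n, hn, rfl⟩
  rw [h2, Subgroup.mem_bot] at h3
  exact Subgroup.mem_bot.2 (C.inj (by rw [h3, map_one]))

/-- **(N5)**, perfect case: `|C_X(N)| ≤ 2` -/
theorem card_cent_le_of_perfect (C : Cfg ρ b q a D X w) {N : Subgroup H} (hN : N.Normal)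
    (hp : ⁅N, N⁆ = N) (h1 : N ≠ ⊥) :
    Nat.card ↥(X ⊓ Subgroup.centralizer (N : Set H)) ≤ 2 := by
  classical
  have := C.finite_H
  set Y := X ⊓ Subgroup.centralizer (N : Set H) with hY
  have key : ∀ f g : Y, f ≠ 1 → g ≠ 1 → f = g := by
    intro f g hf hg
    apply Subtype.ext
    refine C.eq_of_cent hN hp h1 f.2.1 g.2.1 (fun h => hf (Subtype.ext h)) (fun h => hg (Subtype.ext h))
      (fun n hn => ?_) (fun n hn => ?_)
    · exact Subgroup.mem_centralizer_iff.1 f.2.2 n hn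
    · exact Subgroup.mem_centralizer_iff.1 g.2.2 n hn
  have hinj : Function.Injective fun f : Y => (decide (f = 1) : Bool) := by
    intro f g hfg
    by_cases hf : f = 1
    · by_cases hg : g = 1
      · rw [hf, hg]
      · simp [hf, hg] at hfg
    · by_cases hg : g = 1
      · simp [hf, hg] at hfg
      · exact key f g hf hg
  have h3 := Nat.card_le_card_of_injective _ hinj
  simpa using h3

/-- a subgroup `N ⊴ H` of a finite group which is not solvable contains a perfect `M ⊴ H`, `M ≠ 1` -/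
theorem exists_perfect {H : Type*} [Group H] [Finite H] {N : Subgroup H} (hN : N.Normal)
    (hs : ¬ Group.IsSolvable N) : ∃ M : Subgroup H, M.Normal ∧ M ≤ N ∧ ⁅M, M⁆ = M ∧ M ≠ ⊥ := by
  set K : ℕ → Subgroup H := fun n => (derivedSeries N n).map N.subtype with hK
  have hsucc : ∀ n, K (n + 1) = ⁅K n, K n⁆ := fun n => by
    simp only [hK, derivedSeries_succ, Subgroup.map_commutator]
  have hle : ∀ n, K (n + 1) ≤ K n := fun n => by
    rw [hsucc]
    exact Subgroup.commutator_le_self (K n)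
  have hst : ∃ n, K (n + 1) = K n := by
    by_contra hcon
    push Not at hcon
    have h1 : ∀ n, Nat.card (K n) + n ≤ Nat.card (K 0) := by
      intro n
      induction n with
      | zero => simp
      | succ n ih =>
        have h2 : Nat.card (K (n + 1)) < Nat.card (K n) := by
          have h3 : (K (n + 1) : Set H) ⊂ (K n : Set H) :=
            lt_of_le_of_ne (hle n) (fun h => hcon n (SetLike.coe_injective h))
          exact Set.Finite.card_lt_card (Set.toFinite _) h3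
        omega
    have h2 := h1 (Nat.card (K 0) + 1)
    omega
  obtain ⟨n, hn⟩ := hst
  refine ⟨K n, ?_, ?_, ?_, ?_⟩
  · have : (derivedSeries N n).Characteristic := inferInstance
    exact ConjAct.normal_of_characteristic_of_normal
  · rintro _ ⟨x, -, rfl⟩; exact x.2
  · rw [← hsucc, hn]
  · intro h0
    apply hs
    refine (Group.isSolvable_def _).2 ⟨n, ?_⟩
    rw [eq_bot_iff]
    intro x hx
    have h1 : (x : H) ∈ K n := ⟨x, hx, rfl⟩
    rw [h0, Subgroup.mem_bot] at h1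
    exact Subgroup.mem_bot.2 (Subtype.ext h1)

/-- **(N5)**: `|C_X(N)| ≤ 2` for every normal subgroup `N` of `H` which is not solvable -/
theorem card_cent_le (C : Cfg ρ b q a D X w) {N : Subgroup H} (hN : N.Normal)
    (hs : ¬ Group.IsSolvable N) : Nat.card ↥(X ⊓ Subgroup.centralizer (N : Set H)) ≤ 2 := by
  have := C.finite_H
  obtain ⟨M, hM, hMN, hp, h1⟩ := exists_perfect hN hs
  refine le_trans ?_ (C.card_cent_le_of_perfect hM hp h1)
  refine Nat.card_le_card_of_injective (Subgroup.inclusion ?_) (Subgroup.inclusion_injective _)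
  exact inf_le_inf_left X (Subgroup.centralizer_le hMN)

end Cfsg.Agent.Omega.EH3.Cfg
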