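import Cfsg.Agent.Omega.EH3.CentOdd
import Cfsg.Agent.Omega.EH3.Of
import Cfsg.Agent.ConwayFacts.AutCo1
import Cfsg.Agent.LargeExtra.Nine.ToCent
import Cfsg.Agent.S1673

/-!
# OMEGA / EH3: the exit `F*(C(z)/Q) = Co₁`, width 12: the Monster (helper586)

`equiv_co1` : in `Cfg` with `w = 12` and a normal odd cover `L` of `Co₁` (`LBs Co₁ 24`), `H ≅ Co₁`;
`isoM` : the group level, through S1673.
-/

set_option autoImplicit false

namespace Cfsg.Agent.Omega.EH3.CoOneExit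

open Cfsg Subgroup Cfsg.Agent.Omega.TwoF
open Cfsg.Agent.Co2Type.Quad Cfsg.Agent.LargeExtra.Base Cfsg.Agent.LargeExtra.Local
open Cfsg.Agent.LargeExtra.Nine

universe u v

/-- **`H ≅ Co₁`** -/
theorem equiv_co1 {K : Type v} [Group K] {H V : Type u} [Group H] [AddCommGroup V] [Module (ZMod 2) V]
    {ρ : H →* (V ≃ₗ[ZMod 2] V)} {b : LinearMap.BilinForm (ZMod 2) V} {q : V → ZMod 2} {a : V}
    {D : Submodule (ZMod 2) V} {X : Subgroup H} {w : ℕ} {L : Subgroup H} {π : L →* K}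
    (C : Cfg ρ b q a D X w) (hL : L.Normal) (hπ : OddCover π) (hK : Spor.IsoCo1 K) [Nontrivial K]
    (hc : center K = ⊥) (hn : LBs.{u} K 24) (hw : w = 12) : Spor.IsoCo1 H := by
  obtain ⟨e⟩ := hK
  obtain ⟨f⟩ := CentOdd.equiv_of_inner C hL hπ hn (by omega) hc
    (Cfsg.Agent.ConwayFacts.AutCo1.inner_of_equiv e)
  exact ⟨f.trans e⟩

variable {G : Type u} [Group G] {Q A : Subgroup G} {z a : G}

theorem card_Q (h : Large Q z) {w : ℕ} (hV : Nat.card h.V = 2 ^ (2 * w)) : Nat.card Q = 2 ^ (2 * w + 1) := by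
  rw [h.card_eq, hV, pow_succ, mul_comm]

/-- **the exit `C(z)/Q = Co₁`** -/
theorem isoM [Finite G] [IsSimpleGroup G] (p : Pair Q z A a) (hQ : Nat.card Q = 2 ^ 25)
    (hD : Nat.card p.D = 2 ^ 12) (hco : Spor.IsoCo1 p.H) : Spor.IsoM G := by
  have : (Q.subgroupOf (Subgroup.centralizer ({z} : Set G))).Normal := ToCent.normal p.lz
  obtain ⟨E, hE, hEc⟩ := ToCent.exists_elem p
  obtain ⟨e⟩ := hco
  obtain ⟨f⟩ := ToCent.nonempty_quot p.lz
  refine Cfsg.Agent.S1673.result z (orderOf_z p.lz) (Q.subgroupOf (Subgroup.centralizer ({z} : Set G)))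
    (ToCent.isExtraspecial p.lz ?_) ?_ ⟨E, hE, by rw [hEc, hD]; norm_num⟩ (ToCent.centralizer_le p.lz) ⟨f.trans e⟩
  · rw [hQ]; norm_num
  · rw [ToCent.card_subgroupOf p.lz, hQ]

/-- **the exit `Co₁` from `Cfg`** -/
theorem isoM_of_cfg [Finite G] [IsSimpleGroup G] (p : Pair Q z A a) {w : ℕ}
    (C : Cfg (p.H.subtype : p.H →* (p.lz.V ≃ₗ[ZMod 2] p.lz.V)) p.lz.b p.lz.q p.va p.D (p.X.subgroupOf p.H) w)
    {K : Type v} [Group K] [Nontrivial K] {L : Subgroup p.H} {π : L →* K} (hL : L.Normal) (hπ : OddCover π)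
    (hK : Spor.IsoCo1 K) (hc : center K = ⊥) (hn : LBs.{u} K 24) (hw : w = 12) : Spor.IsoM G := by
  refine isoM p ?_ ?_ (equiv_co1 C hL hπ hK hc hn hw)
  · have := card_Q p.lz C.card_V
    rw [this, hw]
  · rw [C.card_D, hw]

end Cfsg.Agent.Omega.EH3.CoOneExit
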