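import Cfsg.Agent.Omega.KFacts

/-!
# EH3: the step 'known simple' of the main case

`kstep`: in the configuration `Cfg` let `L` be normal in `H`, perfect, `Z(L)` of odd order, `L/Z(L)` simple and known,
`X ∩ C_H(L) = 1`.  Then (by the rows of TABLE 2F) `L/Z(L)` is of Lie type in characteristic 2, or `U4(3)` or `M22` with
`w = 6`, or `Co2` with `w = 11`, or `Co1` with `w = 12`.
-/

set_option autoImplicit false

namespace Cfsg.Agent.Omega.EH3

open Subgroup Cfsg TwoF KFacts

universe u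

/-- The natural map of a perfect group with centre of odd order is an odd cover. -/
theorem oddCover_mk {L : Type*} [Group L] (hL : commutator L = ⊤) (hZ : Odd (Nat.card (center L))) :
    OddCover (QuotientGroup.mk' (center L)) :=
  ⟨hL, QuotientGroup.mk'_surjective _, (QuotientGroup.ker_mk' _).le, by rwa [QuotientGroup.ker_mk']⟩

/-- The outcomes of the main case. -/
def KOut (K : Type u) [Group K] (w : ℕ) : Prop :=
  IsLieTypeChar 2 K ∨ (IsUFourThree K ∧ w = 6) ∨ (Spor.IsoM22 K ∧ w = 6) ∨ (Spor.IsoCo2 K ∧ w = 11) ∨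
    (Spor.IsoCo1 K ∧ w = 12)

theorem kstep (R : Rows2.{u}) {K : Type u} [Group K] [IsSimpleGroup K] (hK : IsKnownSimple' K)
    (hc : ¬ IsMulCommutative K) {H V : Type u} [Group H] [AddCommGroup V] [Module (ZMod 2) V]
    {ρ : H →* (V ≃ₗ[ZMod 2] V)} {b : LinearMap.BilinForm (ZMod 2) V} {q : V → ZMod 2} {a : V}
    {D : Submodule (ZMod 2) V} {X : Subgroup H} {w : ℕ} (C : Cfg ρ b q a D X w) {L : Subgroup H} (hL : L.Normal)
    {π : L →* K} (hπ : OddCover π) (hX : X ⊓ centralizer (L : Set H) = ⊥) : KOut K w := by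
  have hZ : center K = ⊥ := by
    rcases (inferInstance : (center K).Normal).eq_bot_or_eq_top with h | h
    · exact h
    · exfalso
      apply hc
      constructor
      constructor
      intro x y
      have hx : y ∈ center K := by rw [h]; trivial
      exact (mem_center_iff.mp hx x)
  have hp : ¬ IsPrimeCyclic K := by
    intro hp
    apply hc
    have : Fact (Nat.card K).Prime := ⟨hp⟩
    have : IsCyclic K := isCyclic_of_prime_card (p := Nat.card K) rfl
    exact IsCyclic.isMulCommutative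
  rcases R.main hK hp with h | h | ⟨h, hT⟩ | ⟨h, hT⟩ | ⟨h, hT⟩ | ⟨h, hT⟩
  · exact Or.inl h
  · exact absurd C (h H V ρ b q a D X w L π hL hπ hX)
  · exact Or.inr (Or.inl ⟨h, eq_of_tight C hT.lb hT.rk hT.eq hZ hL hπ hX⟩)
  · exact Or.inr (Or.inr (Or.inl ⟨h, eq_of_tight C hT.lb hT.rk hT.eq hZ hL hπ hX⟩))
  · exact Or.inr (Or.inr (Or.inr (Or.inl ⟨h, eq_of_tight C hT.lb hT.rk hT.eq hZ hL hπ hX⟩)))
  · exact Or.inr (Or.inr (Or.inr (Or.inr ⟨h, eq_of_tight C hT.lb hT.rk hT.eq hZ hL hπ hX⟩)))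

end Cfsg.Agent.Omega.EH3
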