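import Cfsg.Agent.Omega.EH3.Start
import Cfsg.Agent.Omega.EH3.Row
import Cfsg.Agent.Omega.EH3.KStep
import Cfsg.Agent.Omega.EH3.TCL.Main
import Cfsg.Agent.LargeExtra.TwoA.Main
import Cfsg.Agent.LargeExtra.WideIrr.SgKill

/-!
# EH3: the assembly (helper807)

`G` of class `K` (`K = Frame.All` for the even half, `K = StrQ` for the quasithin version), `Frame.Ctx G`,
`F*(C_G(z))` extraspecial of order `2^(2w+1)`, `w ≥ 5`, `C_G(z)` irreducible on `V = Q/⟨z⟩`, `z` not weakly closed in `Q`.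

* `Sit K Q A z a w` : the situation [2d] in `G`: `|D̃| = 2^w`, no Siegel element in `X`; `Sit.cfg : Cfg ..`;
* `CL` : THEOREM CL (#12897): `H` has a normal quasisimple `L` with odd centre, and `X ∩ C_H(L) = 1` or the `S₃`-case;
* `RowG K P` : the row `P` in `G`: `L/Z(L)` of type `P` implies that `G` is known; `rowG_of_row : RowEH3 → RowG`;
* `RowS K` : the `S₃`-case (`H = S₃ × Ω_w^±(2)`, output `Ω_{w+4}^±(2)`);
* `leafEH3` : `CL`, `RowG K IsKnownSimple'`, `RowS K` imply `FrameExtra.LeafEH3 K`.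
* `table_all` : the rows for `K = All`.
-/

set_option autoImplicit false

namespace Cfsg.Agent.Omega.EH3.Main

open Cfsg Subgroup Cfsg.Agent.Co2Type.Quad Cfsg.Agent.LargeExtra Cfsg.Agent.LargeExtra.Base
open Cfsg.Agent.LargeExtra.SiegelOrbit (O2)
open Cfsg.Agent.LargeExtra.SiegFam.Inst (AllSg Irr)
open Cfsg.Agent.Omega.Frame (Ctx Cls All)

universe u

/-! ### Sections of the centralizer -/

theorem known_section {G : Type u} [Group G] (hK : IsKProper G) {C : Subgroup G} (hC : C ≠ ⊤) {Y : Type u}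
    [Group Y] (f : C →* Y) (L : Subgroup f.range) (N : Subgroup L) [N.Normal] (hs : IsSimpleGroup (L ⧸ N))
    (hna : ¬ IsMulCommutative (L ⧸ N)) : IsKnownSimple' (L ⧸ N) := by
  let g : ↥(L.comap f.rangeRestrict) →* L ⧸ N :=
    (QuotientGroup.mk' N).comp (f.rangeRestrict.subgroupComap L)
  have hg : Function.Surjective g := by
    refine (QuotientGroup.mk'_surjective N).comp ?_
    rintro ⟨y, hy⟩
    obtain ⟨x, rfl⟩ := f.rangeRestrict_surjective y
    exact ⟨⟨x, hy⟩, rfl⟩
  let e : ↥(L.comap f.rangeRestrict) ⧸ g.ker ≃* L ⧸ N := QuotientGroup.quotientKerEquivOfSurjective g hg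
  have hs' := OddHalf.Known.isSimple_congr e.symm hs
  have hna' := Exits.not_comm_congr e.symm hna
  exact OddHalf.Known.isKnownSimple'_congr e hna' (hK C hC _ g.ker hs' hna')

/-! ### The situation [2d] -/

/-- **The situation [2d] of EH3**: `Q = O₂(C_G(z))` extraspecial of order `2^(2w+1)`, `w ≥ 5`, `C_G(z)` irreducible on
`V = Q/⟨z⟩`, `a ∈ Q` a conjugate of `z`, `A = O₂(C_G(a))`, `|D̃| = 2^w` (`D = Q ∩ A`), no Siegel element in `X`. -/
structure Sit {G : Type u} [Group G] [Finite G] (Q A : Subgroup G) (z a : G) (w : ℕ) : Prop where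
  ctx : Ctx G
  five : 5 ≤ w
  pair : Pair Q z A a
  o2 : O2 pair.lz
  card_Q : Nat.card Q = 2 ^ (2 * w + 1)
  irr : IrrC pair.lz
  card_D : Nat.card pair.D = 2 ^ w
  noSg : NoSg pair

namespace Sit

variable {G : Type u} [Group G] [Finite G] {Q A : Subgroup G} {z a : G} {w : ℕ}

/-- `X` as a subgroup of `H`. -/
noncomputable abbrev X (S : Sit Q A z a w) : Subgroup S.pair.H := S.pair.X.subgroupOf S.pair.H

/-- the natural representation of `H` on `V` -/
noncomputable abbrev ρ (S : Sit Q A z a w) : S.pair.H →* (S.pair.lz.V ≃ₗ[ZMod 2] S.pair.lz.V) := S.pair.H.subtype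

/-- the configuration -/
theorem cfg (S : Sit Q A z a w) : Cfg S.ρ S.pair.lz.b S.pair.lz.q S.pair.va S.pair.D S.X w :=
  of_pair S.pair S.five S.card_Q S.card_D S.irr S.noSg

theorem centralizer_ne_top (S : Sit Q A z a w) : centralizer ({z} : Set G) ≠ ⊤ := by
  intro h
  have := S.ctx.simple
  have h1 : z ∈ center G := by
    rw [mem_center_iff]
    intro g
    have : g ∈ centralizer ({z} : Set G) := by rw [h]; trivial
    exact mem_centralizer_singleton_iff.1 this
  rw [Exits.center_eq_bot S.ctx.nonComm, mem_bot] at h1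
  exact S.pair.lz.z_ne h1

/-- simple sections of `H` are known -/
theorem known (S : Sit Q A z a w) (L : Subgroup S.pair.H) (N : Subgroup L) [hN : N.Normal]
    (hs : IsSimpleGroup (L ⧸ N)) (hna : ¬ IsMulCommutative (L ⧸ N)) : IsKnownSimple' (L ⧸ N) :=
  @known_section G _ S.ctx.kproper _ S.centralizer_ne_top _ _ S.pair.lz.act L N hN hs hna

end Sit

/-! ### Inputs -/

/-- The `S₃`-case of THEOREM CL: an involution `t` of `X` centralises `L`, `t` inverts `d` of order 3 in `C_H(L)`,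
fixed point free on `V`, `⟨d⟩` normal in `H`. -/
structure STriple {H V : Type u} [Group H] [AddCommGroup V] [Module (ZMod 2) V] (ρ : H →* (V ≃ₗ[ZMod 2] V))
    (X L : Subgroup H) (d t : H) : Prop where
  t_mem : t ∈ X
  t_sq : orderOf t = 2
  d_ord : orderOf d = 3
  conj : t * d * t⁻¹ = d⁻¹
  t_cent : ∀ l ∈ L, t * l = l * t
  d_cent : ∀ l ∈ L, d * l = l * d
  d_fix : ∀ v, ρ d v = v → v = 0
  d_norm : (zpowers d).Normal

/-- **THEOREM CL** (#12897 of helper291, typing: helper291): the Clifford step. -/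
def CL : Prop :=
  ∀ (H V : Type u) [Group H] [AddCommGroup V] [Module (ZMod 2) V] (ρ : H →* (V ≃ₗ[ZMod 2] V))
    (b : LinearMap.BilinForm (ZMod 2) V) (q : V → ZMod 2) (a : V) (D : Submodule (ZMod 2) V) (X : Subgroup H) (w : ℕ),
    Cfg ρ b q a D X w →
    ∃ L : Subgroup H, L.Normal ∧ IsQuasisimple L ∧ Odd (Nat.card (center L)) ∧
      (X ⊓ centralizer (L : Set H) = ⊥ ∨ ∃ d t : H, STriple ρ X L d t)

/-- **The row `P` in `G`**: in the situation [2d] let `L` be normal in `H`, quasisimple, with centre of odd order,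
`X ∩ C_H(L) = 1`, `P (L/Z(L)) w`.  Then `G` is known. -/
def RowG (K : Cls.{u}) (P : ∀ (X : Type u) [Group X], ℕ → Prop) : Prop :=
  ∀ (G : Type u) [Group G] [Finite G], K G → ∀ (Q A : Subgroup G) (z a : G) (w : ℕ) (S : Sit Q A z a w)
    (L : Subgroup S.pair.H), L.Normal → IsQuasisimple L → Odd (Nat.card (center L)) →
    S.X ⊓ centralizer (L : Set S.pair.H) = ⊥ → P (L ⧸ center L) w → IsKnownSimple' G

theorem RowG.of_all {K : Cls.{u}} {P : ∀ (X : Type u) [Group X], ℕ → Prop} (h : RowG All P) : RowG K P :=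
  fun G _ _ _ => h G trivial

/-- **The `S₃`-case** (`H = S₃ × Ω_w^±(2)`, output `Ω_{w+4}^±(2)`). -/
def RowS (K : Cls.{u}) : Prop :=
  ∀ (G : Type u) [Group G] [Finite G], K G → ∀ (Q A : Subgroup G) (z a : G) (w : ℕ) (S : Sit Q A z a w)
    (L : Subgroup S.pair.H), L.Normal → IsQuasisimple L → Odd (Nat.card (center L)) →
    (∃ d t, STriple S.ρ S.X L d t) → IsKnownSimple' G

theorem RowS.of_all {K : Cls.{u}} (h : RowS All.{u}) : RowS K := fun G _ _ _ => h G trivial

/-! ### The leaf -/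

theorem commutator_eq_top {L : Type*} [Group L] (hq : IsQuasisimple L) : commutator L = ⊤ := hq.1.commutator_eq_top

theorem simple_of_quasisimple {L : Type*} [Group L] (hq : IsQuasisimple L) :
    IsSimpleGroup (L ⧸ center L) ∧ ¬ IsMulCommutative (L ⧸ center L) := by
  refine ⟨hq.2, fun h => ?_⟩
  have h1 : commutator L ≤ center L := by
    rw [_root_.commutator_def, Subgroup.commutator_le]
    intro x _ y _
    rw [← QuotientGroup.eq_one_iff, commutatorElement_def, QuotientGroup.mk_mul, QuotientGroup.mk_mul,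
      QuotientGroup.mk_mul, QuotientGroup.mk_inv, QuotientGroup.mk_inv,
      h.is_comm.comm (x : L ⧸ center L) (y : L ⧸ center L), mul_inv_cancel_right, mul_inv_cancel]
  rw [commutator_eq_top hq, top_le_iff] at h1
  obtain ⟨x, y, hxy⟩ := hq.2.exists_pair_ne
  apply hxy
  obtain ⟨x, rfl⟩ := QuotientGroup.mk_surjective x
  obtain ⟨y, rfl⟩ := QuotientGroup.mk_surjective y
  rw [QuotientGroup.eq, h1]
  trivial

/-- **EH3** from THEOREM CL and the rows (THEOREM 2C = `TCL.pair_RR` of helper465, 316, 330, 71; [2a] = helper71; [2b] = helper754). -/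
theorem leafEH3 {K : Cls.{u}} (hcl : CL.{u}) (hr : RowG K (fun X _ _ => IsKnownSimple' X))
    (hs : RowS K) : FrameExtra.LeafEH3 K := by
  intro G _ _ hG hK z w hw h hi hwc
  have hL := Start.large hG.char2 h
  have hO := Start.o2 hG.char2 h
  have hcQ := Start.card_Q h
  have hcV := Start.card_V hG.char2 h
  have hirr := Start.irr_of_irr hG.char2 h hi
  obtain ⟨A, a, p⟩ := Start.exists_pair hL (by
    push Not
    exact hwc)
  have hirr' : IrrC p.lz := hirr
  have hO' : O2 p.lz := hO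
  have hcV' : Nat.card p.lz.V = 2 ^ (2 * w) := hcV
  have hbig : 2 ^ 11 ≤ Nat.card (Start.Qz z) := by
    rw [hcQ]
    exact Nat.pow_le_pow_right (by norm_num) (by omega)
  -- `Irr p`
  have hI : Irr p := by
    intro R hR hinv
    rcases hirr' R (fun c v hv => hinv _ ⟨c, rfl⟩ v hv) with h1 | h1
    · exact h1
    · exfalso
      apply p.va_ne
      apply p.lz.b_nondeg
      intro v
      have h2 := p.lz.q_add' p.va v
      rw [hR _ (h1 ▸ trivial), hR _ (h1 ▸ trivial), hR _ (h1 ▸ trivial), zero_add, zero_add] at h2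
      exact h2.symm
  have hidx : ∀ N : Subgroup G, N.index ≠ 2 := by
    have := hG.simple
    exact fun N => WCIrr.index_ne_two (Start.exists_ne' hG) N
  -- `|D̃| ≥ 4`
  have hfinD : Finite p.D := Finite.of_injective _ Subtype.val_injective
  have hD4 : 4 ≤ Nat.card p.D := by
    have h1 : Nat.card p.D ≠ 2 := fun h => TwoA.false_of_pair p hO' hbig h
    obtain ⟨k, hk⟩ : ∃ k : ℕ, Nat.card p.D = 2 ^ k := by
      have hfd : Module.Finite (ZMod 2) p.D := Module.Finite.of_finite
      exact ⟨Module.finrank (ZMod 2) p.D, by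
        rw [Module.natCard_eq_pow_finrank (K := ZMod 2) (V := p.D), Nat.card_zmod]⟩
    have h2 : 1 < Nat.card p.D := by
      rw [Finite.one_lt_card_iff_nontrivial]
      exact ⟨⟨p.va, p.va_mem_D⟩, 0, fun h => p.va_ne (congrArg Subtype.val h)⟩
    rcases Nat.lt_or_ge k 2 with h3 | h3
    · interval_cases k
      · rw [hk] at h2; omega
      · exact absurd hk h1
    · rw [hk]
      calc 4 = 2 ^ 2 := by norm_num
        _ ≤ 2 ^ k := Nat.pow_le_pow_right (by norm_num) h3
  have hfr : 8 ≤ Module.finrank (ZMod 2) p.lz.V := by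
    have hfd : Module.Finite (ZMod 2) p.lz.V := Module.Finite.of_finite
    have h1 := Module.natCard_eq_pow_finrank (K := ZMod 2) (V := p.lz.V)
    rw [hcV', Nat.card_zmod] at h1
    have h2 := Nat.pow_right_injective (le_refl 2) h1
    have h3 : 2 * w = Module.finrank (ZMod 2) p.lz.V := h2
    omega
  have hA : ¬ AllSg p := fun hS => WideIrr.SgKill.false_of_allSg hidx p hfr hI hS hD4
  have hRR := TCL.pair_RR p hirr' hA
  have hD := TCL.card_D p hirr' hRR hcQ
  have hN := TCL.noSg p hirr' hRR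
  have S : Sit (Start.Qz z) A z a w := ⟨hG, hw, p, hO', hcQ, hirr', hD, hN⟩
  obtain ⟨L, hLn, hLq, hLo, h4⟩ := hcl _ _ _ _ _ _ _ _ _ S.cfg
  rcases h4 with h4 | h4
  · obtain ⟨hsimple, hna⟩ := simple_of_quasisimple hLq
    exact hr G hK _ _ _ _ _ S L hLn hLq hLo h4 (S.known L (center L) hsimple hna)
  · exact hs G hK _ _ _ _ _ S L hLn hLq hLo h4

/-! ### Rows -/

/-- A row on `Cfg` is a row in `G`. -/
theorem rowG_of_row {K : Cls.{u}} {P : ∀ (X : Type u) [Group X], Prop}
    (h : ∀ (X : Type u) [Group X], P X → RowEH3.{u} X) : RowG K (fun X _ _ => P X) := by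
  intro G _ _ _ Q A z a w S L hLn hLq hLo h4 hP
  exact (h _ hP _ _ _ _ _ _ _ _ _ L _ hLn (oddCover_mk (commutator_eq_top hLq) hLo) h4 S.cfg).elim

/-- **The table**: the rows of TABLE 2F and the five rows in `G`. -/
theorem rowG_known {K : Cls.{u}} (R : KFacts.Rows2.{u}) (lie : RowG K (fun X _ _ => IsLieTypeChar 2 X))
    (u43 : RowG K (fun X _ w => KFacts.IsUFourThree X ∧ w = 6)) (m22 : RowG K (fun X _ w => Spor.IsoM22 X ∧ w = 6))
    (co2 : RowG K (fun X _ w => Spor.IsoCo2 X ∧ w = 11)) (co1 : RowG K (fun X _ w => Spor.IsoCo1 X ∧ w = 12)) :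
    RowG K (fun X _ _ => IsKnownSimple' X) := by
  intro G _ _ hK Q A z a w S L hLn hLq hLo h4 hP
  obtain ⟨hsimple, hna⟩ := simple_of_quasisimple hLq
  rcases kstep R hP hna S.cfg hLn (oddCover_mk (commutator_eq_top hLq) hLo) h4 with h | h | h | h | h
  · exact lie G hK _ _ _ _ _ S L hLn hLq hLo h4 h
  · exact u43 G hK _ _ _ _ _ S L hLn hLq hLo h4 h
  · exact m22 G hK _ _ _ _ _ S L hLn hLq hLo h4 h
  · exact co2 G hK _ _ _ _ _ S L hLn hLq hLo h4 h
  · exact co1 G hK _ _ _ _ _ S L hLn hLq hLo h4 h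

/-- **EH3** from its inputs. -/
structure Inputs (K : Cls.{u}) : Prop where
  cl : CL.{u}
  table : KFacts.Rows2.{u}
  lie : RowG K (fun X _ _ => IsLieTypeChar 2 X)
  u43 : RowG K (fun X _ w => KFacts.IsUFourThree X ∧ w = 6)
  m22 : RowG K (fun X _ w => Spor.IsoM22 X ∧ w = 6)
  co2 : RowG K (fun X _ w => Spor.IsoCo2 X ∧ w = 11)
  co1 : RowG K (fun X _ w => Spor.IsoCo1 X ∧ w = 12)
  rowS : RowS K

theorem Inputs.leaf {K : Cls.{u}} (I : Inputs K) : FrameExtra.LeafEH3 K :=
  leafEH3 I.cl (rowG_known I.table I.lie I.u43 I.m22 I.co2 I.co1) I.rowS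

end Cfsg.Agent.Omega.EH3.Main
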