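import Cfsg.Agent.Omega.EH3.Cons

/-!
# EH3: conjugate configurations (helper616)

`conj C g` : the configuration of `ρ g a`, `ρ g D`, `g X g⁻¹`.
-/

set_option autoImplicit false

namespace Cfsg.Agent.Omega.EH3.Conj

open Subgroup

variable {H V : Type*} [Group H] [AddCommGroup V] [Module (ZMod 2) V]
  {ρ : H →* (V ≃ₗ[ZMod 2] V)} {b : LinearMap.BilinForm (ZMod 2) V} {q : V → ZMod 2}
  {a : V} {D : Submodule (ZMod 2) V} {X : Subgroup H} {w : ℕ}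

/-- `g D` -/
def cD (ρ : H →* (V ≃ₗ[ZMod 2] V)) (g : H) (D : Submodule (ZMod 2) V) : Submodule (ZMod 2) V :=
  D.map (ρ g : V →ₗ[ZMod 2] V)

/-- `g X g⁻¹` -/
def cX (g : H) (X : Subgroup H) : Subgroup H := X.map (MulAut.conj g).toMonoidHom

theorem mem_cD {g : H} {v : V} : v ∈ cD ρ g D ↔ ∃ d ∈ D, ρ g d = v := Iff.rfl

theorem mem_cX {g x : H} : x ∈ cX g X ↔ ∃ y ∈ X, g * y * g⁻¹ = x := Iff.rfl

theorem conj_mem_cX {g x : H} (hx : x ∈ X) : g * x * g⁻¹ ∈ cX g X := ⟨x, hx, rfl⟩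

theorem mem_cX' {g x : H} : x ∈ cX g X ↔ g⁻¹ * x * g ∈ X := by
  rw [mem_cX]
  constructor
  · rintro ⟨y, hy, rfl⟩
    have : g⁻¹ * (g * y * g⁻¹) * g = y := by group
    rw [this]; exact hy
  · intro h
    exact ⟨_, h, by group⟩

theorem act (C : Cfg ρ b q a D X w) (g x : H) (v : V) : ρ (g * x * g⁻¹) (ρ g v) = ρ g (ρ x v) := by
  rw [C.ρ_mul, C.ρ_mul, C.ρ_inv_apply]

theorem act' (C : Cfg ρ b q a D X w) (g h : H) (v : V) :
    ρ g (ρ (g⁻¹ * h * g) v) = ρ h (ρ g v) := by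
  rw [C.ρ_mul, C.ρ_mul, C.ρ_apply_inv]

/-- the conjugate configuration -/
theorem conj (C : Cfg ρ b q a D X w) (g : H) : Cfg ρ b q (ρ g a) (cD ρ g D) (cX g X) w where
  inj := C.inj
  five := C.five
  card_V := C.card_V
  b_self := C.b_self
  nondeg := C.nondeg
  q_add := C.q_add
  q_inv := C.q_inv
  irr := C.irr
  a_ne := by
    intro h
    apply C.a_ne
    apply C.ρ_inj g
    rw [h, map_zero]
  a_mem := ⟨a, C.a_mem, rfl⟩
  q_D := by
    rintro _ ⟨d, hd, rfl⟩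
    show q (ρ g d) = 0
    rw [C.q_inv]
    exact C.q_D d hd
  card_D := by
    rw [← C.card_D]
    exact (Nat.card_congr ((ρ g).submoduleMap D).toEquiv).symm
  D_inv := by
    rintro h hh _ ⟨d, hd, rfl⟩
    refine ⟨ρ (g⁻¹ * h * g) d, ?_, act' C g h d⟩
    apply C.D_inv _ _ d hd
    apply C.ρ_inj g
    rw [act' C]
    exact hh
  X_sq := by
    rintro _ ⟨x, hx, rfl⟩
    show g * x * g⁻¹ * (g * x * g⁻¹) = 1
    have : g * x * g⁻¹ * (g * x * g⁻¹) = g * (x * x) * g⁻¹ := by group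
    rw [this, C.X_sq x hx]; group
  X_norm := by
    rintro h hh _ ⟨x, hx, rfl⟩
    have h1 : ρ (g⁻¹ * h * g) a = a := by
      apply C.ρ_inj g
      rw [act' C]
      exact hh
    refine ⟨_, C.X_norm _ h1 x hx, ?_⟩
    show g * (g⁻¹ * h * g * x * (g⁻¹ * h * g)⁻¹) * g⁻¹ = h * (g * x * g⁻¹) * h⁻¹
    group
  card_X := by
    rw [← C.card_X]
    exact (Nat.card_congr (X.equivMapOfInjective _ (MulAut.conj g).injective).toEquiv).symm
  X_D := by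
    rintro _ ⟨x, hx, rfl⟩ _ ⟨d, hd, rfl⟩
    rcases C.X_D x hx d hd with h | h
    · left
      show ρ (g * x * g⁻¹) (ρ g d) = ρ g d
      rw [act C, h]
    · right
      show ρ (g * x * g⁻¹) (ρ g d) = ρ g d + ρ g a
      rw [act C, h, map_add]
  X_perp := by
    rintro _ ⟨x, hx, rfl⟩ v hv
    refine ⟨ρ x (ρ g⁻¹ v) + ρ g⁻¹ v, ?_, ?_⟩
    · apply C.X_perp x hx
      rw [← C.b_inv g, C.ρ_apply_inv]
      exact hv
    · show ρ g (ρ x (ρ g⁻¹ v) + ρ g⁻¹ v) = ρ (g * x * g⁻¹) v + v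
      rw [map_add, C.ρ_apply_inv, C.ρ_mul, C.ρ_mul]
  X_all := by
    intro φ hφ
    obtain ⟨x, hx, h⟩ := C.X_all (φ.comp (ρ g : V →ₗ[ZMod 2] V)) hφ
    refine ⟨g * x * g⁻¹, conj_mem_cX hx, ?_⟩
    rintro _ ⟨d, hd, rfl⟩
    show ρ (g * x * g⁻¹) (ρ g d) = ρ g d + φ (ρ g d) • ρ g a
    rw [act C, h d hd, map_add, map_smul]
    rfl
  X_semi := by
    rintro _ ⟨x, hx, rfl⟩ v hv ⟨d, hd, h⟩
    have h1 : x = 1 := by
      apply C.X_semi x hx (ρ g⁻¹ v)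
      · rw [← C.b_inv g, C.ρ_apply_inv]; exact hv
      · have : ρ x (ρ g⁻¹ v) + ρ g⁻¹ v = d := by
          apply C.ρ_inj g
          rw [map_add, C.ρ_apply_inv]
          have h2 : ρ g d = ρ (g * x * g⁻¹) v + v := h
          rw [h2, C.ρ_mul, C.ρ_mul]
        rw [this]; exact hd
    show g * x * g⁻¹ = 1
    rw [h1]; group
  X_T := by
    rintro _ ⟨x, hx, rfl⟩ hx1
    have h1 : x ≠ 1 := by
      rintro rfl
      apply hx1
      show g * 1 * g⁻¹ = 1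
      group
    obtain ⟨v, hv, h2, h3⟩ := C.X_T x hx h1
    refine ⟨ρ g v, ?_, ?_, ?_⟩
    · rw [C.b_inv]; exact hv
    · show ρ (g * x * g⁻¹) (ρ g v) + ρ g v ≠ 0
      rw [act C, ← map_add]
      intro h
      apply h2
      apply C.ρ_inj g
      rw [h, map_zero]
    · show ρ (g * x * g⁻¹) (ρ g v) + ρ g v ≠ ρ g a
      rw [act C, ← map_add]
      intro h
      exact h3 (C.ρ_inj g h)

end Cfsg.Agent.Omega.EH3.Conj
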