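import Cfsg.Agent.Omega.EH3.Row
import Cfsg.Agent.Omega.EH3.NodeHom
import Cfsg.Agent.S0102
import Cfsg.Agent.S0262
import Cfsg.Prelude.Def_LieTypeChar

/-!
# The rows `L₂(q)`, `q = 2^n ≥ 8`, of EH3 (helper796)

* `Cfg.eq_bot_of_fix` : a normal subgroup fixing `a` is trivial;
* `false_of_gen` : a nontrivial normal subgroup generated by subgroups fixing `a`;
* `OddCover.injective_sl` : an odd cover of `SL(2, 2^n)` is injective (`S0102`, `S0262`);
* `row_sl` : `RowEH3 K` for `K ≅ SL(2, F)`, `F` finite of characteristic 2, `|F| ≥ 8`; `row_psl` : `K ≅ PSL(2, F)`.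
-/

set_option autoImplicit false

namespace Cfsg.Agent.Omega.EH3

open Subgroup TwoF

universe u v w

/-- a normal subgroup fixing `a` is trivial -/
theorem Cfg.eq_bot_of_fix {H V : Type*} [Group H] [AddCommGroup V] [Module (ZMod 2) V]
    {ρ : H →* (V ≃ₗ[ZMod 2] V)} {b : LinearMap.BilinForm (ZMod 2) V} {q : V → ZMod 2}
    {a : V} {D : Submodule (ZMod 2) V} {X : Subgroup H} {w : ℕ} (C : Cfg ρ b q a D X w)
    {N : Subgroup H} (hN : N.Normal) (hfix : ∀ n ∈ N, ρ n a = a) : N = ⊥ := by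
  have hinv : ∀ h, ∀ u ∈ C.fixV N, ρ h u ∈ C.fixV N := by
    intro h u hu n hn
    have h1 := hu _ (hN.conj_mem n hn h⁻¹)
    have h2 : ρ (h * (h⁻¹ * n * h⁻¹⁻¹)) u = ρ (n * h) u := by congr 2; group
    rw [← C.ρ_mul, ← h2, C.ρ_mul, h1]
  rcases C.irr _ hinv with h | h
  · exfalso
    apply C.a_ne
    have : a ∈ C.fixV N := hfix
    rw [h] at this
    exact this
  · rw [eq_bot_iff]
    intro n hn
    rw [Subgroup.mem_bot]
    apply C.ext
    intro u
    have : u ∈ C.fixV N := by rw [h]; trivial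
    rw [this n hn, C.ρ_one]

section

variable {F : Type*} [Field F]

/-- a perfect group cannot be an odd cover of `SL(2, 2^n)` with nontrivial kernel -/
theorem injective_of_oddCover_sl [Finite F] [CharP F 2] {L : Type*} [Group L] [Finite L]
    {π : L →* Matrix.SpecialLinearGroup (Fin 2) F} (hπ : OddCover π) : Function.Injective π := by
  have : Fintype F := Fintype.ofFinite F
  have : Fact (Nat.Prime 2) := ⟨Nat.prime_two⟩
  rw [← MonoidHom.ker_eq_bot_iff]
  by_contra hne
  have h1 : Nat.card π.ker ≠ 1 := by rwa [Ne, Subgroup.card_eq_one]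
  obtain ⟨p, hp, hdvd⟩ := Nat.exists_prime_and_dvd h1
  have : Fact p.Prime := ⟨hp⟩
  have hp2 : p ≠ 2 := by
    rintro rfl
    exact (Nat.not_even_iff_odd.2 hπ.odd) (even_iff_two_dvd.2 hdvd)
  have hG : commutator (Matrix.SpecialLinearGroup (Fin 2) F) = ⊤ := by
    rw [eq_top_iff]
    intro g _
    obtain ⟨x, rfl⟩ := hπ.surj g
    have hx : x ∈ commutator L := by rw [hπ.perf]; trivial
    rw [commutator_def] at hx ⊢
    have h2 := Subgroup.mem_map_of_mem π hx
    rw [Subgroup.map_commutator] at h2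
    exact Subgroup.commutator_mono le_top le_top h2
  exact Cfsg.Agent.S0102.result hG (p := p)
    (fun P => Cfsg.Agent.S0262.result 2 p hp2 hp2 P) π hπ.surj hπ.cent hπ.perf hdvd

/-- **The row `L₂(q)`, `q = 2^n ≥ 8`.** -/
theorem row_sl [Finite F] [CharP F 2] (h8 : 8 ≤ Nat.card F) {K : Type v} [Group K]
    (e : K ≃* Matrix.SpecialLinearGroup (Fin 2) F) : RowEH3.{u} K := by
  intro H V _ _ _ ρ b q a D X w L π hL hπ hX C
  have := C.finite_H
  have hπ' : OddCover (e.toMonoidHom.comp π) := hπ.comp e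
  have hinj := injective_of_oddCover_sl hπ'
  obtain ⟨S, -, hS⟩ := C.exists_syl
  have hfix := fix_of_syl C (E := L) S hS (fun s _ l hl => hL.conj_mem l hl s) _ hπ'.surj
    (by
      have : (e.toMonoidHom.comp π).ker = ⊥ := (MonoidHom.ker_eq_bot_iff _).2 hinj
      rw [this]
      exact IsPGroup.of_bot) h8
  have hbot := C.eq_bot_of_fix hL hfix
  -- `SL(2, F)` would be trivial
  obtain ⟨x, hx⟩ := hπ'.surj (uni (1 : F))
  have hx1 : x = 1 := by
    have h1 : (x : H) ∈ (⊥ : Subgroup H) := hbot.le x.2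
    exact Subtype.ext (mem_bot.1 h1)
  rw [hx1, map_one] at hx
  have := congrArg (fun m : Matrix.SpecialLinearGroup (Fin 2) F => m.1 0 1) hx
  simp only [uni_01, one_01] at this
  exact one_ne_zero this.symm

/-- in characteristic 2 the centre of `SL(2, F)` is trivial -/
theorem center_sl [CharP F 2] : center (Matrix.SpecialLinearGroup (Fin 2) F) = ⊥ := by
  rw [eq_bot_iff]
  intro g hg
  rw [mem_center_iff] at hg
  rw [mem_bot]
  have h1 := hg (uni 1)
  let v : Matrix.SpecialLinearGroup (Fin 2) F := ⟨!![1, 0; 1, 1], by simp [Matrix.det_fin_two]⟩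
  have h2 := hg v
  have a1 := congrArg (fun m : Matrix.SpecialLinearGroup (Fin 2) F => m.1 0 0) h1
  have a2 := congrArg (fun m : Matrix.SpecialLinearGroup (Fin 2) F => m.1 0 1) h1
  have b1 := congrArg (fun m : Matrix.SpecialLinearGroup (Fin 2) F => m.1 0 0) h2
  simp only [sl_mul, uni_00, uni_01, uni_10, uni_11] at a1 a2
  simp only [sl_mul, show v.1 0 0 = 1 from rfl, show v.1 0 1 = 0 from rfl, show v.1 1 0 = 1 from rfl,
    show v.1 1 1 = 1 from rfl] at b1
  have h10 : g.1 1 0 = 0 := by linear_combination a1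
  have h01 : g.1 0 1 = 0 := by linear_combination -b1
  have h00 : g.1 0 0 = g.1 1 1 := by linear_combination -a2
  have hdet := sl_det g
  rw [h10, h00, mul_zero, sub_zero] at hdet
  have h4 : g.1 1 1 = 1 := by
    have h5 : (g.1 1 1 - 1) * (g.1 1 1 - 1) = 0 := by
      have h2 : (2 : F) = 0 := CharTwo.two_eq_zero
      linear_combination hdet + (1 - g.1 1 1) * h2
    have h6 := mul_self_eq_zero.1 h5
    linear_combination h6
  exact sl_ext (by rw [h00, h4]; rfl) (by rw [h01]; rfl) (by rw [h10]; rfl) (by rw [h4]; rfl)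

/-- `SL(2, F) ≅ PSL(2, F)` in characteristic 2 -/
noncomputable def slEquivPsl (F : Type*) [Field F] [CharP F 2] :
    Matrix.SpecialLinearGroup (Fin 2) F ≃* Matrix.ProjectiveSpecialLinearGroup (Fin 2) F :=
  MulEquiv.ofBijective (QuotientGroup.mk' _) ⟨by
    rw [← MonoidHom.ker_eq_bot_iff, QuotientGroup.ker_mk']
    exact center_sl, QuotientGroup.mk'_surjective _⟩

theorem row_psl [Finite F] [CharP F 2] (h8 : 8 ≤ Nat.card F) {K : Type v} [Group K]
    (e : K ≃* Matrix.ProjectiveSpecialLinearGroup (Fin 2) F) : RowEH3.{u} K :=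
  row_sl h8 (e.trans (slEquivPsl F).symm)

end

end Cfsg.Agent.Omega.EH3
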