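import Cfsg.Agent.Omega.EH3.Main

/-!
# EH3: the situation [2d] for another commuting conjugate (helper807)

* `mk_sit` : every `Pair Q z A a` over an irreducible large `Q`, `w ≥ 5`, is in the situation [2d];
* `Sit.other` : `Sit Q A z a w` and `p' : Pair Q z A' a'` give `Sit Q A' z a' w`;
* `Sit.hall` : the form consumed by `EH3Close.QQ.hadj`.
-/

set_option autoImplicit false

namespace Cfsg.Agent.Omega.EH3.Main

open Cfsg Subgroup Cfsg.Agent.Co2Type.Quad Cfsg.Agent.LargeExtra Cfsg.Agent.LargeExtra.Base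
open Cfsg.Agent.LargeExtra.SiegelOrbit (O2)
open Cfsg.Agent.LargeExtra.SiegFam.Inst (AllSg Irr)
open Cfsg.Agent.Omega.Frame (Ctx Cls All)

universe u

variable {G : Type u} [Group G] [Finite G] {Q A : Subgroup G} {z a : G} {w : ℕ}

/-- Every pair is in the situation [2d]. -/
theorem mk_sit (hG : Ctx G) (hw : 5 ≤ w) (p : Pair Q z A a) (hO' : O2 p.lz) (hcQ : Nat.card Q = 2 ^ (2 * w + 1))
    (hcV' : Nat.card p.lz.V = 2 ^ (2 * w)) (hirr' : IrrC p.lz) : Sit Q A z a w := by
  have hbig : 2 ^ 11 ≤ Nat.card Q := by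
    rw [hcQ]
    exact Nat.pow_le_pow_right (by norm_num) (by omega)
  have hI : Irr p := by
    intro R hR hinv
    rcases hirr' R (fun c v hv => hinv _ ⟨c, rfl⟩ v hv) with h1 | h1
    · exact h1
    · exfalso
      apply p.va_ne
      apply p.lz.b_nondeg
      intro v
      have h2 := p.lz.q_add' p.va v
      rw [hR _ (h1 ▸ trivial), hR _ (h1 ▸ trivial), hR _ (h1 ▸ trivial), zero_add, zero_add] at h2
      exact h2.symm
  have hidx : ∀ N : Subgroup G, N.index ≠ 2 := by
    have := hG.simple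
    exact fun N => WCIrr.index_ne_two (Start.exists_ne' hG) N
  have hfinD : Finite p.D := Finite.of_injective _ Subtype.val_injective
  have hD4 : 4 ≤ Nat.card p.D := by
    have h1 : Nat.card p.D ≠ 2 := fun h => TwoA.false_of_pair p hO' hbig h
    obtain ⟨k, hk⟩ : ∃ k : ℕ, Nat.card p.D = 2 ^ k := by
      have hfd : Module.Finite (ZMod 2) p.D := Module.Finite.of_finite
      exact ⟨Module.finrank (ZMod 2) p.D, by
        rw [Module.natCard_eq_pow_finrank (K := ZMod 2) (V := p.D), Nat.card_zmod]⟩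
    have h2 : 1 < Nat.card p.D := by
      rw [Finite.one_lt_card_iff_nontrivial]
      exact ⟨⟨p.va, p.va_mem_D⟩, 0, fun h => p.va_ne (congrArg Subtype.val h)⟩
    rcases Nat.lt_or_ge k 2 with h3 | h3
    · interval_cases k
      · rw [hk] at h2; omega
      · exact absurd hk h1
    · rw [hk]
      calc 4 = 2 ^ 2 := by norm_num
        _ ≤ 2 ^ k := Nat.pow_le_pow_right (by norm_num) h3
  have hfr : 8 ≤ Module.finrank (ZMod 2) p.lz.V := by
    have hfd : Module.Finite (ZMod 2) p.lz.V := Module.Finite.of_finite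
    have h1 := Module.natCard_eq_pow_finrank (K := ZMod 2) (V := p.lz.V)
    rw [hcV', Nat.card_zmod] at h1
    have h2 := Nat.pow_right_injective (le_refl 2) h1
    have h3 : 2 * w = Module.finrank (ZMod 2) p.lz.V := h2
    omega
  have hA : ¬ AllSg p := fun hS => WideIrr.SgKill.false_of_allSg hidx p hfr hI hS hD4
  have hRR := TCL.pair_RR p hirr' hA
  exact ⟨hG, hw, p, hO', hcQ, hirr', TCL.card_D p hirr' hRR hcQ, TCL.noSg p hirr' hRR⟩

/-- **The situation [2d] for another commuting conjugate of `z`.** -/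
theorem Sit.other (S : Sit Q A z a w) {A' : Subgroup G} {a' : G} (p' : Pair Q z A' a') : Sit Q A' z a' w :=
  mk_sit S.ctx S.five p' S.o2 S.card_Q S.cfg.card_V S.irr

theorem Sit.hall (S : Sit Q A z a w) (A' : Subgroup G) (a' : G) (p' : Pair Q z A' a') :
    ∃ w' : ℕ, Cfg (p'.H.subtype : p'.H →* (p'.lz.V ≃ₗ[ZMod 2] p'.lz.V)) p'.lz.b p'.lz.q p'.va p'.D
      (p'.X.subgroupOf p'.H) w' :=
  ⟨w, (S.other p').cfg⟩

end Cfsg.Agent.Omega.EH3.Main
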