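import Cfsg.Agent.Omega.EH3.Main
import Cfsg.Agent.Omega.EH3.Kf.Table
import Cfsg.Agent.Omega.EH3Close.Close
import Cfsg.Agent.Omega.All.Main

/-!
# EH3: the row of the groups of Lie type in characteristic 2 (helper807)

* `exists_syl` : `z` is central in a Sylow 2-subgroup;
* `CloseLoc` : the closing theorem (helper805): all members of `L(P)` normalise `⟨A, MM p L⟩`;
* `rowLie` : the row, from the table of the families (`Kf.Table.Rows`, helper227 and others), the case `w = 6`,
  `End_L(V) = F₄` (`Kf.Main.End6`, helper415), `CloseLoc`, `NodeI` and Bender's theorem.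
-/

set_option autoImplicit false

namespace Cfsg.Agent.Omega.EH3.RowLie

open Subgroup Cfsg Cfsg.Agent.Co2Type.Quad Cfsg.Agent.LargeExtra Cfsg.Agent.LargeExtra.Base
open Cfsg.Agent.Omega.Frame (Ctx Cls All Bender NodeIK)
open Cfsg.Agent.Omega.MinPar (IsLoc)
open Cfsg.Agent.Omega.EH3.Main Cfsg.Agent.Omega.EH3Close
open Cfsg.Agent.ChevalleyStructure.CoxeterGeom

universe u

/-- `z` is central in a Sylow 2-subgroup. -/
theorem exists_syl {G : Type*} [Group G] [Finite G] {Q : Subgroup G} {z : G} (h : Large Q z) :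
    ∃ P : Sylow 2 G, (P : Subgroup G) ≤ centralizer ({z} : Set G) := by
  obtain ⟨P, hP⟩ := (isPGroup h).exists_le_sylow
  refine ⟨P, ?_⟩
  have hn : Nontrivial (P : Subgroup G) :=
    ⟨⟨⟨z, hP h.z_mem⟩, 1, fun e => h.z_ne (congrArg Subtype.val e)⟩⟩
  have hc : Nontrivial (center (P : Subgroup G)) := P.isPGroup'.center_nontrivial
  obtain ⟨c, hc1⟩ := exists_ne (1 : center (P : Subgroup G))
  have hcom : ∀ x ∈ (P : Subgroup G), ((c : (P : Subgroup G)) : G) * x = x * ((c : (P : Subgroup G)) : G) := by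
    intro x hx
    exact (congrArg Subtype.val (mem_center_iff.1 c.2 ⟨x, hx⟩)).symm
  have h1 : ((c : (P : Subgroup G)) : G) ∈ Q :=
    h.self _ (hcom z (hP h.z_mem)) fun x hx => hcom x (hP hx)
  have h2 : ((c : (P : Subgroup G)) : G) = z := by
    rcases h.cent _ h1 fun y hy => hcom y (hP hy) with h3 | h3
    · exact absurd (Subtype.ext (Subtype.ext h3)) hc1
    · exact h3
  intro x hx
  rw [mem_centralizer_singleton_iff, ← h2]
  exact (hcom x hx).symm

/-- **The closing theorem** (helper805): all members of `L(P)` normalise `⟨A, MM p L⟩`. -/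
def CloseLoc : Prop :=
  ∀ (G : Type u) [Group G] [Finite G] (Q A : Subgroup G) (z a : G) (w : ℕ) (S : Sit Q A z a w) (l : ℕ)
    (M : CoxeterMatrix (Fin l)) (q : Fin l → ℕ) (i : Fin l) (A' : Fin l → Fin l → ℤ) (h : IsCartan M A')
    (L : Subgroup S.pair.H) (T : Subgroup L) (n : Fin l → L) (X : (Fin l → ℤ) → Subgroup L),
    Fin4.At S.pair q i h L T n X → ∀ P : Sylow 2 G, (P : Subgroup G) ≤ centralizer ({z} : Set G) →
      ∀ M' : Subgroup G, IsLoc (P : Subgroup G) M' →
        M' ≤ normalizer ((A ⊔ Glue.MM S.pair L : Subgroup G) : Set G)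

/-- **The row of the groups of Lie type in characteristic 2.** -/
theorem rowLie {K : Cls.{u}} (R : Kf.Table.Rows.{u}) (e6 : Kf.Main.End6.{u} (fun K _ => IsLieTypeChar 2 K))
    (hc : CloseLoc.{u}) (hB : Bender.{u}) (h1 : NodeIK K) : RowG K (fun X _ _ => IsLieTypeChar 2 X) := by
  intro G _ _ hK Q A z a w S L hLn hLq hLo hX hP
  have := S.ctx.simple
  have F := Kf.Table.four_lie R e6 S.cfg hLn hLq hLo hX hP
  obtain ⟨l, M, q, i, A', h, L', T, n, X, D⟩ := Fin4.exists_at F
  obtain ⟨P, hPz⟩ := exists_syl S.pair.lz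
  have hloc := hc G Q A z a w S l M q i A' h L' T n X D P hPz
  by_cases hY : normalizer ((A ⊔ Glue.MM S.pair L' : Subgroup G) : Set G) = ⊤
  · have hn : (A ⊔ Glue.MM S.pair L').Normal := normalizer_eq_top_iff.1 hY
    refine D.known_of_top S.cfg (hn.eq_bot_or_eq_top.resolve_left fun h0 => ?_)
    have h2 : z ∈ A ⊔ Glue.MM S.pair L' := mem_sup_left S.pair.z_mem
    rw [h0, mem_bot] at h2
    exact S.pair.lz.z_ne h2
  · exact Cfsg.Agent.Omega.All.known_of_loc_le hB h1 S.ctx hK P hY hloc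

end Cfsg.Agent.Omega.EH3.RowLie
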