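import Cfsg.Agent.Omega.EH3.Plug
import Cfsg.Agent.Omega.EH3.CLDone
import Cfsg.Agent.Omega.EH3.RowLie
import Cfsg.Agent.Omega.EH3.Other
import Cfsg.Agent.Omega.EH3.Kf.TableAll
import Cfsg.Agent.Omega.EH3.ESix.Main
import Cfsg.Agent.Omega.EH3.UFour.Row
import Cfsg.Agent.Omega.EH3.CoTwo.Close
import Cfsg.Agent.Omega.EH3.RowS.Assemble
import Cfsg.Agent.Omega.EH3Close.Closing
import Cfsg.Agent.Omega.TwoF.RowsDone
import Cfsg.Agent.Omega.SQ1.NodeI
import Cfsg.Agent.StrongEmb.Strong

/-!
# EH3: `LeafEH3 K` for every class `K` (helper807)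

`leaf : LeafEH3 K`, from: `CL` (helper291, helper947), TABLE 2F (helper333 and others), the rows of the groups of Lie
type in characteristic 2 (helper227, helper415 and others; closing theorem: helper805, helper635), `U₄(3)`
(helper586), `M₂₂` (helper893), `Co₁` (helper586), `Co₂` (helper665), the row `S` (helper73, helper754, helper888,
helper165), NODE I (helper603), Bender's theorem.
-/

set_option autoImplicit false

namespace Cfsg.Agent.Omega.EH3.Final

open Subgroup Cfsg
open Cfsg.Agent.Omega.Frame (Ctx Cls All)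
open Cfsg.Agent.Omega.EH3.Main

universe u

/-- What is missing for `LeafEH3`: nothing (the name is kept for `Top/Open.lean`). -/
structure Open (K : Cls.{u}) : Prop

theorem bender : Frame.Bender.{u} := fun _ _ _ _ hna H hH => StrongEmb.Strong.result hna H hH

/-- the closing theorem (helper805) in the form of `RowLie.lean` -/
theorem closeLoc : RowLie.CloseLoc.{u} := fun _ _ _ _ _ _ _ _ S _ _ _ _ _ _ _ _ _ _ D P hP _ hM =>
  EH3Close.Closing.loc_le S.ctx.char2 S.cfg S.hall D P hP hM

/-- **The groups of Lie type in characteristic 2.** -/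
theorem rowLie (K : Cls.{u}) : RowG K (fun X _ _ => IsLieTypeChar 2 X) :=
  RowLie.rowLie Kf.TableAll.rows ESix.Main.e6 closeLoc bender SQ1.NodeI.nodeI.toK

/-- **LeafEH3.** -/
theorem leaf (K : Cls.{u}) : FrameExtra.LeafEH3 K :=
  Plug.Open.leaf
    { uniq := CLDone.unique
      table := TwoF.RowsDone.rows
      lie := rowLie K
      u43 := UFour.Row.rowG
      co2 := RowG.of_all CoTwo.Close.rowG
      rowS := RowS.Assemble.rowS K }

theorem Open.leaf {K : Cls.{u}} (_ : Open K) : FrameExtra.LeafEH3 K := Final.leaf K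

/-- nothing is missing -/
theorem isOpen (K : Cls.{u}) : Open K := ⟨⟩

end Cfsg.Agent.Omega.EH3.Final
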