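import Cfsg.Agent.Omega.EH3.Main
import Cfsg.Agent.Omega.EH3.CLPlug
import Cfsg.Agent.Omega.W5.Rows
import Cfsg.Agent.Omega.SQT.Main

/-!
# EH3 for the strongly quasithin groups (helper807)

`leafQK` : `LeafEH3 QK` from the uniqueness of the component (helper291), the rows `RowsW5` (helper423 and others),
the list of the strongly quasithin known simple groups (`SQK.Frame.Rows`, helper690), the row `M₂₂` (helper893) and
the `S₃`-case.
-/

set_option autoImplicit false

namespace Cfsg.Agent.Omega.EH3.LeafQK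

open Subgroup Cfsg
open Cfsg.Agent.Omega.Frame (Ctx Cls All)
open Cfsg.Agent.Omega.EH3.Main Cfsg.Agent.Omega.SQT.Main

universe u

/-- the table for `QK` -/
theorem rowG_known (hsec : Quasithin.Sec.{u}) (Rk : SQK.Frame.Rows.{u}) (R : W5.Rows.RowsW5.{u})
    (m22 : RowG QK.{u} (fun X _ _ => Spor.IsoM22 X)) : RowG QK.{u} (fun X _ _ => IsKnownSimple' X) := by
  intro G _ _ hK Q A z a w S L hLn hLq hLo h4 hP
  have := S.cfg.finite_H
  obtain ⟨hsimple, hna⟩ := simple_of_quasisimple hLq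
  have h1 : Quasithin.StrQ S.pair.H := W5.Rows.strQ_H S.pair hK
  have h2 : Quasithin.StrQ (L ⧸ center L) := W5.Rows.strQ_quot hsec h1 L (center L) hsimple hna
  have h3 : SQK.Frame.SQK (L ⧸ center L) := SQK.Frame.sqk_of_known Rk hsimple hna hP h2
  rcases W5.Rows.out R h3 with h | h
  · exact m22 G hK _ _ _ _ _ S L hLn hLq hLo h4 h
  · exact (h _ _ _ _ _ _ _ _ _ L _ hLn (oddCover_mk (commutator_eq_top hLq) hLo) h4 S.cfg).elim

/-- **`LeafEH3` for the strongly quasithin groups.** -/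
theorem leafQK (hu : CLPlug.Unique.{u}) (hsec : Quasithin.Sec.{u}) (Rk : SQK.Frame.Rows.{u})
    (R : W5.Rows.RowsW5.{u}) (m22 : RowG QK.{u} (fun X _ _ => Spor.IsoM22 X)) (hs : RowS QK.{u}) :
    FrameExtra.LeafEH3 QK.{u} :=
  leafEH3 (CLPlug.cl_of hu) (rowG_known hsec Rk R m22) hs

end Cfsg.Agent.Omega.EH3.LeafQK
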