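import Mathlib

/-!
# Theorem PERM (bb #12321): orbits with a 2-group transitive on the rest (helper324)

`P` acts on an additive group `V` of exponent 2, `a : V`, `T ≤ P` is a 2-group fixing `a` and transitive on
`Ω ∖ {a}`, `Ω = P a ≠ {a}`.
* `indep`: `Ω ∖ {a}` is linearly independent over `F₂`.
* `sum_orbit`: if `C_V(X) ⊆ {0, a}` for some `X ≤ P` then `∑ Ω = 0`, i.e. `∑ (Ω ∖ {a}) = a`.
* `trans`: if moreover `X` fixes `a` then `X` is transitive on `Ω ∖ {a}`.
* `card_le`: if moreover `X` is elementary abelian and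
  `[V, X, X, X, X] = 0` then `|Ω ∖ {a}| ≤ 8`; if `[Ω ∖ {a}, X, X, X] = 0` then `|Ω ∖ {a}| ≤ 4`.
-/

set_option autoImplicit false

namespace Cfsg.Agent.Omega.EH3.Perm

open scoped Classical symmDiff
open MulAction

variable {P V : Type*} [Group P] [AddCommGroup V] [DistribMulAction P V]

/-- The points different from `a`. -/
def Pts (P : Type*) {V : Type*} [Group P] [AddCommGroup V] [DistribMulAction P V] (a : V) : Set V :=
  {b | (∃ g : P, g • a = b) ∧ b ≠ a}

/-- The situation of Theorem PERM. -/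
structure Sit (T : Subgroup P) (a : V) : Prop where
  two : ∀ v : V, v + v = 0
  pg : IsPGroup 2 T
  fix : ∀ t ∈ T, t • a = a
  tr : ∀ b ∈ Pts P a, ∀ c ∈ Pts P a, ∃ t ∈ T, t • b = c
  mov : ∃ g : P, g • a ≠ a

variable {T : Subgroup P} {a : V}

theorem Sit.ne_zero (h : Sit T a) : a ≠ 0 := by
  rintro rfl
  obtain ⟨g, hg⟩ := h.mov
  exact hg (smul_zero g)

theorem sum_smul (g : P) (S : Finset V) :
    ∑ b ∈ S.image (fun v => g • v), b = g • ∑ b ∈ S, b := by
  rw [Finset.sum_image, Finset.smul_sum]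
  intro x _ y _ hxy
  exact MulAction.injective g hxy

theorem sum_symmDiff (h2 : ∀ v : V, v + v = 0) (S S' : Finset V) :
    ∑ b ∈ S ∆ S', b = ∑ b ∈ S, b + ∑ b ∈ S', b := by
  have h1 : ∑ b ∈ S, b = ∑ b ∈ S \ S', b + ∑ b ∈ S ∩ S', b := by
    rw [← Finset.sum_union (Finset.disjoint_sdiff_inter S S'), Finset.sdiff_union_inter]
  have h3 : ∑ b ∈ S', b = ∑ b ∈ S' \ S, b + ∑ b ∈ S ∩ S', b := by
    rw [Finset.inter_comm, ← Finset.sum_union (Finset.disjoint_sdiff_inter S' S),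
      Finset.sdiff_union_inter]
  have h4 : ∑ b ∈ S ∆ S', b = ∑ b ∈ S \ S', b + ∑ b ∈ S' \ S, b := by
    rw [Finset.symmDiff_def, Finset.sum_union disjoint_sdiff_sdiff]
  rw [h1, h3, h4, add_add_add_comm, h2, add_zero]

theorem smul_mem_Pts (g : P) (hg : g • a = a) {b : V} (hb : b ∈ Pts P a) : g • b ∈ Pts P a := by
  obtain ⟨⟨x, rfl⟩, hx⟩ := hb
  refine ⟨⟨g * x, mul_smul g x a⟩, fun h => hx ?_⟩
  have h1 : g • x • a = g • a := h.trans hg.symm
  exact MulAction.injective g h1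

/-- `∑ Ω` is fixed by `P`. -/
theorem smul_sum_orbit [Finite V] (g : P) :
    g • ∑ b ∈ (orbit P a).toFinite.toFinset, b = ∑ b ∈ (orbit P a).toFinite.toFinset, b := by
  rw [← sum_smul]
  congr 1
  ext b
  simp only [Finset.mem_image, Set.Finite.mem_toFinset]
  constructor
  · rintro ⟨c, hc, rfl⟩
    obtain ⟨x, rfl⟩ := mem_orbit_iff.1 hc
    exact ⟨g * x, mul_smul g x a⟩
  · intro hb
    obtain ⟨x, rfl⟩ := mem_orbit_iff.1 hb
    refine ⟨g⁻¹ • x • a, ⟨g⁻¹ * x, mul_smul _ x a⟩, smul_inv_smul g _⟩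

theorem orbit_eq [Finite V] :
    (orbit P a).toFinite.toFinset = insert a (Pts P a).toFinite.toFinset := by
  ext b
  simp only [Set.Finite.mem_toFinset, Finset.mem_insert]
  constructor
  · intro hb
    obtain ⟨x, rfl⟩ := mem_orbit_iff.1 hb
    by_cases h : x • a = a
    · exact Or.inl h
    · exact Or.inr ⟨⟨x, rfl⟩, h⟩
  · rintro (rfl | ⟨⟨x, rfl⟩, -⟩)
    · exact mem_orbit_self _
    · exact mem_orbit _ _

theorem sum_orbit_eq [Finite V] :
    ∑ b ∈ (orbit P a).toFinite.toFinset, b = a + ∑ b ∈ (Pts P a).toFinite.toFinset, b := by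
  rw [orbit_eq, Finset.sum_insert]
  rw [Set.Finite.mem_toFinset]
  exact fun h => h.2 rfl

/-- **PERM (1)**: `Ω ∖ {a}` is linearly independent. -/
theorem Sit.indep [Finite V] (h : Sit T a) (S : Finset V) (hS : ∀ b ∈ S, b ∈ Pts P a)
    (h0 : ∑ b ∈ S, b = 0) : S = ∅ := by
  by_contra hne
  let α := {S : Finset V // (∀ b ∈ S, b ∈ Pts P a) ∧ ∑ b ∈ S, b = 0}
  let act : MulAction T α :=
    { smul := fun t S => ⟨S.1.image (fun v => (t : P) • v), by
        intro b hb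
        obtain ⟨c, hc, rfl⟩ := Finset.mem_image.1 hb
        exact smul_mem_Pts _ (h.fix t t.2) (S.2.1 c hc), by
        rw [sum_smul, S.2.2, smul_zero]⟩
      one_smul := by
        intro S
        apply Subtype.ext
        show S.1.image (fun v => ((1 : T) : P) • v) = S.1
        simp
      mul_smul := by
        intro t u S
        apply Subtype.ext
        show S.1.image (fun v => ((t * u : T) : P) • v)
          = (S.1.image (fun v => (u : P) • v)).image (fun v => (t : P) • v)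
        rw [Finset.image_image]
        congr 1
        funext v
        simp [mul_smul] }
  have hfin : Finite α := inferInstance
  have : Fintype α := Fintype.ofFinite α
  have heven : 2 ∣ Nat.card α := by
    have h1 : ((Fintype.card α : ℕ) : ZMod 2) = 0 := by
      have := Finset.sum_involution (s := (Finset.univ : Finset α)) (f := fun _ => (1 : ZMod 2))
        (fun R _ => (⟨R.1 ∆ S, by
          intro b hb
          rcases Finset.mem_symmDiff.1 hb with hb | hb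
          · exact R.2.1 b hb.1
          · exact hS b hb.1, by rw [sum_symmDiff h.two, R.2.2, h0, add_zero]⟩ : α))
        (fun _ _ => by decide) (fun R _ _ hR => hne (by
          have : R.1 ∆ S = R.1 := congrArg Subtype.val hR
          have h5 := congrArg (fun X => R.1 ∆ X) this
          simpa [symmDiff_symmDiff_cancel_left] using h5)) (fun _ _ => Finset.mem_univ _)
        (fun R _ => Subtype.ext (by
          show (R.1 ∆ S) ∆ S = R.1
          rw [symmDiff_assoc, symmDiff_self, symmDiff_bot]))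
      simpa using this
    rw [Nat.card_eq_fintype_card]
    exact (ZMod.natCast_eq_zero_iff _ _).1 h1
  have hfix0 : (⟨∅, by simp, by simp⟩ : α) ∈ fixedPoints T α := by
    intro t
    apply Subtype.ext
    show (∅ : Finset V).image (fun v => (t : P) • v) = ∅
    simp
  have : Fact (Nat.Prime 2) := ⟨Nat.prime_two⟩
  obtain ⟨R, hR, hR0⟩ := h.pg.exists_fixed_point_of_prime_dvd_card_of_fixed_point α heven hfix0
  have hRne : R.1.Nonempty := by
    rw [Finset.nonempty_iff_ne_empty]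
    intro he
    exact hR0 (Subtype.ext he.symm)
  obtain ⟨c, hc⟩ := hRne
  have hall : R.1 = (Pts P a).toFinite.toFinset := by
    ext b
    rw [Set.Finite.mem_toFinset]
    refine ⟨R.2.1 b, fun hb => ?_⟩
    obtain ⟨t, ht, rfl⟩ := h.tr c (R.2.1 c hc) b hb
    have h5 : R.1.image (fun v => t • v) = R.1 := congrArg Subtype.val (hR ⟨t, ht⟩)
    rw [← h5]
    exact Finset.mem_image_of_mem _ hc
  have hsum : ∑ b ∈ (orbit P a).toFinite.toFinset, b = a := by
    rw [sum_orbit_eq, ← hall, R.2.2, add_zero]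
  obtain ⟨g, hg⟩ := h.mov
  apply hg
  have := smul_sum_orbit (P := P) (a := a) g
  rwa [hsum] at this

/-- **PERM (2)**: `∑ (Ω ∖ {a}) = a`. -/
theorem Sit.sum_Pts [Finite V] (h : Sit T a) (X : Subgroup P)
    (hX : ∀ v : V, (∀ x ∈ X, x • v = v) → v = 0 ∨ v = a) :
    ∑ b ∈ (Pts P a).toFinite.toFinset, b = a := by
  have h1 := hX _ fun x _ => smul_sum_orbit (P := P) (a := a) x
  rcases h1 with h1 | h1
  · rw [sum_orbit_eq] at h1
    have h3 := h.two a
    exact (add_left_cancel (h1.trans h3.symm))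
  · exfalso
    obtain ⟨g, hg⟩ := h.mov
    apply hg
    have := smul_sum_orbit (P := P) (a := a) g
    rwa [h1] at this

/-- **PERM (3)**: `X` is transitive on `Ω ∖ {a}`. -/
theorem Sit.trans [Finite V] (h : Sit T a) (X : Subgroup P) (hXa : ∀ x ∈ X, x • a = a)
    (hX : ∀ v : V, (∀ x ∈ X, x • v = v) → v = 0 ∨ v = a) {b c : V} (hb : b ∈ Pts P a)
    (hc : c ∈ Pts P a) : ∃ x ∈ X, x • b = c := by
  let O : Finset V := (orbit X b).toFinite.toFinset
  have hO : ∀ d ∈ O, d ∈ Pts P a := by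
    intro d hd
    obtain ⟨x, rfl⟩ := mem_orbit_iff.1 ((Set.Finite.mem_toFinset _).1 hd)
    exact smul_mem_Pts (x : P) (hXa x x.2) hb
  have hbO : b ∈ O := (Set.Finite.mem_toFinset _).2 (mem_orbit_self b)
  have hfix : ∀ x ∈ X, x • ∑ d ∈ O, d = ∑ d ∈ O, d := by
    intro x hx
    rw [← sum_smul]
    congr 1
    ext d
    simp only [Finset.mem_image]
    constructor
    · rintro ⟨e, he, rfl⟩
      obtain ⟨y, rfl⟩ := mem_orbit_iff.1 ((Set.Finite.mem_toFinset _).1 he)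
      exact (Set.Finite.mem_toFinset _).2 ⟨(⟨x, hx⟩ : X) * y, mul_smul _ _ _⟩
    · intro hd
      obtain ⟨y, rfl⟩ := mem_orbit_iff.1 ((Set.Finite.mem_toFinset _).1 hd)
      refine ⟨((⟨x, hx⟩ : X)⁻¹ * y) • b, (Set.Finite.mem_toFinset _).2 (mem_orbit _ _), ?_⟩
      show x • ((⟨x, hx⟩ : X)⁻¹ * y) • b = y • b
      rw [mul_smul]
      exact smul_inv_smul x _
  rcases hX _ hfix with h1 | h1
  · have := h.indep O hO h1
    rw [this] at hbO
    exact absurd hbO (Finset.notMem_empty b)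
  · have h2 : ∑ d ∈ O ∆ (Pts P a).toFinite.toFinset, d = 0 := by
      rw [sum_symmDiff h.two, h1, h.sum_Pts X hX, h.two]
    have h3 := h.indep _ (by
      intro d hd
      rcases Finset.mem_symmDiff.1 hd with hd | hd
      · exact hO d hd.1
      · exact (Set.Finite.mem_toFinset _).1 hd.1) h2
    have h4 : O = (Pts P a).toFinite.toFinset := symmDiff_eq_bot.1 h3
    have h5 : c ∈ O := by rw [h4]; exact (Set.Finite.mem_toFinset _).2 hc
    obtain ⟨x, hx⟩ := mem_orbit_iff.1 ((Set.Finite.mem_toFinset _).1 h5)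
    exact ⟨x, x.2, hx⟩

/-- A block system step: `S` is an orbit of `c` under a subgroup of the elementary abelian group `X`. -/
structure Good (X : Subgroup P) (S : Finset V) (c : V) : Prop where
  mem : c ∈ S
  ex : ∀ s ∈ S, ∃ y ∈ X, y • c = s ∧ ∀ s' ∈ S, y • s' ∈ S

theorem Good.base (X : Subgroup P) (c : V) : Good X {c} c where
  mem := Finset.mem_singleton_self c
  ex := by
    intro s hs
    rw [Finset.mem_singleton] at hs
    subst hs
    exact ⟨1, X.one_mem, one_smul _ _, fun s' hs' => by rwa [one_smul]⟩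

theorem Good.smul_mem {X : Subgroup P} {S : Finset V} {c : V} (hG : Good X S c)
    (hc : ∀ x ∈ X, ∀ y ∈ X, x * y = y * x) {x : P} (hx : x ∈ X)
    (hxc : x • c ∈ S) {s : V} (h : s ∈ S) : x • s ∈ S := by
  obtain ⟨y, hy, hyc, hyS⟩ := hG.ex _ h
  obtain ⟨u, hu, huc, huS⟩ := hG.ex _ hxc
  -- `x s = x y c = y x c = y u c`
  have : x • s = y • (x • c) := by rw [← hyc, ← mul_smul, hc x hx y hy, mul_smul]
  rw [this]
  exact hyS _ hxc

theorem Good.step {X : Subgroup P} {S : Finset V} {c : V} (hG : Good X S c)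
    (hc : ∀ x ∈ X, ∀ y ∈ X, x * y = y * x) (hs : ∀ x ∈ X, x * x = 1) {x : P} (hx : x ∈ X)
    (hxc : x • c ∉ S) : Good X (S ∪ S.image (fun v => x • v)) c ∧
      Disjoint S (S.image (fun v => x • v)) := by
  constructor
  · refine ⟨Finset.mem_union_left _ hG.mem, ?_⟩
    intro s hs'
    rcases Finset.mem_union.1 hs' with hs1 | hs1
    · obtain ⟨y, hy, hyc, hyS⟩ := hG.ex s hs1
      refine ⟨y, hy, hyc, ?_⟩
      intro t ht
      rcases Finset.mem_union.1 ht with ht | ht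
      · exact Finset.mem_union_left _ (hyS t ht)
      · obtain ⟨u, hu, rfl⟩ := Finset.mem_image.1 ht
        refine Finset.mem_union_right _ (Finset.mem_image.2 ⟨y • u, hyS u hu, ?_⟩)
        show x • y • u = y • x • u
        rw [← mul_smul, ← mul_smul, hc x hx y hy]
    · obtain ⟨s0, hs0, rfl⟩ := Finset.mem_image.1 hs1
      obtain ⟨y, hy, hyc, hyS⟩ := hG.ex s0 hs0
      refine ⟨x * y, X.mul_mem hx hy, by rw [mul_smul, hyc], ?_⟩
      intro t ht
      rcases Finset.mem_union.1 ht with ht | ht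
      · exact Finset.mem_union_right _ (Finset.mem_image.2 ⟨y • t, hyS t ht, (mul_smul _ _ _).symm⟩)
      · obtain ⟨u, hu, rfl⟩ := Finset.mem_image.1 ht
        refine Finset.mem_union_left _ ?_
        have : (x * y) • x • u = y • u := by
          rw [← mul_smul, hc x hx y hy, mul_assoc, hs x hx, mul_one]
        rw [this]
        exact hyS u hu
  · rw [Finset.disjoint_left]
    intro s hsS hs'
    obtain ⟨u, hu, hus⟩ := Finset.mem_image.1 hs'
    obtain ⟨y, hy, hyc, hyS⟩ := hG.ex u hu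
    apply hxc
    -- `x c = y⁻¹ x y c = y (x u) = y s`
    have h1 : x • c = y • s := by
      rw [← hus, ← hyc]
      show x • c = y • x • y • c
      rw [← mul_smul x, ← mul_smul y, hc x hx y hy, ← mul_assoc, hs y hy, one_mul]
    rw [h1]
    exact hyS s hsS

theorem sum_step {S : Finset V} {x : P}
    (hd : Disjoint S (S.image (fun v => x • v))) :
    ∑ b ∈ S ∪ S.image (fun v => x • v), b = ∑ b ∈ S, b + x • ∑ b ∈ S, b := by
  rw [Finset.sum_union hd, sum_smul]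

/-- `(1 + x) v` -/
def dl (x : P) (v : V) : V := v + x • v

/-- **PERM (4)**: growing the orbit. -/
theorem Sit.grow [Finite V] (h : Sit T a) (X : Subgroup P) (hXa : ∀ x ∈ X, x • a = a)
    (hX : ∀ v : V, (∀ x ∈ X, x • v = v) → v = 0 ∨ v = a)
    (hc : ∀ x ∈ X, ∀ y ∈ X, x * y = y * x) (hs : ∀ x ∈ X, x * x = 1) {c : V} (hcP : c ∈ Pts P a)
    {S : Finset V} (hG : Good X S c) (hS : ∀ b ∈ S, b ∈ Pts P a)
    (hlt : S.card < (Pts P a).ncard) :
    ∃ x ∈ X, ∃ S' : Finset V, Good X S' c ∧ (∀ b ∈ S', b ∈ Pts P a) ∧ S'.card = 2 * S.card ∧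
      ∑ b ∈ S', b = dl x (∑ b ∈ S, b) := by
  have h1 : ∃ d ∈ Pts P a, d ∉ S := by
    by_contra h2
    push Not at h2
    have h3 : (Pts P a).ncard ≤ S.card := by
      rw [← Set.ncard_coe_finset S]
      exact Set.ncard_le_ncard h2 S.finite_toSet
    omega
  obtain ⟨d, hd, hdS⟩ := h1
  obtain ⟨x, hx, rfl⟩ := h.trans X hXa hX hcP hd
  obtain ⟨hG', hdis⟩ := hG.step hc hs hx hdS
  refine ⟨x, hx, _, hG', ?_, ?_, sum_step hdis⟩
  · intro b hb
    rcases Finset.mem_union.1 hb with hb | hb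
    · exact hS b hb
    · obtain ⟨u, hu, rfl⟩ := Finset.mem_image.1 hb
      exact smul_mem_Pts x (hXa x hx) (hS u hu)
  · rw [Finset.card_union_of_disjoint hdis, Finset.card_image_of_injective _ (MulAction.injective x)]
    omega

/-- **PERM (5)**: `[V, X, X, X, X] = 0` implies `|Ω ∖ {a}| ≤ 8`. -/
theorem Sit.card_le_eight [Finite V] (h : Sit T a) (X : Subgroup P) (hXa : ∀ x ∈ X, x • a = a)
    (hX : ∀ v : V, (∀ x ∈ X, x • v = v) → v = 0 ∨ v = a)
    (hc : ∀ x ∈ X, ∀ y ∈ X, x * y = y * x) (hs : ∀ x ∈ X, x * x = 1)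
    (h4 : ∀ x₁ ∈ X, ∀ x₂ ∈ X, ∀ x₃ ∈ X, ∀ x₄ ∈ X, ∀ v ∈ Pts P a,
      dl x₄ (dl x₃ (dl x₂ (dl x₁ v))) = 0) : (Pts P a).ncard ≤ 8 := by
  by_contra hgt
  push Not at hgt
  obtain ⟨g, hg⟩ := h.mov
  have hcP : g • a ∈ Pts P a := ⟨⟨g, rfl⟩, hg⟩
  have hS0 : ∀ b ∈ ({g • a} : Finset V), b ∈ Pts P a := by
    intro b hb
    rw [Finset.mem_singleton] at hb
    rwa [hb]
  obtain ⟨x₁, hx₁, S₁, g₁, p₁, c₁, s₁⟩ := h.grow X hXa hX hc hs hcP (Good.base X _) hS0
    (by rw [Finset.card_singleton]; omega)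
  rw [Finset.card_singleton] at c₁
  obtain ⟨x₂, hx₂, S₂, g₂, p₂, c₂, s₂⟩ := h.grow X hXa hX hc hs hcP g₁ p₁ (by omega)
  obtain ⟨x₃, hx₃, S₃, g₃, p₃, c₃, s₃⟩ := h.grow X hXa hX hc hs hcP g₂ p₂ (by omega)
  obtain ⟨x₄, hx₄, S₄, g₄, p₄, c₄, s₄⟩ := h.grow X hXa hX hc hs hcP g₃ p₃ (by omega)
  have h5 := h4 x₁ hx₁ x₂ hx₂ x₃ hx₃ x₄ hx₄ (g • a) hcP
  rw [s₃, s₂, s₁, Finset.sum_singleton, h5] at s₄
  have := h.indep S₄ p₄ s₄
  rw [this, Finset.card_empty] at c₄
  omega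

/-- **PERM (6)**: `[Ω ∖ {a}, X, X, X] = 0` implies `|Ω ∖ {a}| ≤ 4`. -/
theorem Sit.card_le_four [Finite V] (h : Sit T a) (X : Subgroup P) (hXa : ∀ x ∈ X, x • a = a)
    (hX : ∀ v : V, (∀ x ∈ X, x • v = v) → v = 0 ∨ v = a)
    (hc : ∀ x ∈ X, ∀ y ∈ X, x * y = y * x) (hs : ∀ x ∈ X, x * x = 1)
    (h3 : ∀ x₁ ∈ X, ∀ x₂ ∈ X, ∀ x₃ ∈ X, ∀ v ∈ Pts P a, dl x₃ (dl x₂ (dl x₁ v)) = 0) :
    (Pts P a).ncard ≤ 4 := by
  by_contra hgt
  push Not at hgt
  obtain ⟨g, hg⟩ := h.mov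
  have hcP : g • a ∈ Pts P a := ⟨⟨g, rfl⟩, hg⟩
  have hS0 : ∀ b ∈ ({g • a} : Finset V), b ∈ Pts P a := by
    intro b hb
    rw [Finset.mem_singleton] at hb
    rwa [hb]
  obtain ⟨x₁, hx₁, S₁, g₁, p₁, c₁, s₁⟩ := h.grow X hXa hX hc hs hcP (Good.base X _) hS0
    (by rw [Finset.card_singleton]; omega)
  rw [Finset.card_singleton] at c₁
  obtain ⟨x₂, hx₂, S₂, g₂, p₂, c₂, s₂⟩ := h.grow X hXa hX hc hs hcP g₁ p₁ (by omega)
  obtain ⟨x₃, hx₃, S₃, g₃, p₃, c₃, s₃⟩ := h.grow X hXa hX hc hs hcP g₂ p₂ (by omega)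
  have h5 := h3 x₁ hx₁ x₂ hx₂ x₃ hx₃ (g • a) hcP
  rw [s₂, s₁, Finset.sum_singleton, h5] at s₃
  have := h.indep S₃ p₃ s₃
  rw [this, Finset.card_empty] at c₃
  omega

/-- `|Ω ∖ {a}|` is a power of 2 (a 2-group is transitive on it), different from 1 if `∑ Ω = 0`. -/
theorem Sit.one_lt_card [Finite V] (h : Sit T a) (X : Subgroup P)
    (hX : ∀ v : V, (∀ x ∈ X, x • v = v) → v = 0 ∨ v = a) : 1 < (Pts P a).ncard := by
  obtain ⟨g, hg⟩ := h.mov
  have hcP : g • a ∈ Pts P a := ⟨⟨g, rfl⟩, hg⟩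
  by_contra hle
  push Not at hle
  have h1 : (Pts P a).toFinite.toFinset = {g • a} := by
    have h2 : ∀ {x y : V}, x ∈ Pts P a → y ∈ Pts P a → x = y :=
      (Set.ncard_le_one_iff (Set.toFinite _)).1 hle
    ext b
    rw [Set.Finite.mem_toFinset, Finset.mem_singleton]
    exact ⟨fun hb => h2 hb hcP, fun hb => hb ▸ hcP⟩
  have h2 := h.sum_Pts X hX
  rw [h1, Finset.sum_singleton] at h2
  exact hg h2

end Cfsg.Agent.Omega.EH3.Perm
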