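import Cfsg.Agent.Omega.EH3.Cube
import Cfsg.Agent.Omega.EH3.Perm

/-!
# LEMMA NODE (blueprint OMEGA-FF2b-helper796, (2))

`E ≤ H` normalised by `X`, `T ≤ E` a 2-group fixing `a`, normalised by `X`, `B = N_E(T)`.

* `perm_four` : if `T` is transitive on `a^E ∖ {a}`, then `|a^E ∖ {a}| ≤ 4`;
* `Pre E T O` : `T` is transitive on `E/B ∖ {B}` and the kernel of `E` on `E/B` is `O ≤ T`;
* `Pre.fixB` : if `T/O` is abelian and centralised by `X`, then `B` fixes `a`;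
* `Pre.fixE` : if `B` fixes `a` and `|E : B| > 5`, then `E` fixes `a`.
-/

set_option autoImplicit false

namespace Cfsg.Agent.Omega.EH3

open Subgroup

namespace Cfg

variable {H V : Type*} [Group H] [AddCommGroup V] [Module (ZMod 2) V]
  {ρ : H →* (V ≃ₗ[ZMod 2] V)} {b : LinearMap.BilinForm (ZMod 2) V} {q : V → ZMod 2}
  {a : V} {D : Submodule (ZMod 2) V} {X : Subgroup H} {w : ℕ}

/-- `E X` for `X` normalising `E` -/
def EX (E X : Subgroup H) (h : ∀ x ∈ X, ∀ e ∈ E, x * e * x⁻¹ ∈ E) : Subgroup H where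
  carrier := {g | ∃ e ∈ E, ∃ x ∈ X, g = e * x}
  one_mem' := ⟨1, E.one_mem, 1, X.one_mem, by simp⟩
  mul_mem' := by
    rintro _ _ ⟨e, he, x, hx, rfl⟩ ⟨f, hf, y, hy, rfl⟩
    exact ⟨e * (x * f * x⁻¹), E.mul_mem he (h x hx f hf), x * y, X.mul_mem hx hy, by group⟩
  inv_mem' := by
    rintro _ ⟨e, he, x, hx, rfl⟩
    refine ⟨x⁻¹ * e⁻¹ * x, ?_, x⁻¹, X.inv_mem hx, by group⟩
    have := h x⁻¹ (X.inv_mem hx) e⁻¹ (E.inv_mem he)
    rwa [inv_inv] at this

/-- the points of `E` different from `a` -/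
def PtsE (ρ : H →* (V ≃ₗ[ZMod 2] V)) (a : V) (E : Subgroup H) : Set V :=
  {v | (∃ g ∈ E, ρ g a = v) ∧ v ≠ a}

theorem perp_three (C : Cfg ρ b q a D X w) {x y z : H} (hx : x ∈ X) (hy : y ∈ X) (hz : z ∈ X)
    {v : V} (hv : b a v = 0) :
    (v + ρ x v) + ρ y (v + ρ x v) + ρ z ((v + ρ x v) + ρ y (v + ρ x v)) = 0 := by
  have h1 : v + ρ x v ∈ D := by rw [add_comm]; exact C.X_perp x hx v hv
  have h2 : (v + ρ x v) + ρ y (v + ρ x v) = 0 ∨ (v + ρ x v) + ρ y (v + ρ x v) = a := by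
    rcases C.X_D y hy _ h1 with h | h
    · left; rw [h, C.add_self]
    · right; rw [h, ← add_assoc, C.add_self, zero_add]
  rcases h2 with h | h
  · rw [h, map_zero, add_zero]
  · rw [h, C.X_a hz, C.add_self]

/-- **PERM on `Cfg`.** -/
theorem perm_four (C : Cfg ρ b q a D X w) {E T : Subgroup H}
    (hXE : ∀ x ∈ X, ∀ e ∈ E, x * e * x⁻¹ ∈ E) (hT2 : IsPGroup 2 T) (hTE : T ≤ E)
    (hTa : ∀ t ∈ T, ρ t a = a)
    (tr : ∀ g ∈ E, ∀ h ∈ E, ρ g a ≠ a → ρ h a ≠ a → ∃ t ∈ T, ρ (t * g) a = ρ h a) :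
    (PtsE ρ a E).ncard ≤ 4 := by
  classical
  have := C.finite_V
  by_cases hmov : ∃ g ∈ E, ρ g a ≠ a
  swap
  · push Not at hmov
    have : PtsE ρ a E = ∅ := by
      ext v
      simp only [PtsE, Set.mem_ofPred_eq, Set.mem_empty_iff_false, iff_false, not_and, not_not]
      rintro ⟨g, hg, rfl⟩
      exact hmov g hg
    rw [this, Set.ncard_empty]
    omega
  let P : Subgroup H := EX E X hXE
  let act : DistribMulAction P V :=
    { smul := fun g v => ρ g v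
      one_smul := fun v => C.ρ_one v
      mul_smul := fun g h v => C.ρ_mul g h v
      smul_zero := fun g => map_zero _
      smul_add := fun g u v => map_add _ u v }
  have hsm : ∀ (g : P) (v : V), g • v = ρ g v := fun _ _ => rfl
  have hTP : T ≤ P := fun t ht => ⟨t, hTE ht, 1, X.one_mem, by simp⟩
  have hXP : X ≤ P := fun x hx => ⟨1, E.one_mem, x, hx, by simp⟩
  let T' : Subgroup P := T.subgroupOf P
  let X' : Subgroup P := X.subgroupOf P
  have hP : ∀ g : P, ∃ e ∈ E, ρ g a = ρ e a := by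
    rintro ⟨_, e, he, x, hx, rfl⟩
    exact ⟨e, he, by show ρ (e * x) a = ρ e a; rw [C.ρ_mul, C.X_a hx]⟩
  have hPts : Perm.Pts P a = PtsE ρ a E := by
    ext v
    simp only [Perm.Pts, PtsE, Set.mem_ofPred_eq]
    constructor
    · rintro ⟨⟨g, hg⟩, hv⟩
      obtain ⟨e, he, hge⟩ := hP g
      exact ⟨⟨e, he, by rw [← hge, ← hg]; rfl⟩, hv⟩
    · rintro ⟨⟨g, hg, hgv⟩, hv⟩
      exact ⟨⟨⟨g, ⟨g, hg, 1, X.one_mem, by simp⟩⟩, hgv⟩, hv⟩
  have hT2' : IsPGroup 2 T' := by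
    rintro ⟨t, ht⟩
    obtain ⟨k, hk⟩ := hT2 ⟨t.1, ht⟩
    refine ⟨k, Subtype.ext (Subtype.ext ?_)⟩
    have := congrArg Subtype.val hk
    simpa using this
  have hS : Perm.Sit T' a :=
    { two := C.add_self
      pg := hT2'
      fix := fun t ht => hTa t ht
      tr := by
        intro u hu v hv
        rw [hPts] at hu hv
        obtain ⟨⟨g, hg, rfl⟩, hga⟩ := hu
        obtain ⟨⟨h, hh, rfl⟩, hha⟩ := hv
        obtain ⟨t, ht, hte⟩ := tr g hg h hh hga hha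
        refine ⟨⟨t, hTP ht⟩, ht, ?_⟩
        show ρ t (ρ g a) = ρ h a
        rw [← C.ρ_mul, hte]
      mov := by
        obtain ⟨g, hg, hga⟩ := hmov
        exact ⟨⟨g, ⟨g, hg, 1, X.one_mem, by simp⟩⟩, hga⟩ }
  have hXa : ∀ x ∈ X', x • a = a := fun x hx => C.X_a hx
  have hXf : ∀ v : V, (∀ x ∈ X', x • v = v) → v = 0 ∨ v = a := by
    intro v hv
    exact C.fix_X fun x hx => hv ⟨x, hXP hx⟩ hx
  have hXc : ∀ x ∈ X', ∀ y ∈ X', x * y = y * x := fun x hx y hy => Subtype.ext (C.X_comm hx hy)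
  have hXs : ∀ x ∈ X', x * x = 1 := fun x hx => Subtype.ext (C.X_sq _ hx)
  rw [← hPts]
  by_cases hperp : ∀ v ∈ Perm.Pts P a, b a v = 0
  · refine hS.card_le_four X' hXa hXf hXc hXs ?_
    intro x hx y hy z hz v hv
    exact C.perp_three hx hy hz (hperp v hv)
  · exfalso
    push Not at hperp
    obtain ⟨v, hv, hbv⟩ := hperp
    have hbv1 : b a v = 1 := zmod_two_ne hbv
    have h8 := hS.card_le_eight X' hXa hXf hXc hXs (by
      intro x hx y hy z hz u hu v _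
      refine C.perp_three hy hz hu ?_
      show b a (v + ρ x v) = 0
      rw [add_comm]
      exact C.b_a_delta (C.X_a hx) v)
    let W : Submodule (ZMod 2) V := Submodule.span (ZMod 2) (MulAction.orbit P a)
    have hWX : ∀ x ∈ X, ∀ u ∈ W, ρ x u ∈ W := by
      intro x hx u hu
      refine Submodule.span_induction (p := fun u _ => ρ x u ∈ W) ?_ ?_ ?_ ?_ hu
      · rintro _ ⟨g, rfl⟩
        exact Submodule.subset_span ⟨⟨x, hXP hx⟩ * g, C.ρ_mul x g a⟩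
      · rw [map_zero]; exact W.zero_mem
      · intro y z _ _ hy hz
        rw [map_add]; exact W.add_mem hy hz
      · intro c y _ hy
        rw [map_smul]; exact W.smul_mem c hy
    have hvW : v ∈ W := by
      obtain ⟨⟨g, hg⟩, _⟩ := hv
      exact Submodule.subset_span ⟨g, hg⟩
    have htop : W = ⊤ := C.eq_top_of_off hWX hbv1 hvW
    have h9 : (MulAction.orbit P a).ncard ≤ 9 := by
      have h1 : MulAction.orbit P a ⊆ insert a (Perm.Pts P a) := by
        rintro _ ⟨g, rfl⟩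
        by_cases h : g • a = a
        · exact Or.inl h
        · exact Or.inr ⟨⟨g, rfl⟩, h⟩
      have h2 := Set.ncard_le_ncard h1 (Set.toFinite _)
      have h3 := Set.ncard_insert_le a (Perm.Pts P a)
      omega
    have hfd : Module.Finite (ZMod 2) V := Module.Finite.of_finite
    have h10 : Module.finrank (ZMod 2) V ≤ 9 := by
      have h1 : Module.finrank (ZMod 2) W ≤ (MulAction.orbit P a).toFinite.toFinset.card := by
        have h2 := finrank_span_finset_le_card (R := ZMod 2) (MulAction.orbit P a).toFinite.toFinset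
        rwa [Set.Finite.coe_toFinset] at h2
      rw [htop, finrank_top, ← Set.ncard_eq_toFinset_card] at h1
      omega
    have h11 : Nat.card V = 2 ^ Module.finrank (ZMod 2) V := by
      rw [Module.natCard_eq_pow_finrank (K := ZMod 2), Nat.card_zmod]
    rw [C.card_V] at h11
    have h12 := Nat.pow_right_injective (le_refl 2) h11
    have := C.five
    omega

end Cfg

/-- The rank one situation: `B = N_E(T)`, `T` transitive on `E/B ∖ {B}`, kernel `O ≤ T` of the action on `E/B`. -/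
structure Pre {H : Type*} [Group H] (E T O : Subgroup H) : Prop where
  T_le : T ≤ E
  O_le : O ≤ T
  two : IsPGroup 2 T
  norm : ∀ g ∈ E, ∀ o ∈ O, g * o * g⁻¹ ∈ O
  trans : ∀ g ∈ E, g ∉ normalizer (T : Set H) → ∀ h ∈ E, h ∉ normalizer (T : Set H) →
    ∃ t ∈ T, (t * g)⁻¹ * h ∈ normalizer (T : Set H)
  core : ∀ g ∈ E, (∀ h ∈ E, h⁻¹ * g * h ∈ normalizer (T : Set H)) → g ∈ O

/-- The conditions on `X`, `T`, `E`. -/
structure XCond {H V : Type*} [Group H] [AddCommGroup V] [Module (ZMod 2) V]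
    (ρ : H →* (V ≃ₗ[ZMod 2] V)) (a : V) (X E T : Subgroup H) : Prop where
  XE : ∀ x ∈ X, ∀ e ∈ E, x * e * x⁻¹ ∈ E
  XT : ∀ x ∈ X, ∀ t ∈ T, x * t * x⁻¹ ∈ T
  Ta : ∀ t ∈ T, ρ t a = a

namespace Pre

variable {H V : Type*} [Group H] [AddCommGroup V] [Module (ZMod 2) V]
  {ρ : H →* (V ≃ₗ[ZMod 2] V)} {b : LinearMap.BilinForm (ZMod 2) V} {q : V → ZMod 2}
  {a : V} {D : Submodule (ZMod 2) V} {X : Subgroup H} {w : ℕ} {E T O : Subgroup H}

theorem T_le_N : T ≤ normalizer (T : Set H) := le_normalizer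

theorem mem_T_conj {g t : H} (hg : g ∈ normalizer (T : Set H)) (ht : t ∈ T) : g * t * g⁻¹ ∈ T :=
  (mem_normalizer_iff.1 hg t).1 ht

theorem mem_T_conj' {g t : H} (hg : g ∈ normalizer (T : Set H)) (ht : t ∈ T) : g⁻¹ * t * g ∈ T := by
  have := mem_T_conj (T := T) (inv_mem hg) ht
  rwa [inv_inv] at this

theorem norm' (h : Pre E T O) {g o : H} (hg : g ∈ E) (ho : o ∈ O) : g⁻¹ * o * g ∈ O := by
  have := h.norm g⁻¹ (E.inv_mem hg) o ho
  rwa [inv_inv] at this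

theorem X_le_N (C : Cfg ρ b q a D X w) (hx : XCond ρ a X E T) : X ≤ normalizer (T : Set H) := by
  intro x hxX
  rw [mem_normalizer_iff]
  intro t
  refine ⟨fun ht => hx.XT x hxX t ht, fun ht => ?_⟩
  have := hx.XT x hxX _ ht
  rw [C.X_inv hxX] at this
  have h2 : x * (x * t * x) * x = t := by
    calc x * (x * t * x) * x = (x * x) * t * (x * x) := by group
      _ = t := by rw [C.X_sq x hxX]; group
  rwa [h2] at this

/-- `O` is normalised by everything normalising `E` and `T` -/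
theorem norm_of (h : Pre E T O) {x : H} (hxE : ∀ e ∈ E, x * e * x⁻¹ ∈ E) (hxE' : ∀ e ∈ E, x⁻¹ * e * x ∈ E)
    (hxN : x ∈ normalizer (T : Set H)) {o : H} (ho : o ∈ O) : x * o * x⁻¹ ∈ O := by
  refine h.core _ (hxE o (h.T_le (h.O_le ho))) fun e he => ?_
  have h1 : e⁻¹ * (x * o * x⁻¹) * e = x * ((x⁻¹ * e * x)⁻¹ * o * (x⁻¹ * e * x)) * x⁻¹ := by group
  rw [h1]
  exact mul_mem (mul_mem hxN (T_le_N (h.O_le (h.norm' (hxE' e he) ho)))) (inv_mem hxN)

theorem XE' (C : Cfg ρ b q a D X w) (hx : XCond ρ a X E T) {x : H} (hxX : x ∈ X) :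
    ∀ e ∈ E, x⁻¹ * e * x ∈ E := by
  intro e he
  have := hx.XE x⁻¹ (X.inv_mem hxX) e he
  rwa [inv_inv] at this

/-- one element `e ∈ E ∖ B` fixing `a` suffices if `B` fixes `a` -/
theorem fix_all (C : Cfg ρ b q a D X w) (h : Pre E T O) (hx : XCond ρ a X E T)
    (hB : ∀ g ∈ E, g ∈ normalizer (T : Set H) → ρ g a = a) {e : H} (he : e ∈ E)
    (heN : e ∉ normalizer (T : Set H)) (hea : ρ e a = a) : ∀ g ∈ E, ρ g a = a := by
  intro g hg
  by_cases hgN : g ∈ normalizer (T : Set H)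
  · exact hB g hg hgN
  obtain ⟨t, ht, hn⟩ := h.trans e he heN g hg hgN
  have h1 : g = t * e * ((t * e)⁻¹ * g) := by group
  have h2 := hB _ (E.mul_mem (E.inv_mem (E.mul_mem (h.T_le ht) he)) hg) hn
  rw [h1, C.ρ_mul, h2, C.ρ_mul, hea, hx.Ta t ht]

/-- **fixE.** -/
theorem fixE (C : Cfg ρ b q a D X w) (h : Pre E T O) (hx : XCond ρ a X E T)
    (hB : ∀ g ∈ E, g ∈ normalizer (T : Set H) → ρ g a = a)
    (hcard : 5 < (normalizer (T : Set H)).relIndex E) : ∀ g ∈ E, ρ g a = a := by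
  classical
  have := C.finite_V
  have := C.finite_H
  by_contra hcon
  push Not at hcon
  obtain ⟨g0, hg0, hga0⟩ := hcon
  -- `C_E(a) = B`
  have hstab : ∀ g ∈ E, ρ g a = a → g ∈ normalizer (T : Set H) := by
    intro g hg hga
    by_contra hgN
    exact hga0 (fix_all C h hx hB hg hgN hga g0 hg0)
  have h4 := C.perm_four hx.XE h.two h.T_le hx.Ta (by
    intro g hg k hk hga hka
    obtain ⟨t, ht, hn⟩ := h.trans g hg (fun hgN => hga (hB g hg hgN)) k hk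
      (fun hkN => hka (hB k hk hkN))
    refine ⟨t, ht, ?_⟩
    have h1 : t * g * ((t * g)⁻¹ * k) = k := by group
    have h2 := hB _ (E.mul_mem (E.inv_mem (E.mul_mem (h.T_le ht) hg)) hk) hn
    calc ρ (t * g) a = ρ (t * g) (ρ ((t * g)⁻¹ * k) a) := by rw [h2]
      _ = ρ k a := by rw [← C.ρ_mul, h1])
  -- the number of points
  let Ω : Set V := {v | ∃ g ∈ E, ρ g a = v}
  have hΩ : Ω = insert a (Cfg.PtsE ρ a E) := by
    ext v
    constructor
    · rintro ⟨g, hg, rfl⟩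
      by_cases hga : ρ g a = a
      · exact Or.inl hga
      · exact Or.inr ⟨⟨g, hg, rfl⟩, hga⟩
    · rintro (rfl | ⟨⟨g, hg, hgv⟩, -⟩)
      · exact ⟨1, E.one_mem, C.ρ_one _⟩
      · exact ⟨g, hg, hgv⟩
  have hle : Ω.ncard ≤ 5 := by
    rw [hΩ]
    exact (Set.ncard_insert_le _ _).trans (by omega)
  have hge : (normalizer (T : Set H)).relIndex E ≤ Ω.ncard := by
    rw [Subgroup.relIndex, Subgroup.index, ← Nat.card_coe_set_eq]
    refine Nat.card_le_card_of_injective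
      (fun x : E ⧸ (normalizer (T : Set H)).subgroupOf E =>
        (⟨ρ ((Quotient.out x : E) : H) a, ((Quotient.out x : E) : H), (Quotient.out x).2, rfl⟩ : Ω)) ?_
    intro x y hxy
    have h1 : ρ ((Quotient.out x : E) : H) a = ρ ((Quotient.out y : E) : H) a := congrArg Subtype.val hxy
    have h2 : ρ (((Quotient.out x : E) : H)⁻¹ * ((Quotient.out y : E) : H)) a = a := by
      rw [C.ρ_mul, ← h1, C.ρ_inv_apply]
    have h3 := hstab _ (E.mul_mem (E.inv_mem (Quotient.out x).2) (Quotient.out y).2) h2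
    have h4 : (QuotientGroup.mk (Quotient.out x) : E ⧸ (normalizer (T : Set H)).subgroupOf E)
        = QuotientGroup.mk (Quotient.out y) := by
      rw [QuotientGroup.eq]
      exact h3
    have h5 : ∀ z : E ⧸ (normalizer (T : Set H)).subgroupOf E,
        (QuotientGroup.mk (Quotient.out z) : E ⧸ (normalizer (T : Set H)).subgroupOf E) = z :=
      fun z => Quotient.out_eq z
    rw [h5, h5] at h4
    exact h4
  omega

/-- **fixB.** -/
theorem fixB (C : Cfg ρ b q a D X w) (h : Pre E T O) (hx : XCond ρ a X E T)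
    (habel : ∀ s ∈ T, ∀ t ∈ T, s * t * s⁻¹ * t⁻¹ ∈ O)
    (hcent : ∀ x ∈ X, ∀ t ∈ T, x * t * x⁻¹ * t⁻¹ ∈ O) :
    ∀ g ∈ E, g ∈ normalizer (T : Set H) → ρ g a = a := by
  intro g hg hgN
  have hXN := X_le_N C hx
  by_cases hall : ∀ e ∈ E, e ∈ normalizer (T : Set H)
  · refine hx.Ta g (h.O_le (h.core g hg fun k hk => ?_))
    exact mul_mem (mul_mem (inv_mem (hall k hk)) hgN) (hall k hk)
  push Not at hall
  obtain ⟨g0, hg0, hg0N⟩ := hall
  refine C.fix_of_cent fun x hxX => ?_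
  have hxN := hXN hxX
  have hx0N : x * g0 * x⁻¹ ∉ normalizer (T : Set H) := by
    intro hcon
    apply hg0N
    have : g0 = x⁻¹ * (x * g0 * x⁻¹) * x := by group
    rw [this]
    exact mul_mem (mul_mem (inv_mem hxN) hcon) hxN
  obtain ⟨t, ht, hn⟩ := h.trans g0 hg0 hg0N _ (hx.XE x hxX g0 hg0) hx0N
  -- `y = t⁻¹ x` acts trivially on the points
  obtain ⟨y, hy⟩ : ∃ y, y = t⁻¹ * x := ⟨_, rfl⟩
  have htN : t ∈ normalizer (T : Set H) := T_le_N ht
  have hyN : y ∈ normalizer (T : Set H) := by rw [hy]; exact mul_mem (inv_mem htN) hxN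
  have hyE : ∀ e ∈ E, y * e * y⁻¹ ∈ E := by
    intro e he
    have h1 : y * e * y⁻¹ = t⁻¹ * (x * e * x⁻¹) * t := by rw [hy]; group
    rw [h1]
    exact E.mul_mem (E.mul_mem (E.inv_mem (h.T_le ht)) (hx.XE x hxX e he)) (h.T_le ht)
  have hyE' : ∀ e ∈ E, y⁻¹ * e * y ∈ E := by
    intro e he
    have h1 : y⁻¹ * e * y = x⁻¹ * (t * e * t⁻¹) * x := by rw [hy]; group
    rw [h1]
    exact XE' C hx hxX _ (E.mul_mem (E.mul_mem (h.T_le ht) he) (E.inv_mem (h.T_le ht)))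
  have hnormy : ∀ o ∈ O, y * o * y⁻¹ ∈ O := fun o ho => h.norm_of hyE hyE' hyN ho
  -- `[y, T] ≤ O`
  have hyT : ∀ s ∈ T, ∃ o ∈ O, y * s * y⁻¹ = o * s := by
    intro s hs
    refine ⟨y * s * y⁻¹ * s⁻¹, ?_, by group⟩
    have h1 : y * s * y⁻¹ * s⁻¹ = (t⁻¹ * (x * s * x⁻¹ * s⁻¹) * t) * (t⁻¹ * s * t * s⁻¹) := by
      rw [hy]; group
    rw [h1]
    refine O.mul_mem (h.norm' (h.T_le ht) (hcent x hxX s hs)) ?_
    have := habel t⁻¹ (T.inv_mem ht) s hs
    rwa [inv_inv] at this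
  have claim0 : y * g0 * y⁻¹ ∈ {k | g0⁻¹ * k ∈ normalizer (T : Set H)} := by
    show g0⁻¹ * (y * g0 * y⁻¹) ∈ normalizer (T : Set H)
    have h1 : g0⁻¹ * (y * g0 * y⁻¹) = ((t * g0)⁻¹ * (x * g0 * x⁻¹)) * t := by rw [hy]; group
    rw [h1]
    exact mul_mem hn htN
  have claim : ∀ k ∈ E, k⁻¹ * (y * k * y⁻¹) ∈ normalizer (T : Set H) := by
    intro k hk
    by_cases hkN : k ∈ normalizer (T : Set H)
    · exact mul_mem (inv_mem hkN) (mul_mem (mul_mem hyN hkN) (inv_mem hyN))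
    obtain ⟨s, hs, hn1⟩ := h.trans g0 hg0 hg0N k hk hkN
    obtain ⟨n, hn'⟩ : ∃ n, n = (s * g0)⁻¹ * k := ⟨_, rfl⟩
    rw [← hn'] at hn1
    have hk1 : k = s * g0 * n := by rw [hn']; group
    obtain ⟨o, ho, hos⟩ := hyT s hs
    have h1 : k⁻¹ * (y * k * y⁻¹)
        = n⁻¹ * (g0⁻¹ * (s⁻¹ * o * s) * g0) * (g0⁻¹ * (y * g0 * y⁻¹)) * (y * n * y⁻¹) := by
      have h2 : y * k * y⁻¹ = (y * s * y⁻¹) * (y * g0 * y⁻¹) * (y * n * y⁻¹) := by rw [hk1]; group
      rw [h2, hos, hk1]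
      group
    rw [h1]
    refine mul_mem (mul_mem (mul_mem (inv_mem hn1) ?_) claim0) (mul_mem (mul_mem hyN hn1) (inv_mem hyN))
    exact T_le_N (h.O_le (h.norm' hg0 (h.norm' (h.T_le hs) ho)))
  -- `[y, g] ∈ O`
  have hm : y * g * y⁻¹ * g⁻¹ ∈ O := by
    refine h.core _ (E.mul_mem (hyE g hg) (E.inv_mem hg)) fun k hk => ?_
    have hk1 : g⁻¹ * k ∈ E := E.mul_mem (E.inv_mem hg) hk
    have h2 := claim _ (hyE' _ hk1)
    have h3 := claim k hk
    have h4 : k⁻¹ * (y * g * y⁻¹ * g⁻¹) * k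
        = (k⁻¹ * (y * k * y⁻¹)) * (y * (((y⁻¹ * (g⁻¹ * k) * y)⁻¹ * (y * (y⁻¹ * (g⁻¹ * k) * y) * y⁻¹))⁻¹) * y⁻¹) := by
      group
    rw [h4]
    exact mul_mem h3 (mul_mem (mul_mem hyN (inv_mem h2)) (inv_mem hyN))
  -- `x g x⁻¹ ∈ T g`
  have h5 : x * g * x⁻¹ = g * (g⁻¹ * (t * (y * g * y⁻¹ * g⁻¹)) * g * t⁻¹) := by rw [hy]; group
  rw [h5, C.ρ_mul]
  congr 1
  refine hx.Ta _ (T.mul_mem ?_ (T.inv_mem ht))
  exact mem_T_conj' hgN (T.mul_mem ht (h.O_le hm))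

end Pre

end Cfsg.Agent.Omega.EH3
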