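import Cfsg.Agent.Omega.EH3.Node
import Mathlib.FieldTheory.Finite.Basic

/-!
# LEMMA NODE for `L₂(q)`-nodes (blueprint OMEGA-FF2b-helper796, (2))

`NodeL E T O φ c lam` : `E/O` looks like `L₂(F)`: `T/O ≅ (F, +)` through `φ`, `N_E(T) = T⟨c⟩`, `c` acts on `T/O` as the
generator `lam` of `Fˣ`.

* `NodeL.cent` : `X` centralises `T/O` if `|F| ≥ 8`;
* `NodeL.fix` : `E` fixes `a` if `|F| ≥ 8`.
-/

set_option autoImplicit false

namespace Cfsg.Agent.Omega.EH3

open Subgroup

/-- an `L₂(F)`-node -/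
structure NodeL {H : Type*} [Group H] {F : Type*} [Field F] (E T O : Subgroup H) (φ : H → F) (c : H)
    (lam : F) : Prop extends Pre E T O where
  map_mul : ∀ s ∈ T, ∀ t ∈ T, φ (s * t) = φ s + φ t
  ker : ∀ s ∈ T, φ s = 0 ↔ s ∈ O
  surj : ∀ f, ∃ t ∈ T, φ t = f
  c_mem : c ∈ E
  c_norm : c ∈ normalizer (T : Set H)
  gen : ∀ g ∈ E, g ∈ normalizer (T : Set H) → ∃ k : ℕ, ∃ t ∈ T, g = c ^ k * t
  act : ∀ t ∈ T, φ (c * t * c⁻¹) = lam * φ t
  ne : lam ≠ 0
  ord : ∀ k : ℕ, lam ^ k = 1 → Nat.card F - 1 ∣ k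
  tor : c ^ (Nat.card F - 1) ∈ T

namespace NodeL

variable {H V : Type*} [Group H] [AddCommGroup V] [Module (ZMod 2) V]
  {ρ : H →* (V ≃ₗ[ZMod 2] V)} {b : LinearMap.BilinForm (ZMod 2) V} {q : V → ZMod 2}
  {a : V} {D : Submodule (ZMod 2) V} {X : Subgroup H} {w : ℕ} {E T O : Subgroup H}
  {F : Type*} [Field F] {φ : H → F} {c : H} {lam : F}

theorem map_one (h : NodeL E T O φ c lam) : φ 1 = 0 := (h.ker 1 T.one_mem).2 O.one_mem

theorem map_inv (h : NodeL E T O φ c lam) {s : H} (hs : s ∈ T) : φ s⁻¹ = -φ s := by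
  have := h.map_mul s hs s⁻¹ (T.inv_mem hs)
  rw [mul_inv_cancel, h.map_one] at this
  exact (neg_eq_of_add_eq_zero_right this.symm).symm

theorem mem_O_iff (h : NodeL E T O φ c lam) {s t : H} (hs : s ∈ T) (ht : t ∈ T) :
    s * t⁻¹ ∈ O ↔ φ s = φ t := by
  rw [← h.ker _ (T.mul_mem hs (T.inv_mem ht)), h.map_mul _ hs _ (T.inv_mem ht), h.map_inv ht,
    ← sub_eq_add_neg, sub_eq_zero]

theorem abel (h : NodeL E T O φ c lam) : ∀ s ∈ T, ∀ t ∈ T, s * t * s⁻¹ * t⁻¹ ∈ O := by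
  intro s hs t ht
  rw [h.mem_O_iff (T.mul_mem (T.mul_mem hs ht) (T.inv_mem hs)) ht,
    h.map_mul _ (T.mul_mem hs ht) _ (T.inv_mem hs), h.map_mul _ hs _ ht, h.map_inv hs]
  ring

theorem conj_c (h : NodeL E T O φ c lam) {t : H} (ht : t ∈ T) : c * t * c⁻¹ ∈ T :=
  Pre.mem_T_conj h.c_norm ht

theorem pow_c_norm (h : NodeL E T O φ c lam) (k : ℕ) : c ^ k ∈ normalizer (T : Set H) :=
  pow_mem h.c_norm k

/-- commutators of `B` lie in `T` -/
theorem comm_mem (h : NodeL E T O φ c lam) {g k : H} (hg : g ∈ E) (hgN : g ∈ normalizer (T : Set H))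
    (hk : k ∈ E) (hkN : k ∈ normalizer (T : Set H)) : g * k * g⁻¹ * k⁻¹ ∈ T := by
  obtain ⟨m, t, ht, rfl⟩ := h.gen g hg hgN
  obtain ⟨n, s, hs, rfl⟩ := h.gen k hk hkN
  have h0 : c ^ m * c ^ n = c ^ n * c ^ m := by rw [← pow_add, ← pow_add, add_comm]
  have h1 : c ^ m * t * (c ^ n * s) * (c ^ m * t)⁻¹ * (c ^ n * s)⁻¹
      = (c ^ m * c ^ n) * (((c ^ n)⁻¹ * t * c ^ n) * s * t⁻¹ * ((c ^ m)⁻¹ * s⁻¹ * c ^ m))
        * (c ^ n * c ^ m)⁻¹ := by group
  rw [h1, h0]
  refine Pre.mem_T_conj (mul_mem (h.pow_c_norm n) (h.pow_c_norm m)) ?_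
  exact T.mul_mem (T.mul_mem (T.mul_mem (Pre.mem_T_conj' (h.pow_c_norm n) ht) hs) (T.inv_mem ht))
    (Pre.mem_T_conj' (h.pow_c_norm m) (T.inv_mem hs))

theorem pow_mem_T (h : NodeL E T O φ c lam) {g : H} (hg : g ∈ E) (hgN : g ∈ normalizer (T : Set H)) :
    g ^ (Nat.card F - 1) ∈ T := by
  obtain ⟨m, t, ht, rfl⟩ := h.gen g hg hgN
  have key : ∀ n : ℕ, ∃ s ∈ T, (c ^ m * t) ^ n = (c ^ m) ^ n * s := by
    intro n
    induction n with
    | zero => exact ⟨1, T.one_mem, by simp⟩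
    | succ n ih =>
      obtain ⟨s, hs, h1⟩ := ih
      refine ⟨((c ^ m)⁻¹ * s * c ^ m) * t, T.mul_mem (Pre.mem_T_conj' (h.pow_c_norm m) hs) ht, ?_⟩
      rw [pow_succ, h1, pow_succ]
      group
  obtain ⟨s, hs, h1⟩ := key (Nat.card F - 1)
  rw [h1, ← pow_mul, mul_comm m, pow_mul]
  exact T.mul_mem (pow_mem h.tor m) hs

/-- **LEMMA CUBE for a node.** -/
theorem cube [Finite F] [CharP F 2] (h : NodeL E T O φ c lam) (C : Cfg ρ b q a D X w)
    (hx : XCond ρ a X E T) {g : H} (hg : g ∈ E) (hgN : g ∈ normalizer (T : Set H)) :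
    ρ (g ^ 3) a = a := by
  have hodd : Odd (Nat.card F - 1) := by
    have : Fintype F := Fintype.ofFinite F
    have h1 : 2 ∣ Nat.card F := by
      rw [Nat.card_eq_fintype_card, ← CharP.cast_eq_zero_iff F 2]
      exact FiniteField.cast_card_eq_zero F
    have h2 : 0 < Nat.card F := Nat.card_pos
    obtain ⟨k, hk⟩ := h1
    exact ⟨k - 1, by omega⟩
  have hXN := Pre.X_le_N C hx
  refine C.cube (B := E ⊓ normalizer (T : Set H)) ?_ ?_ ?_ g ⟨hg, hgN⟩
  · intro x hxX g hg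
    exact ⟨hx.XE x hxX g hg.1,
      (normalizer (T : Set H)).mul_mem ((normalizer (T : Set H)).mul_mem (hXN hxX) hg.2)
        ((normalizer (T : Set H)).inv_mem (hXN hxX))⟩
  · intro g hg k hk
    exact hx.Ta _ (h.comm_mem hg.1 hg.2 hk.1 hk.2)
  · intro g hg
    exact ⟨_, hodd, hx.Ta _ (h.pow_mem_T hg.1 hg.2)⟩

/-- an additive subgroup of `F` closed under multiplication by the cube of a generator is `0` or `F` -/
theorem sub_all [Finite F] {lam : F} (hq : 8 ≤ Nat.card F) (h0 : lam ≠ 0)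
    (hlam : ∀ k : ℕ, lam ^ k = 1 → Nat.card F - 1 ∣ k)
    {A : AddSubgroup F} (hA : ∀ f ∈ A, lam ^ 3 * f ∈ A) : A = ⊥ ∨ A = ⊤ := by
  classical
  have : Fintype F := Fintype.ofFinite F
  have hnat : Nat.card F = Fintype.card F := Nat.card_eq_fintype_card
  let K : Subfield F :=
    { carrier := {r | ∀ f ∈ A, r * f ∈ A}
      mul_mem' := by
        intro r s hr hs f hf
        rw [mul_assoc]; exact hr _ (hs f hf)
      one_mem' := by intro f hf; rwa [one_mul]
      add_mem' := by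
        intro r s hr hs f hf
        rw [add_mul]; exact A.add_mem (hr f hf) (hs f hf)
      zero_mem' := by intro f _; rw [zero_mul]; exact A.zero_mem
      neg_mem' := by
        intro r hr f hf
        rw [neg_mul]; exact A.neg_mem (hr f hf)
      inv_mem' := by
        intro r hr
        by_cases h0 : r = 0
        · rw [h0, inv_zero]; intro f _; rw [zero_mul]; exact A.zero_mem
        · have h1 : r⁻¹ = r ^ (Fintype.card F - 2) := by
            have h2 := FiniteField.pow_card_sub_one_eq_one r h0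
            have h3 : Fintype.card F - 1 = (Fintype.card F - 2) + 1 := by omega
            rw [h3, pow_succ] at h2
            exact (eq_inv_of_mul_eq_one_left h2).symm
          rw [h1]
          have h4 : ∀ n : ℕ, ∀ f ∈ A, r ^ n * f ∈ A := by
            intro n
            induction n with
            | zero => intro f hf; rwa [pow_zero, one_mul]
            | succ n ih =>
              intro f hf
              rw [pow_succ, mul_assoc]
              exact ih _ (hr f hf)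
          exact h4 _ }
  have hmemK : ∀ r : F, r ∈ K ↔ ∀ f ∈ A, r * f ∈ A := fun r => Iff.rfl
  have hK3 : lam ^ 3 ∈ K := hA
  have : Fintype K := Fintype.ofFinite K
  have hk2 : 2 ≤ Fintype.card K := Fintype.one_lt_card
  have h1 : (⟨lam ^ 3, hK3⟩ : K) ^ (Fintype.card K - 1) = 1 := by
    apply FiniteField.pow_card_sub_one_eq_one
    intro h
    have := congrArg Subtype.val h
    exact pow_ne_zero 3 h0 this
  have h2 : lam ^ (3 * (Fintype.card K - 1)) = 1 := by
    have := congrArg Subtype.val h1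
    rw [pow_mul]
    simpa using this
  have h3 := Nat.le_of_dvd (by omega) (hlam _ h2)
  have h4 : Fintype.card F = Fintype.card K ^ Module.finrank K F := Module.card_eq_pow_finrank
  have hd : Module.finrank K F = 1 := by
    have hpos : 0 < Module.finrank K F := Module.finrank_pos
    by_contra hne
    have h5 : 2 ≤ Module.finrank K F := by omega
    have h6 : Fintype.card K ^ 2 ≤ Fintype.card F := by
      rw [h4]
      exact Nat.pow_le_pow_right (by omega) h5
    obtain ⟨k, hk⟩ : ∃ k, Fintype.card K = k + 2 := ⟨Fintype.card K - 2, by omega⟩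
    rw [hk] at h6 h3
    have h7 : Fintype.card F ≤ 3 * k + 4 := by omega
    have h8 : k = 0 := by nlinarith
    subst h8
    omega
  rw [hd, pow_one] at h4
  have htop : ∀ r : F, r ∈ K := by
    intro r
    by_contra hr
    have h5 : Fintype.card K < Fintype.card F :=
      Fintype.card_subtype_lt (p := fun x => x ∈ K) hr
    omega
  by_cases hb : A = ⊥
  · exact Or.inl hb
  right
  obtain ⟨f, hf, hf0⟩ : ∃ f ∈ A, f ≠ 0 := by
    by_contra hcon
    push Not at hcon
    exact hb (by rw [eq_bot_iff]; intro x hx; exact AddSubgroup.mem_bot.2 (hcon x hx))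
  rw [eq_top_iff]
  intro r _
  have := htop (r / f) f hf
  rwa [div_mul_cancel₀ r hf0] at this

/-- **cent**: `X` centralises `T/O`. -/
theorem cent [Finite F] [CharP F 2] (h : NodeL E T O φ c lam) (C : Cfg ρ b q a D X w)
    (hx : XCond ρ a X E T) (hq : 8 ≤ Nat.card F) : ∀ x ∈ X, ∀ t ∈ T, x * t * x⁻¹ * t⁻¹ ∈ O := by
  have hc3 : ρ (c ^ 3) a = a := h.cube C hx h.c_mem h.c_norm
  have hXN := Pre.X_le_N C hx
  -- the image of `X ∩ T`
  let A : AddSubgroup F :=
    { carrier := {f | ∃ y ∈ X, y ∈ T ∧ φ y = f}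
      add_mem' := by
        rintro _ _ ⟨y, hy, hyT, rfl⟩ ⟨z, hz, hzT, rfl⟩
        exact ⟨y * z, X.mul_mem hy hz, T.mul_mem hyT hzT, h.map_mul _ hyT _ hzT⟩
      zero_mem' := ⟨1, X.one_mem, T.one_mem, h.map_one⟩
      neg_mem' := by
        rintro _ ⟨y, hy, hyT, rfl⟩
        exact ⟨y⁻¹, X.inv_mem hy, T.inv_mem hyT, h.map_inv hyT⟩ }
  have hA : ∀ f ∈ A, lam ^ 3 * f ∈ A := by
    rintro _ ⟨y, hy, hyT, rfl⟩
    have h1 := h.conj_c hyT
    have h2 := h.conj_c h1
    have h3 := h.conj_c h2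
    have h4 : c * (c * (c * y * c⁻¹) * c⁻¹) * c⁻¹ = c ^ 3 * y * (c ^ 3)⁻¹ := by
      have h5 : c ^ 3 = c * c * c := by rw [pow_succ, sq]
      rw [h5]
      group
    refine ⟨c ^ 3 * y * (c ^ 3)⁻¹, C.X_norm _ hc3 y hy, h4 ▸ h3, ?_⟩
    rw [← h4, h.act _ h2, h.act _ h1, h.act _ hyT]
    ring
  -- `[X, T] ≤ X ∩ T`
  have hXT : ∀ x ∈ X, ∀ t ∈ T, x * t * x⁻¹ * t⁻¹ ∈ X ∧ x * t * x⁻¹ * t⁻¹ ∈ T := by
    intro x hxX t ht
    constructor
    · have h1 : x * t * x⁻¹ * t⁻¹ = x * (t * x⁻¹ * t⁻¹) := by group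
      rw [h1]
      exact X.mul_mem hxX (C.X_norm t (hx.Ta t ht) _ (X.inv_mem hxX))
    · exact T.mul_mem (hx.XT x hxX t ht) (T.inv_mem ht)
  rcases sub_all hq h.ne h.ord hA with hbot | htop
  · intro x hxX t ht
    obtain ⟨h1, h2⟩ := hXT x hxX t ht
    rw [← h.ker _ h2]
    have h3 : φ (x * t * x⁻¹ * t⁻¹) ∈ A := ⟨_, h1, h2, rfl⟩
    rw [hbot] at h3
    exact AddSubgroup.mem_bot.1 h3
  · intro x hxX t ht
    have h3 : φ t ∈ A := by rw [htop]; trivial
    obtain ⟨y, hy, hyT, hyt⟩ := h3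
    have ho : y⁻¹ * t ∈ O := by
      rw [← h.ker _ (T.mul_mem (T.inv_mem hyT) ht), h.map_mul _ (T.inv_mem hyT) _ ht, h.map_inv hyT,
        hyt]
      ring
    have hxo : x * (y⁻¹ * t) * x⁻¹ ∈ O :=
      h.norm_of (hx.XE x hxX) (Pre.XE' C hx hxX) (hXN hxX) ho
    have h4 : x * y * x⁻¹ = y := by rw [C.X_comm hxX hy, mul_inv_cancel_right]
    have h5 : x * t * x⁻¹ * t⁻¹ = y * ((x * (y⁻¹ * t) * x⁻¹) * (y⁻¹ * t)⁻¹) * y⁻¹ := by
      have h6 : x * t * x⁻¹ = (x * y * x⁻¹) * (x * (y⁻¹ * t) * x⁻¹) := by group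
      rw [h6, h4]
      group
    rw [h5]
    exact h.norm y (h.T_le hyT) _ (O.mul_mem hxo (O.inv_mem ho))

/-- `T/O` acts regularly on the points `≠ B` -/
theorem reg (h : NodeL E T O φ c lam) {g t : H} (hg : g ∈ E) (hgN : g ∉ normalizer (T : Set H))
    (ht : t ∈ T) (htg : g⁻¹ * t * g ∈ normalizer (T : Set H)) : t ∈ O := by
  refine h.core t (h.T_le ht) fun k hk => ?_
  by_cases hkN : k ∈ normalizer (T : Set H)
  · exact mul_mem (mul_mem (inv_mem hkN) (Pre.T_le_N ht)) hkN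
  obtain ⟨s, hs, hn⟩ := h.trans g hg hgN k hk hkN
  have h1 : k⁻¹ * t * k = ((s * g)⁻¹ * k)⁻¹ * ((g⁻¹ * t * g) * (g⁻¹ * (t⁻¹ * s⁻¹ * t * s) * g))
      * ((s * g)⁻¹ * k) := by group
  rw [h1]
  refine mul_mem (mul_mem (inv_mem hn) (mul_mem htg (Pre.T_le_N (h.O_le (h.norm' hg ?_))))) hn
  have := h.abel t⁻¹ (T.inv_mem ht) s⁻¹ (T.inv_mem hs)
  rwa [inv_inv, inv_inv] at this

/-- the number of points -/
theorem lt_relIndex [Finite F] (h : NodeL E T O φ c lam) {g : H} (hfin : Finite H) (hg : g ∈ E)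
    (hgN : g ∉ normalizer (T : Set H)) : Nat.card F < (normalizer (T : Set H)).relIndex E := by
  classical
  choose t ht htf using h.surj
  let f : Option F → E ⧸ (normalizer (T : Set H)).subgroupOf E := fun o =>
    match o with
    | none => QuotientGroup.mk 1
    | some z => QuotientGroup.mk ⟨t z * g, E.mul_mem (h.T_le (ht z)) hg⟩
  have hf : Function.Injective f := by
    intro x y hxy
    match x, y with
    | none, none => rfl
    | none, some z =>
      exfalso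
      have h1 := QuotientGroup.eq.1 hxy
      have h2 : t z * g ∈ normalizer (T : Set H) := by simpa [Subgroup.mem_subgroupOf] using h1
      apply hgN
      have h3 := mul_mem (inv_mem (Pre.T_le_N (ht z))) h2
      rwa [inv_mul_cancel_left] at h3
    | some z, none =>
      exfalso
      have h1 := QuotientGroup.eq.1 hxy.symm
      have h2 : t z * g ∈ normalizer (T : Set H) := by simpa [Subgroup.mem_subgroupOf] using h1
      apply hgN
      have h3 := mul_mem (inv_mem (Pre.T_le_N (ht z))) h2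
      rwa [inv_mul_cancel_left] at h3
    | some z, some z' =>
      have h1 := QuotientGroup.eq.1 hxy
      have h2 : (t z * g)⁻¹ * (t z' * g) ∈ normalizer (T : Set H) := h1
      have h3 : g⁻¹ * ((t z)⁻¹ * t z') * g ∈ normalizer (T : Set H) := by
        have : g⁻¹ * ((t z)⁻¹ * t z') * g = (t z * g)⁻¹ * (t z' * g) := by group
        rwa [this]
      have h4 := h.reg hg hgN (T.mul_mem (T.inv_mem (ht z)) (ht z')) h3
      rw [← h.ker _ (T.mul_mem (T.inv_mem (ht z)) (ht z')), h.map_mul _ (T.inv_mem (ht z)) _ (ht z'),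
        h.map_inv (ht z), htf, htf] at h4
      have : z = z' := by linear_combination -h4
      rw [this]
  have h1 := Nat.card_le_card_of_injective f hf
  rw [Finite.card_option] at h1
  exact h1

/-- **LEMMA NODE**: an `L₂(q)`-node with `q ≥ 8` fixes `a`. -/
theorem fix [Finite F] [CharP F 2] (h : NodeL E T O φ c lam) (C : Cfg ρ b q a D X w)
    (hx : XCond ρ a X E T) (hq : 8 ≤ Nat.card F) : ∀ g ∈ E, ρ g a = a := by
  have hB := h.fixB C hx h.abel (h.cent C hx hq)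
  by_cases hall : ∀ g ∈ E, g ∈ normalizer (T : Set H)
  · exact fun g hg => hB g hg (hall g hg)
  push Not at hall
  obtain ⟨g, hg, hgN⟩ := hall
  exact h.fixE C hx hB (by have := h.lt_relIndex C.finite_H hg hgN; omega)

/-- the same with the centralising property as hypothesis (`q ≥ 8` only for the last step) -/
theorem fix_of_cent [Finite F] (h : NodeL E T O φ c lam) (C : Cfg ρ b q a D X w)
    (hx : XCond ρ a X E T) (hq : 5 ≤ Nat.card F)
    (hcent : ∀ x ∈ X, ∀ t ∈ T, x * t * x⁻¹ * t⁻¹ ∈ O) : ∀ g ∈ E, ρ g a = a := by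
  have hB := h.fixB C hx h.abel hcent
  by_cases hall : ∀ g ∈ E, g ∈ normalizer (T : Set H)
  · exact fun g hg => hB g hg (hall g hg)
  push Not at hall
  obtain ⟨g, hg, hgN⟩ := hall
  exact h.fixE C hx hB (by have := h.lt_relIndex C.finite_H hg hgN; omega)

end NodeL

end Cfsg.Agent.Omega.EH3
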