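import Cfsg.Agent.Omega.EH3.NodeL

/-!
# LEMMA NODE: the Suzuki version, and swapped nodes (blueprint OMEGA-FF2b-helper796, (2S), (3))

* `Pre.fixB_of_coprime` : `N_E(T)/T` abelian of order prime to `6` : `N_E(T)` fixes `a`;
* `Pre.fix_of_coprime` : `E` fixes `a` if moreover `|E : N_E(T)| > 5`;
* `Swap` : two nodes `E₁, E₂` over the same `T`, interchanged by an element `s` with `s a = a`; `(R)` : involutions of `T`
  lie in `O₁ ∪ O₂`. Then `X` normalises both nodes and `[T, X] ≤ O₁ ∩ O₂`.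
-/

set_option autoImplicit false

namespace Cfsg.Agent.Omega.EH3

open Subgroup

namespace Pre

variable {H V : Type*} [Group H] [AddCommGroup V] [Module (ZMod 2) V]
  {ρ : H →* (V ≃ₗ[ZMod 2] V)} {b : LinearMap.BilinForm (ZMod 2) V} {q : V → ZMod 2}
  {a : V} {D : Submodule (ZMod 2) V} {X : Subgroup H} {w : ℕ} {E T O : Subgroup H}

/-- `B/T` abelian of order prime to 6: `B` fixes `a`. -/
theorem fixB_of_coprime (C : Cfg ρ b q a D X w) (hx : XCond ρ a X E T)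
    (hcomm : ∀ g ∈ E, g ∈ normalizer (T : Set H) → ∀ k ∈ E, k ∈ normalizer (T : Set H) →
      g * k * g⁻¹ * k⁻¹ ∈ T)
    (hord : ∀ g ∈ E, g ∈ normalizer (T : Set H) → ∃ m : ℕ, Odd m ∧ Nat.Coprime m 3 ∧ g ^ m ∈ T) :
    ∀ g ∈ E, g ∈ normalizer (T : Set H) → ρ g a = a := by
  intro g hg hgN
  have hXN := Pre.X_le_N C hx
  have h3 : ρ (g ^ 3) a = a := by
    refine C.cube (B := E ⊓ normalizer (T : Set H)) ?_ ?_ ?_ g ⟨hg, hgN⟩
    · intro x hxX g hg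
      exact ⟨hx.XE x hxX g hg.1,
        (normalizer (T : Set H)).mul_mem ((normalizer (T : Set H)).mul_mem (hXN hxX) hg.2)
          ((normalizer (T : Set H)).inv_mem (hXN hxX))⟩
    · intro g hg k hk
      exact hx.Ta _ (hcomm g hg.1 hg.2 k hk.1 hk.2)
    · intro g hg
      obtain ⟨m, hm, -, h⟩ := hord g hg.1 hg.2
      exact ⟨m, hm, hx.Ta _ h⟩
  obtain ⟨m, -, hm, hgm⟩ := hord g hg hgN
  -- the powers of `g` fixing `a`
  have h1 : g ^ 3 ∈ stab ρ a := h3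
  have h2 : g ^ m ∈ stab ρ a := hx.Ta _ hgm
  have h4 : g ^ (Int.gcd m 3 : ℤ) ∈ stab ρ a := by
    rw [Int.gcd_eq_gcd_ab, zpow_add, zpow_mul, zpow_mul]
    refine mul_mem (zpow_mem ?_ _) (zpow_mem ?_ _)
    · simpa using h2
    · exact_mod_cast h1
  have h5 : Int.gcd m 3 = 1 := by
    have : Int.gcd (m : ℤ) (3 : ℤ) = Nat.gcd m 3 := rfl
    rw [this]; exact hm
  rw [h5] at h4
  have h6 : g ∈ stab ρ a := by simpa using h4
  exact h6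

/-- **LEMMA NODE**, Suzuki version. -/
theorem fix_of_coprime (C : Cfg ρ b q a D X w) (h : Pre E T O) (hx : XCond ρ a X E T)
    (hcomm : ∀ g ∈ E, g ∈ normalizer (T : Set H) → ∀ k ∈ E, k ∈ normalizer (T : Set H) →
      g * k * g⁻¹ * k⁻¹ ∈ T)
    (hord : ∀ g ∈ E, g ∈ normalizer (T : Set H) → ∃ m : ℕ, Odd m ∧ Nat.Coprime m 3 ∧ g ^ m ∈ T)
    (hcard : 5 < (normalizer (T : Set H)).relIndex E) : ∀ g ∈ E, ρ g a = a :=
  h.fixE C hx (fixB_of_coprime C hx hcomm hord) hcard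

end Pre

/-- Two nodes over the same 2-group `T`, with the fact (R) on the involutions of `T`. -/
structure TwoPre {H : Type*} [Group H] (E₁ E₂ T O₁ O₂ : Subgroup H) : Prop where
  one : Pre E₁ T O₁
  two : Pre E₂ T O₂
  R : ∀ t ∈ T, t * t = 1 → t ∈ O₁ ∨ t ∈ O₂

namespace TwoPre

variable {H V : Type*} [Group H] [AddCommGroup V] [Module (ZMod 2) V]
  {ρ : H →* (V ≃ₗ[ZMod 2] V)} {b : LinearMap.BilinForm (ZMod 2) V} {q : V → ZMod 2}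
  {a : V} {D : Submodule (ZMod 2) V} {X : Subgroup H} {w : ℕ} {E₁ E₂ T O₁ O₂ : Subgroup H}

theorem symm (h : TwoPre E₁ E₂ T O₁ O₂) : TwoPre E₂ E₁ T O₂ O₁ :=
  ⟨h.two, h.one, fun t ht h2 => (h.R t ht h2).symm⟩

/-- `X ∩ T` lies in `O₁` or in `O₂` -/
theorem X_inter (h : TwoPre E₁ E₂ T O₁ O₂) (C : Cfg ρ b q a D X w) :
    (∀ x ∈ X, x ∈ T → x ∈ O₁) ∨ (∀ x ∈ X, x ∈ T → x ∈ O₂) := by
  by_contra hcon
  push Not at hcon
  obtain ⟨⟨x, hx, hxT, hx1⟩, ⟨y, hy, hyT, hy2⟩⟩ := hcon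
  have hx2 : x ∈ O₂ := (h.R x hxT (C.X_sq x hx)).resolve_left hx1
  have hy1 : y ∈ O₁ := (h.R y hyT (C.X_sq y hy)).resolve_right hy2
  rcases h.R _ (T.mul_mem hxT hyT) (C.X_sq _ (X.mul_mem hx hy)) with h1 | h1
  · apply hx1
    have := O₁.mul_mem h1 (O₁.inv_mem hy1)
    rwa [mul_inv_cancel_right] at this
  · apply hy2
    have := O₂.mul_mem (O₂.inv_mem hx2) h1
    rwa [inv_mul_cancel_left] at this

/-- `[X, T] ≤ X ∩ T` if `X` normalises `T` and `T` fixes `a` -/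
theorem comm_mem (C : Cfg ρ b q a D X w) (hXT : ∀ x ∈ X, ∀ t ∈ T, x * t * x⁻¹ ∈ T)
    (hTa : ∀ t ∈ T, ρ t a = a) {x t : H} (hxX : x ∈ X) (ht : t ∈ T) :
    x * t * x⁻¹ * t⁻¹ ∈ X ∧ x * t * x⁻¹ * t⁻¹ ∈ T := by
  constructor
  · have h1 : x * t * x⁻¹ * t⁻¹ = x * (t * x⁻¹ * t⁻¹) := by group
    rw [h1]
    exact X.mul_mem hxX (C.X_norm t (hTa t ht) _ (X.inv_mem hxX))
  · exact T.mul_mem (hXT x hxX t ht) (T.inv_mem ht)

/-- an element of `X` does not interchange the two nodes -/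
theorem not_swap (h : TwoPre E₁ E₂ T O₁ O₂) (C : Cfg ρ b q a D X w)
    (hXT : ∀ x ∈ X, ∀ t ∈ T, x * t * x⁻¹ ∈ T) (hTa : ∀ t ∈ T, ρ t a = a)
    (hne : ∃ t ∈ O₁, t ∉ O₂) {x : H} (hxX : x ∈ X)
    (hsw : ∀ t, t ∈ O₁ ↔ x * t * x⁻¹ ∈ O₂) (hsw' : ∀ t, t ∈ O₂ ↔ x * t * x⁻¹ ∈ O₁) : False := by
  obtain ⟨t, ht, ht2⟩ := hne
  have htT := h.one.O_le ht
  obtain ⟨h1, h2⟩ := comm_mem C hXT hTa hxX htT
  have hxt2 : x * t * x⁻¹ ∈ O₂ := (hsw t).1 ht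
  have hxt1 : x * t * x⁻¹ ∉ O₁ := fun hc => ht2 ((hsw' t).2 hc)
  rcases h.R _ h2 (C.X_sq _ h1) with h3 | h3
  · apply hxt1
    have := O₁.mul_mem h3 ht
    rwa [inv_mul_cancel_right] at this
  · apply ht2
    have := O₂.mul_mem (O₂.inv_mem h3) hxt2
    have h4 : (x * t * x⁻¹ * t⁻¹)⁻¹ * (x * t * x⁻¹) = t := by group
    rwa [h4] at this

/-- If an element `s` normalising `X` and `T` interchanges `O₁` and `O₂`, then `X ∩ T ≤ O₁ ∩ O₂`. -/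
theorem X_inter_swap (h : TwoPre E₁ E₂ T O₁ O₂) (C : Cfg ρ b q a D X w) {s : H} (hs : ρ s a = a)
    (hsT' : ∀ t, t ∈ T → s⁻¹ * t * s ∈ T)
    (hsw : ∀ t, t ∈ O₁ ↔ s * t * s⁻¹ ∈ O₂) (hsw' : ∀ t, t ∈ O₂ ↔ s * t * s⁻¹ ∈ O₁) {x : H}
    (hx : x ∈ X) (hxT : x ∈ T) : x ∈ O₁ ∧ x ∈ O₂ := by
  have hs' : ρ s⁻¹ a = a := C.fix_inv hs
  rcases h.X_inter C with h1 | h1
  · refine ⟨h1 x hx hxT, ?_⟩
    have h2 := h1 (s⁻¹ * x * s) (by
      have := C.X_norm s⁻¹ hs' x hx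
      rwa [inv_inv] at this) (hsT' x hxT)
    rw [hsw] at h2
    have h3 : s * (s⁻¹ * x * s) * s⁻¹ = x := by group
    rwa [h3] at h2
  · refine ⟨?_, h1 x hx hxT⟩
    have h2 := h1 (s⁻¹ * x * s) (by
      have := C.X_norm s⁻¹ hs' x hx
      rwa [inv_inv] at this) (hsT' x hxT)
    rw [hsw'] at h2
    have h3 : s * (s⁻¹ * x * s) * s⁻¹ = x := by group
    rwa [h3] at h2

end TwoPre

end Cfsg.Agent.Omega.EH3
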