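import Mathlib
import Cfsg.Agent.LieExceptional.BNPairCore
import Cfsg.Agent.Omega.EH3.Perm

/-!
# Theorem ST (bb #12321): BN-pair residues moving `a` (helper324; typed by helper138)

* `Fr`: a finite 2-group `T`, transitive on a finite set `Y`, `f : Y → V` equivariant, `V` of exponent 2,
  `∑ f = a ≠ 0`.  Then `f` is a linearly independent family (`Fr.indep`, `Fr.inj`), `X ≤ T` with
  `C_V(X) ⊆ {0, a}` is transitive on `Y` (`Fr.trans`), and `|Y| ≤ 8`, `|Y| ≤ 4` (`card_le_eight`, `card_le_four`).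
* `sum_D`: for a BN-pair `P` of `L` acting on `V`, `B` fixing `a`, `∑_{c ∈ BsB/B} c a = a` for `s ∈ J`:
  `∑_{c ∈ BnB/B} c a = a` for all `n ∈ ⟨J⟩`.
* `Hyp.card_le`, `Hyp.single`, `Hyp.pair`, `Hyp.triple`: the nodes moving `a`: one node with `q ∈ {2, 4}` or two
  commuting nodes with `q = 2`.
-/

set_option autoImplicit false

namespace Cfsg.Agent.Omega.EH3.ST

open scoped Classical symmDiff
open MulAction Cfsg.Agent.Omega.EH3.Perm

section Abs

/-- The abstract situation. -/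
structure Fr (T : Type*) {Y V : Type*} [Group T] [MulAction T Y] [Fintype Y] [AddCommGroup V]
    [DistribMulAction T V] (f : Y → V) (a : V) : Prop where
  two : ∀ v : V, v + v = 0
  pg : IsPGroup 2 T
  tr : ∀ b c : Y, ∃ t : T, t • b = c
  eq : ∀ (t : T) (y : Y), f (t • y) = t • f y
  ne : a ≠ 0
  sum : ∑ y, f y = a

variable {T Y V : Type*} [Group T] [MulAction T Y] [Fintype Y] [AddCommGroup V]
  [DistribMulAction T V] {f : Y → V} {a : V}

theorem sum_image (h : Fr T f a) (t : T) (S : Finset Y) :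
    ∑ y ∈ S.image (fun y => t • y), f y = t • ∑ y ∈ S, f y := by
  rw [Finset.sum_image (fun x _ y _ hxy => MulAction.injective t hxy), Finset.smul_sum]
  exact Finset.sum_congr rfl fun y _ => h.eq t y

omit [Fintype Y] in
theorem sum_symmDiff' (h2 : ∀ v : V, v + v = 0) (S S' : Finset Y) :
    ∑ b ∈ S ∆ S', f b = ∑ b ∈ S, f b + ∑ b ∈ S', f b := by
  have h1 : ∑ b ∈ S, f b = ∑ b ∈ S \ S', f b + ∑ b ∈ S ∩ S', f b := by
    rw [← Finset.sum_union (Finset.disjoint_sdiff_inter S S'), Finset.sdiff_union_inter]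
  have h3 : ∑ b ∈ S', f b = ∑ b ∈ S' \ S, f b + ∑ b ∈ S ∩ S', f b := by
    rw [Finset.inter_comm, ← Finset.sum_union (Finset.disjoint_sdiff_inter S' S),
      Finset.sdiff_union_inter]
  have h4 : ∑ b ∈ S ∆ S', f b = ∑ b ∈ S \ S', f b + ∑ b ∈ S' \ S, f b := by
    rw [Finset.symmDiff_def, Finset.sum_union disjoint_sdiff_sdiff]
  rw [h1, h3, h4, add_add_add_comm, h2, add_zero]

/-- **ST (1)**: `f` is a linearly independent family. -/
theorem Fr.indep (h : Fr T f a) (S : Finset Y) (h0 : ∑ y ∈ S, f y = 0) : S = ∅ := by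
  by_contra hne
  let α := {S : Finset Y // ∑ y ∈ S, f y = 0}
  let act : MulAction T α :=
    { smul := fun t S => ⟨S.1.image (fun v => t • v), by
        rw [sum_image h, S.2, smul_zero]⟩
      one_smul := by
        intro S
        apply Subtype.ext
        show S.1.image (fun v => (1 : T) • v) = S.1
        simp
      mul_smul := by
        intro t u S
        apply Subtype.ext
        show S.1.image (fun v => (t * u) • v)
          = (S.1.image (fun v => u • v)).image (fun v => t • v)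
        rw [Finset.image_image]
        congr 1
        funext v
        simp [mul_smul] }
  have hfin : Finite α := inferInstance
  have : Fintype α := Fintype.ofFinite α
  have heven : 2 ∣ Nat.card α := by
    have h1 : ((Fintype.card α : ℕ) : ZMod 2) = 0 := by
      have := Finset.sum_involution (s := (Finset.univ : Finset α)) (f := fun _ => (1 : ZMod 2))
        (fun R _ => (⟨R.1 ∆ S, by rw [sum_symmDiff' h.two, R.2, h0, add_zero]⟩ : α))
        (fun _ _ => by decide) (fun R _ _ hR => hne (by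
          have : R.1 ∆ S = R.1 := congrArg Subtype.val hR
          have h5 := congrArg (fun X => R.1 ∆ X) this
          simpa [symmDiff_symmDiff_cancel_left] using h5)) (fun _ _ => Finset.mem_univ _)
        (fun R _ => Subtype.ext (by
          show (R.1 ∆ S) ∆ S = R.1
          rw [symmDiff_assoc, symmDiff_self, symmDiff_bot]))
      simpa using this
    rw [Nat.card_eq_fintype_card]
    exact (ZMod.natCast_eq_zero_iff _ _).1 h1
  have hfix0 : (⟨∅, by simp⟩ : α) ∈ fixedPoints T α := by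
    intro t
    apply Subtype.ext
    show (∅ : Finset Y).image (fun v => t • v) = ∅
    simp
  have : Fact (Nat.Prime 2) := ⟨Nat.prime_two⟩
  obtain ⟨R, hR, hR0⟩ := h.pg.exists_fixed_point_of_prime_dvd_card_of_fixed_point α heven hfix0
  have hRne : R.1.Nonempty := by
    rw [Finset.nonempty_iff_ne_empty]
    intro he
    exact hR0 (Subtype.ext he.symm)
  obtain ⟨c, hc⟩ := hRne
  have hall : R.1 = Finset.univ := by
    ext b
    refine ⟨fun _ => Finset.mem_univ _, fun _ => ?_⟩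
    obtain ⟨t, rfl⟩ := h.tr c b
    have h5 : R.1.image (fun v => t • v) = R.1 := congrArg Subtype.val (hR t)
    rw [← h5]
    exact Finset.mem_image_of_mem _ hc
  apply h.ne
  rw [← h.sum, ← hall, R.2]

/-- **ST (2)**: `f` is injective. -/
theorem Fr.inj (h : Fr T f a) : Function.Injective f := by
  intro y y' hy
  by_contra hne
  have h1 : ∑ b ∈ ({y, y'} : Finset Y), f b = 0 := by
    rw [Finset.sum_pair hne, hy, h.two]
  have h2 := h.indep _ h1
  have h3 : y ∈ ({y, y'} : Finset Y) := Finset.mem_insert_self _ _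
  rw [h2] at h3
  exact Finset.notMem_empty _ h3

theorem Fr.indepV (h : Fr T f a) (S : Finset V) (hS : ∀ b ∈ S, b ∈ Set.range f)
    (h0 : ∑ b ∈ S, b = 0) : S = ∅ := by
  have h1 : S = (Finset.univ.filter (fun y => f y ∈ S)).image f := by
    ext b
    simp only [Finset.mem_image, Finset.mem_filter, Finset.mem_univ, true_and]
    constructor
    · intro hb
      obtain ⟨y, rfl⟩ := hS b hb
      exact ⟨y, hb, rfl⟩
    · rintro ⟨y, hy, rfl⟩
      exact hy
  have h2 : ∑ y ∈ Finset.univ.filter (fun y => f y ∈ S), f y = 0 := by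
    rw [h1, Finset.sum_image (fun x _ y _ hxy => h.inj hxy)] at h0
    exact h0
  rw [h1, h.indep _ h2, Finset.image_empty]

/-- **ST (3)**: the number of `X`-orbits on `Y` is at most `dim C_V(X)`. -/
theorem Fr.two_pow_orbits_le [Finite V] (h : Fr T f a) (X : Subgroup T) :
    2 ^ Nat.card (orbitRel.Quotient X Y) ≤ Nat.card {v : V // ∀ x ∈ X, x • v = v} := by
  have hQ : Finite (orbitRel.Quotient X Y) := Quotient.finite _
  have : Fintype (orbitRel.Quotient X Y) := Fintype.ofFinite _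
  let g : Finset (orbitRel.Quotient X Y) → {v : V // ∀ x ∈ X, x • v = v} := fun O =>
    ⟨∑ y ∈ Finset.univ.filter (fun y : Y => (Quotient.mk'' y : orbitRel.Quotient X Y) ∈ O), f y, by
      intro x hx
      rw [← sum_image h]
      congr 1
      ext y
      simp only [Finset.mem_image, Finset.mem_filter, Finset.mem_univ, true_and]
      have hq : ∀ z : Y, (Quotient.mk'' (x • z) : orbitRel.Quotient X Y) = Quotient.mk'' z := by
        intro z
        apply Quotient.sound'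
        exact ⟨⟨x, hx⟩, rfl⟩
      constructor
      · rintro ⟨z, hz, rfl⟩
        rw [hq]
        exact hz
      · intro hy
        refine ⟨x⁻¹ • y, ?_, smul_inv_smul x y⟩
        rw [← hq, smul_inv_smul]
        exact hy⟩
  have hg : Function.Injective g := by
    intro O O' hO
    have h1 := congrArg Subtype.val hO
    have h2 : ∑ y ∈ (Finset.univ.filter (fun y : Y => (Quotient.mk'' y : orbitRel.Quotient X Y) ∈ O)) ∆
        (Finset.univ.filter (fun y : Y => (Quotient.mk'' y : orbitRel.Quotient X Y) ∈ O')), f y = 0 := by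
      rw [sum_symmDiff' h.two]
      have h3 : ∑ y ∈ Finset.univ.filter (fun y : Y => (Quotient.mk'' y : orbitRel.Quotient X Y) ∈ O), f y
        = ∑ y ∈ Finset.univ.filter (fun y : Y => (Quotient.mk'' y : orbitRel.Quotient X Y) ∈ O'), f y := h1
      rw [h3, h.two]
    have h3 := symmDiff_eq_bot.1 (h.indep _ h2)
    ext q
    induction q using Quotient.inductionOn' with
    | h y =>
      have h4 : y ∈ Finset.univ.filter (fun y : Y => (Quotient.mk'' y : orbitRel.Quotient X Y) ∈ O) ↔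
        y ∈ Finset.univ.filter (fun y : Y => (Quotient.mk'' y : orbitRel.Quotient X Y) ∈ O') := by rw [h3]
      simpa using h4
  have h1 := Nat.card_le_card_of_injective g hg
  rwa [Nat.card_eq_fintype_card (α := Finset _), Fintype.card_finset, ← Nat.card_eq_fintype_card] at h1

/-- **ST (4)**: `X` is transitive on `Y`. -/
theorem Fr.trans (h : Fr T f a) (X : Subgroup T)
    (hX : ∀ v : V, (∀ x ∈ X, x • v = v) → v = 0 ∨ v = a) (b c : Y) : ∃ x ∈ X, x • b = c := by
  let O : Finset Y := (Set.toFinite (orbit X b)).toFinset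
  have hbO : b ∈ O := (Set.Finite.mem_toFinset _).2 (mem_orbit_self b)
  have hfix : ∀ x ∈ X, x • ∑ d ∈ O, f d = ∑ d ∈ O, f d := by
    intro x hx
    rw [← sum_image h]
    congr 1
    ext d
    simp only [Finset.mem_image]
    constructor
    · rintro ⟨e, he, rfl⟩
      obtain ⟨y, rfl⟩ := mem_orbit_iff.1 ((Set.Finite.mem_toFinset _).1 he)
      exact (Set.Finite.mem_toFinset _).2 ⟨(⟨x, hx⟩ : X) * y, mul_smul _ _ _⟩
    · intro hd
      obtain ⟨y, rfl⟩ := mem_orbit_iff.1 ((Set.Finite.mem_toFinset _).1 hd)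
      refine ⟨((⟨x, hx⟩ : X)⁻¹ * y) • b, (Set.Finite.mem_toFinset _).2 (mem_orbit _ _), ?_⟩
      show x • ((⟨x, hx⟩ : X)⁻¹ * y) • b = y • b
      rw [mul_smul]
      exact smul_inv_smul x _
  rcases hX _ hfix with h1 | h1
  · have := h.indep O h1
    rw [this] at hbO
    exact absurd hbO (Finset.notMem_empty b)
  · have h2 : ∑ d ∈ O ∆ Finset.univ, f d = 0 := by
      rw [sum_symmDiff' h.two, h1, h.sum, h.two]
    have h4 : O = Finset.univ := symmDiff_eq_bot.1 (h.indep _ h2)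
    have h5 : c ∈ O := by rw [h4]; exact Finset.mem_univ _
    obtain ⟨x, hx⟩ := mem_orbit_iff.1 ((Set.Finite.mem_toFinset _).1 h5)
    exact ⟨x, x.2, hx⟩

/-- **ST (5)**: growing the orbit. -/
theorem Fr.grow' (h : Fr T f a) (X : Subgroup T) (htr : ∀ b c : Y, ∃ x ∈ X, x • b = c)
    (hc : ∀ x ∈ X, ∀ y ∈ X, x * y = y * x) (hs : ∀ x ∈ X, x * x = 1) {c : V}
    (hcP : c ∈ Set.range f) {S : Finset V} (hG : Good X S c) (hS : ∀ b ∈ S, b ∈ Set.range f)
    (hlt : S.card < Fintype.card Y) :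
    ∃ x ∈ X, ∃ S' : Finset V, Good X S' c ∧ (∀ b ∈ S', b ∈ Set.range f) ∧ S'.card = 2 * S.card ∧
      ∑ b ∈ S', b = dl x (∑ b ∈ S, b) := by
  have h1 : ∃ d : Y, f d ∉ S := by
    by_contra h2
    push Not at h2
    have h3 : Finset.univ.image f ⊆ S := by
      intro v hv
      obtain ⟨y, -, rfl⟩ := Finset.mem_image.1 hv
      exact h2 y
    have h4 := Finset.card_le_card h3
    rw [Finset.card_image_of_injective _ h.inj, Finset.card_univ] at h4
    omega
  obtain ⟨d, hdS⟩ := h1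
  obtain ⟨c0, rfl⟩ := hcP
  obtain ⟨x, hx, rfl⟩ := htr c0 d
  rw [h.eq] at hdS
  obtain ⟨hG', hdis⟩ := hG.step hc hs hx hdS
  refine ⟨x, hx, _, hG', ?_, ?_, sum_step hdis⟩
  · intro b hb
    rcases Finset.mem_union.1 hb with hb | hb
    · exact hS b hb
    · obtain ⟨u, hu, rfl⟩ := Finset.mem_image.1 hb
      obtain ⟨y, rfl⟩ := hS u hu
      exact ⟨x • y, h.eq x y⟩
  · rw [Finset.card_union_of_disjoint hdis, Finset.card_image_of_injective _ (MulAction.injective x)]
    omega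

/-- **ST (6)**: `[Y, X, X, X, X] = 0` implies `|Y| ≤ 8` (`X` transitive on `Y`). -/
theorem Fr.card_le_eight' (h : Fr T f a) (X : Subgroup T) (htr : ∀ b c : Y, ∃ x ∈ X, x • b = c)
    (hc : ∀ x ∈ X, ∀ y ∈ X, x * y = y * x) (hs : ∀ x ∈ X, x * x = 1)
    (h4 : ∀ x₁ ∈ X, ∀ x₂ ∈ X, ∀ x₃ ∈ X, ∀ x₄ ∈ X, ∀ v : V,
      dl x₄ (dl x₃ (dl x₂ (dl x₁ v))) = 0) : Fintype.card Y ≤ 8 := by
  by_contra hgt
  push Not at hgt
  have : Nonempty Y := Fintype.card_pos_iff.1 (by omega)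
  obtain ⟨y0⟩ := this
  have hcP : f y0 ∈ Set.range f := ⟨y0, rfl⟩
  have hS0 : ∀ b ∈ ({f y0} : Finset V), b ∈ Set.range f := by
    intro b hb
    rw [Finset.mem_singleton] at hb
    rwa [hb]
  obtain ⟨x₁, hx₁, S₁, g₁, p₁, c₁, s₁⟩ := h.grow' X htr hc hs hcP (Good.base X _) hS0
    (by rw [Finset.card_singleton]; omega)
  rw [Finset.card_singleton] at c₁
  obtain ⟨x₂, hx₂, S₂, g₂, p₂, c₂, s₂⟩ := h.grow' X htr hc hs hcP g₁ p₁ (by omega)
  obtain ⟨x₃, hx₃, S₃, g₃, p₃, c₃, s₃⟩ := h.grow' X htr hc hs hcP g₂ p₂ (by omega)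
  obtain ⟨x₄, hx₄, S₄, g₄, p₄, c₄, s₄⟩ := h.grow' X htr hc hs hcP g₃ p₃ (by omega)
  have h5 := h4 x₁ hx₁ x₂ hx₂ x₃ hx₃ x₄ hx₄ (f y0)
  rw [s₃, s₂, s₁, Finset.sum_singleton, h5] at s₄
  have := h.indepV S₄ p₄ s₄
  rw [this, Finset.card_empty] at c₄
  omega

/-- **ST (7)**: `[f y0, X, X, X] = 0` implies `|Y| ≤ 4` (`X` transitive on `Y`). -/
theorem Fr.card_le_four' (h : Fr T f a) (X : Subgroup T) (htr : ∀ b c : Y, ∃ x ∈ X, x • b = c)
    (hc : ∀ x ∈ X, ∀ y ∈ X, x * y = y * x) (hs : ∀ x ∈ X, x * x = 1) (y0 : Y)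
    (h3 : ∀ x₁ ∈ X, ∀ x₂ ∈ X, ∀ x₃ ∈ X, dl x₃ (dl x₂ (dl x₁ (f y0))) = 0) :
    Fintype.card Y ≤ 4 := by
  by_contra hgt
  push Not at hgt
  have hcP : f y0 ∈ Set.range f := ⟨y0, rfl⟩
  have hS0 : ∀ b ∈ ({f y0} : Finset V), b ∈ Set.range f := by
    intro b hb
    rw [Finset.mem_singleton] at hb
    rwa [hb]
  obtain ⟨x₁, hx₁, S₁, g₁, p₁, c₁, s₁⟩ := h.grow' X htr hc hs hcP (Good.base X _) hS0
    (by rw [Finset.card_singleton]; omega)
  rw [Finset.card_singleton] at c₁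
  obtain ⟨x₂, hx₂, S₂, g₂, p₂, c₂, s₂⟩ := h.grow' X htr hc hs hcP g₁ p₁ (by omega)
  obtain ⟨x₃, hx₃, S₃, g₃, p₃, c₃, s₃⟩ := h.grow' X htr hc hs hcP g₂ p₂ (by omega)
  have h5 := h3 x₁ hx₁ x₂ hx₂ x₃ hx₃
  rw [s₂, s₁, Finset.sum_singleton, h5] at s₃
  have := h.indepV S₃ p₃ s₃
  rw [this, Finset.card_empty] at c₃
  omega

theorem Fr.card_le_eight (h : Fr T f a) (X : Subgroup T)
    (hX : ∀ v : V, (∀ x ∈ X, x • v = v) → v = 0 ∨ v = a)
    (hc : ∀ x ∈ X, ∀ y ∈ X, x * y = y * x) (hs : ∀ x ∈ X, x * x = 1)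
    (h4 : ∀ x₁ ∈ X, ∀ x₂ ∈ X, ∀ x₃ ∈ X, ∀ x₄ ∈ X, ∀ v : V,
      dl x₄ (dl x₃ (dl x₂ (dl x₁ v))) = 0) : Fintype.card Y ≤ 8 :=
  h.card_le_eight' X (h.trans X hX) hc hs h4

theorem Fr.card_le_four (h : Fr T f a) (X : Subgroup T)
    (hX : ∀ v : V, (∀ x ∈ X, x • v = v) → v = 0 ∨ v = a)
    (hc : ∀ x ∈ X, ∀ y ∈ X, x * y = y * x) (hs : ∀ x ∈ X, x * x = 1) (y0 : Y)
    (h3 : ∀ x₁ ∈ X, ∀ x₂ ∈ X, ∀ x₃ ∈ X, dl x₃ (dl x₂ (dl x₁ (f y0))) = 0) :
    Fintype.card Y ≤ 4 :=
  h.card_le_four' X (h.trans X hX) hc hs y0 h3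

/-- The span of `f` has at most `2 ^ |Y|` elements. -/
theorem card_closure_le [Finite V] (h2 : ∀ v : V, v + v = 0) (f : Y → V) :
    Nat.card (AddSubgroup.closure (Set.range f)) ≤ 2 ^ Fintype.card Y := by
  have h1 : ∀ v ∈ AddSubgroup.closure (Set.range f), ∃ S : Finset Y, ∑ y ∈ S, f y = v := by
    intro v hv
    induction hv using AddSubgroup.closure_induction with
    | mem v hv =>
      obtain ⟨y, rfl⟩ := hv
      exact ⟨{y}, Finset.sum_singleton _ _⟩
    | zero => exact ⟨∅, Finset.sum_empty⟩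
    | add v w _ _ hv hw =>
      obtain ⟨S, rfl⟩ := hv
      obtain ⟨S', rfl⟩ := hw
      exact ⟨S ∆ S', sum_symmDiff' h2 S S'⟩
    | neg v _ hv =>
      obtain ⟨S, rfl⟩ := hv
      exact ⟨S, (neg_eq_of_add_eq_zero_left (h2 _)).symm⟩
  choose! g hg using h1
  have h3 : Function.Injective (fun v : AddSubgroup.closure (Set.range f) => g v) := by
    intro v w hvw
    apply Subtype.ext
    rw [← hg v v.2, ← hg w w.2]
    exact congrArg (fun S : Finset Y => ∑ y ∈ S, f y) hvw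
  have h4 := Nat.card_le_card_of_injective _ h3
  rwa [Nat.card_eq_fintype_card (α := Finset _), Fintype.card_finset] at h4

/-- **ST (8)**: the form for the main case. -/
theorem Fr.card_le_four_of_cyc [Finite V] (h : Fr T f a) (X : Subgroup T)
    (hX : ∀ v : V, (∀ x ∈ X, x • v = v) → v = 0 ∨ v = a)
    (hc : ∀ x ∈ X, ∀ y ∈ X, x * y = y * x) (hs : ∀ x ∈ X, x * x = 1)
    (h4 : ∀ x₁ ∈ X, ∀ x₂ ∈ X, ∀ x₃ ∈ X, ∀ x₄ ∈ X, ∀ v : V,
      dl x₄ (dl x₃ (dl x₂ (dl x₁ v))) = 0)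
    (hcyc : ∀ v : V, (∀ x₁ ∈ X, ∀ x₂ ∈ X, ∀ x₃ ∈ X, dl x₃ (dl x₂ (dl x₁ v)) = 0) ∨
      ∀ W : AddSubgroup V, (∀ x ∈ X, ∀ w ∈ W, x • w ∈ W) → v ∈ W → W = ⊤)
    (hbig : 2 ^ 8 < Nat.card V) : Fintype.card Y ≤ 4 := by
  have h8 := h.card_le_eight X hX hc hs h4
  by_contra hgt
  push Not at hgt
  have : Nonempty Y := Fintype.card_pos_iff.1 (by omega)
  obtain ⟨y0⟩ := this
  rcases hcyc (f y0) with h3 | h3
  · have := h.card_le_four X hX hc hs y0 h3
    omega
  · have h5 := h3 (AddSubgroup.closure (Set.range f)) (by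
      intro x hx w hw
      induction hw using AddSubgroup.closure_induction with
      | mem v hv =>
        obtain ⟨y, rfl⟩ := hv
        exact AddSubgroup.subset_closure ⟨x • y, h.eq x y⟩
      | zero => rw [smul_zero]; exact AddSubgroup.zero_mem _
      | add v w _ _ hv hw => rw [smul_add]; exact AddSubgroup.add_mem _ hv hw
      | neg v _ hv => rw [smul_neg]; exact AddSubgroup.neg_mem _ hv)
      (AddSubgroup.subset_closure ⟨y0, rfl⟩)
    have h6 := card_closure_le h.two f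
    rw [h5, AddSubgroup.card_top] at h6
    have h7 : 2 ^ Fintype.card Y ≤ 2 ^ 8 := Nat.pow_le_pow_right (by norm_num) h8
    omega

end Abs

section BN

open Cfsg Cfsg.Agent.LieExceptional.BNPairCore

variable {L V : Type*} [Group L] [AddCommGroup V] [DistribMulAction L V] {P : BNPair L} {a : V}

/-- `g B ↦ g a` -/
noncomputable def ph (P : BNPair L) (a : V) (c : L ⧸ P.B) : V := c.out • a

theorem ph_mk (hB : ∀ b ∈ P.B, b • a = a) (g : L) :
    ph P a (QuotientGroup.mk g) = g • a := by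
  obtain ⟨b, hb⟩ := QuotientGroup.mk_out_eq_mul P.B g
  show (QuotientGroup.mk g : L ⧸ P.B).out • a = _
  rw [hb, mul_smul, hB _ b.2]

theorem ph_smul (hB : ∀ b ∈ P.B, b • a = a) (g : L) (c : L ⧸ P.B) :
    ph P a (g • c) = g • ph P a c := by
  induction c using QuotientGroup.induction_on with
  | H x =>
    rw [show g • (QuotientGroup.mk x : L ⧸ P.B) = QuotientGroup.mk (g * x) from rfl, ph_mk hB,
      ph_mk hB, mul_smul]

/-- The set `B n B / B`. -/
def D (P : BNPair L) (n : L) : Set (L ⧸ P.B) := {c | ∃ b ∈ P.B, c = QuotientGroup.mk (b * n)}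

theorem mk_mem_D {n g : L} : (QuotientGroup.mk g : L ⧸ P.B) ∈ D P n ↔ g ∈ C P n := by
  constructor
  · rintro ⟨b, hb, h⟩
    have h1 := QuotientGroup.eq.1 h
    exact mem_C.2 ⟨b, hb, (g⁻¹ * (b * n))⁻¹, inv_mem h1, by group⟩
  · intro h
    obtain ⟨x, hx, y, hy, rfl⟩ := mem_C.1 h
    refine ⟨x, hx, ?_⟩
    rw [QuotientGroup.eq]
    have h1 : (x * n * y)⁻¹ * (x * n) = y⁻¹ := by group
    rw [h1]
    exact inv_mem hy

theorem out_mem_C {n : L} {c : L ⧸ P.B} (h : c ∈ D P n) : c.out ∈ C P n := by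
  rw [← mk_mem_D, QuotientGroup.out_eq']
  exact h

theorem D_congr {n n' : L} (h : n⁻¹ * n' ∈ P.B) : D P n = D P n' := by
  ext c
  induction c using QuotientGroup.induction_on with
  | H x => rw [mk_mem_D, mk_mem_D, C_eq_of_rel h]

theorem smul_mem_D {n : L} {b : L} (hb : b ∈ P.B) {c : L ⧸ P.B} (h : c ∈ D P n) : b • c ∈ D P n := by
  obtain ⟨x, hx, rfl⟩ := h
  exact ⟨b * x, mul_mem hb hx, by rw [mul_assoc]; rfl⟩

/-- `s B s ⊆ B ∪ B s B`, in the form used below. -/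
theorem inv_mul_mem {s : L} (hs : s ∈ P.S) {g g' : L} (hg : g ∈ C P s) (hg' : g' ∈ C P s) :
    g'⁻¹ * g ∈ P.B ∨ g'⁻¹ * g ∈ C P s := by
  obtain ⟨x, hx, y, hy, rfl⟩ := mem_C.1 hg
  obtain ⟨x', hx', y', hy', rfl⟩ := mem_C.1 hg'
  have h1 : (x' * s * y')⁻¹ * (x * s * y) = (y'⁻¹ * (s * s)⁻¹) * (s * (x'⁻¹ * x) * s) * y := by group
  have hsq : s * s ∈ P.B := P.sq_mem s hs
  rcases axiom_left (P := P) hs (mem_N hs) (mul_mem (inv_mem hx') hx) with h | h
  · left
    rw [h1]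
    refine mul_mem (mul_mem (mul_mem (inv_mem hy') (inv_mem hsq)) ?_) hy
    exact mem_B_of_mem_C hsq h
  · right
    rw [h1]
    exact mul_mem_C_right hy (mul_mem_C_left (mul_mem (inv_mem hy') (inv_mem hsq)) h)

variable [Finite L]

/-- `BnB/B` as a finset. -/
noncomputable def Df (P : BNPair L) (n : L) : Finset (L ⧸ P.B) := (Set.toFinite (D P n)).toFinset

theorem mem_Df {n : L} {c : L ⧸ P.B} : c ∈ Df P n ↔ c ∈ D P n := Set.Finite.mem_toFinset _

theorem Df_congr {n n' : L} (h : n⁻¹ * n' ∈ P.B) : Df P n = Df P n' := by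
  ext c
  rw [mem_Df, mem_Df, D_congr h]

theorem Df_mul {s n : L} (hs : s ∈ P.S) (hn : n ∈ P.N) (hle : len P n ≤ len P (s * n)) :
    Df P (s * n) = (Df P s).biUnion fun x => (Df P n).image fun y => x.out • y := by
  ext c
  simp only [Finset.mem_biUnion, Finset.mem_image, mem_Df]
  constructor
  · rintro ⟨b, hb, rfl⟩
    obtain ⟨b', hb'⟩ := QuotientGroup.mk_out_eq_mul P.B (b * s)
    refine ⟨QuotientGroup.mk (b * s), ⟨b, hb, rfl⟩, QuotientGroup.mk ((b' : L)⁻¹ * n),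
      ⟨(b' : L)⁻¹, inv_mem b'.2, rfl⟩, ?_⟩
    rw [hb']
    show (QuotientGroup.mk (b * s * (b' : L) * ((b' : L)⁻¹ * n)) : L ⧸ P.B) = _
    congr 1
    group
  · rintro ⟨x, hx, y, hy, rfl⟩
    have h1 := out_mem_C hx
    obtain ⟨g, rfl⟩ := QuotientGroup.mk_surjective y
    rw [mk_mem_D] at hy
    show (QuotientGroup.mk (x.out * g) : L ⧸ P.B) ∈ _
    rw [mk_mem_D]
    obtain ⟨b1, hb1, b2, hb2, h2⟩ := mem_C.1 h1
    obtain ⟨b3, hb3, b4, hb4, rfl⟩ := mem_C.1 hy
    rw [h2]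
    have h3 : b1 * s * b2 * (b3 * n * b4) = b1 * (s * (b2 * b3) * n) * b4 := by group
    rw [h3]
    exact mul_mem_C_right hb4 (mul_mem_C_left hb1 (mul_mem_C_of_le hs hn (mul_mem hb2 hb3) hle))

theorem Df_disj {s n : L} (hs : s ∈ P.S) (hn : n ∈ P.N) (hle : len P n ≤ len P (s * n)) :
    ((Df P s : Finset (L ⧸ P.B)) : Set (L ⧸ P.B)).PairwiseDisjoint
      (fun x => (Df P n).image fun y => x.out • y) := by
  intro x hx x' hx' hne
  show Disjoint _ _
  rw [Finset.disjoint_left]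
  intro c hc hc'
  obtain ⟨y, hy, rfl⟩ := Finset.mem_image.1 hc
  obtain ⟨y', hy', h⟩ := Finset.mem_image.1 hc'
  have hx1 := out_mem_C (mem_Df.1 (Finset.mem_coe.1 hx))
  have hx1' := out_mem_C (mem_Df.1 (Finset.mem_coe.1 hx'))
  obtain ⟨g, rfl⟩ := QuotientGroup.mk_surjective y
  rw [mem_Df, mk_mem_D] at hy
  have h2 : y' = QuotientGroup.mk (x'.out⁻¹ * x.out * g) := by
    have : y' = x'.out⁻¹ • x.out • (QuotientGroup.mk g : L ⧸ P.B) := by
      rw [← h, inv_smul_smul]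
    rw [this, ← mul_smul]
    rfl
  rw [h2, mem_Df, mk_mem_D] at hy'
  rcases inv_mul_mem hs hx1 hx1' with h3 | h3
  · apply hne
    rw [← QuotientGroup.out_eq' x, ← QuotientGroup.out_eq' x']
    exact (QuotientGroup.eq.2 h3).symm
  · obtain ⟨b1, hb1, b2, hb2, h4⟩ := mem_C.1 h3
    obtain ⟨b3, hb3, b4, hb4, rfl⟩ := mem_C.1 hy
    have h5 : x'.out⁻¹ * x.out * (b3 * n * b4) = b1 * (s * (b2 * b3) * n) * b4 := by rw [h4]; group
    rw [h5] at hy'
    have h6 := mul_mem_C_right hb4 (mul_mem_C_left hb1 (mul_mem_C_of_le hs hn (mul_mem hb2 hb3) hle))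
    exact not_C_mul_left_eq hs hn (C_eq_of_mem_mem h6 hy')

/-- `|BsnB/B| = |BsB/B| |BnB/B|` for `l(sn) > l(n)`. -/
theorem card_mul {s n : L} (hs : s ∈ P.S) (hn : n ∈ P.N) (hle : len P n ≤ len P (s * n)) :
    (Df P (s * n)).card = (Df P s).card * (Df P n).card := by
  rw [Df_mul hs hn hle, Finset.card_biUnion (Df_disj hs hn hle)]
  have h : ∀ x ∈ Df P s, ((Df P n).image fun y => x.out • y).card = (Df P n).card := fun x _ =>
    Finset.card_image_of_injective _ (MulAction.injective x.out)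
  rw [Finset.sum_congr rfl h, Finset.sum_const, smul_eq_mul]

theorem sum_mul (hB : ∀ b ∈ P.B, b • a = a) {s n : L} (hs : s ∈ P.S) (hn : n ∈ P.N)
    (hle : len P n ≤ len P (s * n)) :
    ∑ c ∈ Df P (s * n), ph P a c = ∑ x ∈ Df P s, x.out • ∑ y ∈ Df P n, ph P a y := by
  rw [Df_mul hs hn hle, Finset.sum_biUnion (Df_disj hs hn hle)]
  refine Finset.sum_congr rfl fun x _ => ?_
  rw [Finset.sum_image (fun _ _ _ _ h => MulAction.injective _ h), Finset.smul_sum]
  exact Finset.sum_congr rfl fun y _ => ph_smul hB _ _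

theorem Df_one : Df P (1 : L) = {QuotientGroup.mk 1} := by
  ext c
  rw [mem_Df, Finset.mem_singleton]
  constructor
  · rintro ⟨b, hb, rfl⟩
    rw [QuotientGroup.eq]
    simpa using inv_mem hb
  · rintro rfl
    exact ⟨1, one_mem _, by rw [one_mul]⟩

/-- `∑_{c ∈ BnB/B} c a = a` along reduced words. -/
theorem sum_D_list (hB : ∀ b ∈ P.B, b • a = a) {J : Set L} (hJ : J ⊆ P.S)
    (h1 : ∀ s ∈ J, ∑ c ∈ Df P s, ph P a c = a) (l : List L) (hl : ∀ s ∈ l, s ∈ J)
    (hred : l.length = len P l.prod) : ∑ c ∈ Df P l.prod, ph P a c = a := by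
  induction l with
  | nil =>
    rw [List.prod_nil, Df_one, Finset.sum_singleton, ph_mk hB, one_smul]
  | cons s l ih =>
    have hs : s ∈ J := hl s (by simp)
    have hl' : ∀ x ∈ l, x ∈ J := fun x hx => hl x (by simp [hx])
    have hlS : ∀ x ∈ l, x ∈ P.S := fun x hx => hJ (hl' x hx)
    have hN : l.prod ∈ P.N := prod_mem_N hlS
    rw [List.prod_cons, List.length_cons] at hred
    have h2 := len_mul_left_le (P := P) (hJ hs) hN
    have h3 := len_prod_le (P := P) hlS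
    have h4 : l.length = len P l.prod := by omega
    rw [List.prod_cons, sum_mul hB (hJ hs) hN (by omega), ih hl' h4]
    exact h1 s hs

theorem sum_D (hB : ∀ b ∈ P.B, b • a = a) {J : Set L} (hJ : J ⊆ P.S)
    (h1 : ∀ s ∈ J, ∑ c ∈ Df P s, ph P a c = a) {n : L} (hn : n ∈ Subgroup.closure J) :
    ∑ c ∈ Df P n, ph P a c = a := by
  obtain ⟨l, hl, hlJ, h2⟩ := exists_reduced_of_mem hJ (Subgroup.mem_sup_left hn :
    n ∈ Subgroup.closure J ⊔ (P.B ⊓ P.N))
  rw [← Df_congr h2]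
  exact sum_D_list hB hJ h1 l hlJ (hl.trans (len_congr h2).symm)

/-! ### The nodes moving `a` -/

omit [Finite L] in
/-- The elements of `P_s` lie in `B ∪ B s B`. -/
theorem mem_parabolic_single {s g : L} (hs : s ∈ P.S) (hg : g ∈ P.parabolic {s}) :
    g ∈ P.B ∨ g ∈ C P s := by
  have hJ : ({s} : Set L) ⊆ P.S := Set.singleton_subset_iff.2 hs
  obtain ⟨n, hn, h⟩ := (mem_parabolic_iff hJ g).1 hg
  have h2 : ∀ n ∈ Subgroup.closure ({s} : Set L), n ∈ P.B ∨ s⁻¹ * n ∈ P.B := by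
    intro n hn
    have hsq : s * s ∈ P.B := P.sq_mem s hs
    rw [← Subgroup.zpowers_eq_closure, Subgroup.mem_zpowers_iff] at hn
    obtain ⟨k, rfl⟩ := hn
    have hz : ∀ m : ℤ, s ^ (2 * m) ∈ P.B := by
      intro m
      rw [zpow_mul, zpow_two]
      exact zpow_mem hsq m
    rcases Int.even_or_odd' k with ⟨m, rfl | rfl⟩
    · exact Or.inl (hz m)
    · right
      have : s⁻¹ * s ^ (2 * m + 1) = s ^ (2 * m) := by
        rw [zpow_add_one]
        have : s ^ (2 * m) * s = s * s ^ (2 * m) := (zpow_mul_comm s (2 * m) 1 |> fun h => by simpa using h)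
        rw [this, inv_mul_cancel_left]
      rw [this]
      exact hz m
  rcases h2 n hn with h3 | h3
  · exact Or.inl (mem_B_of_mem_C h3 h)
  · right
    rwa [C_eq_of_rel h3]

/-- The hypotheses of Theorem ST. -/
structure Hyp (P : BNPair L) (a : V) (T X : Subgroup L) (J : Set L) : Prop where
  two : ∀ v : V, v + v = 0
  pg : IsPGroup 2 T
  TB : T ≤ P.B
  split : ∀ b ∈ P.B, ∃ t ∈ T, t⁻¹ * b ∈ P.N
  fixB : ∀ b ∈ P.B, b • a = a
  XT : X ≤ T
  cen : ∀ v : V, (∀ x ∈ X, x • v = v) → v = 0 ∨ v = a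
  comm : ∀ x ∈ X, ∀ y ∈ X, x * y = y * x
  inv : ∀ x ∈ X, x * x = 1
  four : ∀ x₁ ∈ X, ∀ x₂ ∈ X, ∀ x₃ ∈ X, ∀ x₄ ∈ X, ∀ v : V, dl x₄ (dl x₃ (dl x₂ (dl x₁ v))) = 0
  cyc : ∀ v : V, (∀ x₁ ∈ X, ∀ x₂ ∈ X, ∀ x₃ ∈ X, dl x₃ (dl x₂ (dl x₁ v)) = 0) ∨
      ∀ W : AddSubgroup V, (∀ x ∈ X, ∀ w ∈ W, x • w ∈ W) → v ∈ W → W = ⊤
  big : 2 ^ 8 < Nat.card V
  JS : J ⊆ P.S
  mov : ∀ s ∈ J, s • a ≠ a

variable {T X : Subgroup L} {J : Set L}

omit [Finite L] in
/-- The elements of `BnB` map `a` into `T n a`. -/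
theorem Hyp.exists_T (h : Hyp P a T X J) {n : L} (hn : n ∈ P.N) {g : L} (hg : g ∈ C P n) :
    ∃ t ∈ T, (QuotientGroup.mk g : L ⧸ P.B) = QuotientGroup.mk (t * n) := by
  obtain ⟨b, hb, b', hb', rfl⟩ := mem_C.1 hg
  obtain ⟨t, ht, hN⟩ := h.split b hb
  refine ⟨t, ht, ?_⟩
  rw [QuotientGroup.eq]
  have h1 : (b * n * b')⁻¹ * (t * n) = b'⁻¹ * (n⁻¹ * (t⁻¹ * b) * n)⁻¹ := by group
  rw [h1]
  exact mul_mem (inv_mem hb') (inv_mem (conj_mem_inv hn (mul_mem (inv_mem (h.TB ht)) hb) hN))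

/-- `∑_{c ∈ BsB/B} c a = a` for `s ∈ J` (Theorem PERM). -/
theorem Hyp.sum_s [Finite V] (h : Hyp P a T X J) {s : L} (hs : s ∈ J) :
    ∑ c ∈ Df P s, ph P a c = a := by
  have hsS := h.JS hs
  have hJ : ({s} : Set L) ⊆ P.S := Set.singleton_subset_iff.2 hsS
  have hBP : P.B ≤ P.parabolic {s} := le_sup_left
  have hsP : s ∈ P.parabolic {s} := (mem_parabolic_gen_iff hJ hsS).2 rfl
  let T' : Subgroup (P.parabolic {s}) := T.subgroupOf (P.parabolic {s})
  let X' : Subgroup (P.parabolic {s}) := X.subgroupOf (P.parabolic {s})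
  -- elements of `P_s` moving `a`
  have hmov : ∀ g : L, g ∈ C P s → g • a ≠ a := by
    intro g hg he
    obtain ⟨b, hb, b', hb', rfl⟩ := mem_C.1 hg
    apply h.mov s hs
    rw [mul_smul, h.fixB b' hb', mul_smul] at he
    have h2 := congrArg (fun v => b⁻¹ • v) he
    simp only [inv_smul_smul, h.fixB b⁻¹ (inv_mem hb)] at h2
    exact h2
  have hsit : Sit T' a := by
    refine ⟨h.two, h.pg.comap_of_injective _ (Subgroup.subtype_injective _), ?_, ?_, ?_⟩
    · intro t ht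
      exact h.fixB (t : L) (h.TB (Subgroup.mem_subgroupOf.1 ht))
    · have key : ∀ b ∈ Pts (P.parabolic {s}) a, ∃ t ∈ T, b = t • s • a := by
        rintro b ⟨⟨g, rfl⟩, hb⟩
        rcases mem_parabolic_single hsS g.2 with hg | hg
        · exact absurd (h.fixB (g : L) hg) hb
        · obtain ⟨t, ht, h2⟩ := h.exists_T (mem_N hsS) hg
          refine ⟨t, ht, ?_⟩
          rw [← mul_smul, ← ph_mk h.fixB, ← h2, ph_mk h.fixB]
          rfl
      intro b hb c hc
      obtain ⟨t, ht, rfl⟩ := key b hb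
      obtain ⟨t', ht', rfl⟩ := key c hc
      have htT : t' * t⁻¹ ∈ T := T.mul_mem ht' (T.inv_mem ht)
      refine ⟨⟨t' * t⁻¹, hBP (h.TB htT)⟩, Subgroup.mem_subgroupOf.2 htT, ?_⟩
      show (t' * t⁻¹) • t • s • a = _
      rw [mul_smul, inv_smul_smul]
    · exact ⟨⟨s, hsP⟩, h.mov s hs⟩
  have h1 := hsit.sum_Pts X' (by
    intro v hv
    apply h.cen v
    intro x hx
    exact hv ⟨x, hBP (h.TB (h.XT hx))⟩ (Subgroup.mem_subgroupOf.2 hx))
  have himg : (Set.toFinite (Pts (P.parabolic {s}) a)).toFinset = (Df P s).image (ph P a) := by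
    ext v
    rw [Set.Finite.mem_toFinset, Finset.mem_image]
    constructor
    · rintro ⟨⟨g, rfl⟩, hb⟩
      rcases mem_parabolic_single hsS g.2 with hg | hg
      · exact absurd (h.fixB (g : L) hg) hb
      · exact ⟨QuotientGroup.mk (g : L), mem_Df.2 (mk_mem_D.2 hg), ph_mk h.fixB _⟩
    · rintro ⟨c, hc, rfl⟩
      obtain ⟨g, rfl⟩ := QuotientGroup.mk_surjective c
      rw [mem_Df, mk_mem_D] at hc
      rw [ph_mk h.fixB]
      refine ⟨⟨⟨g, ?_⟩, rfl⟩, hmov g hc⟩
      exact mem_of_mem_C' hBP hc hsP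
  have hinj : ∀ c ∈ Df P s, ∀ c' ∈ Df P s, ph P a c = ph P a c' → c = c' := by
    intro c hc c' hc' he
    obtain ⟨g, rfl⟩ := QuotientGroup.mk_surjective c
    obtain ⟨g', rfl⟩ := QuotientGroup.mk_surjective c'
    rw [mem_Df, mk_mem_D] at hc hc'
    rw [ph_mk h.fixB, ph_mk h.fixB] at he
    rcases inv_mul_mem hsS hc hc' with h3 | h3
    · exact (QuotientGroup.eq.2 h3).symm
    · exfalso
      apply hmov _ h3
      rw [mul_smul, he, inv_smul_smul]
  have h2 := Finset.sum_image (f := fun v : V => v) hinj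
  refine h2.symm.trans ?_
  rw [← himg]
  exact h1

/-- The action of `T` on `BnB/B`. -/
@[reducible] def actD (hTB : T ≤ P.B) (n : L) : MulAction T (D P n) where
  smul t c := ⟨(t : L) • c.1, smul_mem_D (hTB t.2) c.2⟩
  one_smul c := Subtype.ext (one_smul L c.1)
  mul_smul t u c := Subtype.ext (mul_smul (t : L) (u : L) c.1)

/-- **THEOREM ST**: `|BnB/B| ≤ 4` for all `n ∈ ⟨J⟩`. -/
theorem Hyp.card_le [Finite V] (h : Hyp P a T X J) (hne : J.Nonempty) {n : L}
    (hn : n ∈ Subgroup.closure J) : (Df P n).card ≤ 4 := by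
  have hnN : n ∈ P.N := (Subgroup.closure_le P.N).2 (fun s hs => mem_N (h.JS hs)) hn
  have ha : a ≠ 0 := by
    rintro rfl
    obtain ⟨s, hs⟩ := hne
    exact h.mov s hs (smul_zero s)
  let act := actD h.TB n
  have hfin : Fintype (D P n) := Fintype.ofFinite _
  have hfr : Fr T (fun c : D P n => ph P a c.1) a := by
    refine ⟨h.two, h.pg, ?_, ?_, ha, ?_⟩
    · have key : ∀ c : D P n, ∃ t : T, c.1 = QuotientGroup.mk ((t : L) * n) := by
        rintro ⟨c, hc⟩
        obtain ⟨g, rfl⟩ := QuotientGroup.mk_surjective c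
        obtain ⟨t, ht, h2⟩ := h.exists_T hnN (mk_mem_D.1 hc)
        exact ⟨⟨t, ht⟩, h2⟩
      intro b c
      obtain ⟨t, ht⟩ := key b
      obtain ⟨t', ht'⟩ := key c
      refine ⟨t' * t⁻¹, Subtype.ext ?_⟩
      show ((t' * t⁻¹ : T) : L) • b.1 = c.1
      rw [ht, ht']
      show (QuotientGroup.mk (((t' * t⁻¹ : T) : L) * ((t : L) * n)) : L ⧸ P.B) = _
      congr 1
      rw [Subgroup.coe_mul, Subgroup.coe_inv]
      group
    · intro t y
      exact ph_smul h.fixB (t : L) y.1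
    · have h1 := sum_D h.fixB h.JS (fun s hs => h.sum_s hs) hn
      exact (Finset.sum_subtype (Df P n) (fun c => mem_Df) (ph P a)).symm.trans h1
  have h1 := hfr.card_le_four_of_cyc (X.subgroupOf T) (by
      intro v hv
      apply h.cen v
      intro x hx
      exact hv ⟨x, h.XT hx⟩ (Subgroup.mem_subgroupOf.2 hx))
    (fun x hx y hy => Subtype.ext (h.comm x (Subgroup.mem_subgroupOf.1 hx) y (Subgroup.mem_subgroupOf.1 hy)))
    (fun x hx => Subtype.ext (h.inv x (Subgroup.mem_subgroupOf.1 hx)))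
    (fun x₁ h₁ x₂ h₂ x₃ h₃ x₄ h₄ v => h.four x₁ (Subgroup.mem_subgroupOf.1 h₁) x₂
      (Subgroup.mem_subgroupOf.1 h₂) x₃ (Subgroup.mem_subgroupOf.1 h₃) x₄ (Subgroup.mem_subgroupOf.1 h₄) v)
    (fun v => by
      rcases h.cyc v with h2 | h2
      · left
        intro x₁ h₁ x₂ h₂ x₃ h₃
        exact h2 x₁ (Subgroup.mem_subgroupOf.1 h₁) x₂ (Subgroup.mem_subgroupOf.1 h₂) x₃
          (Subgroup.mem_subgroupOf.1 h₃)
      · right
        intro W hW hv
        exact h2 W (fun x hx w hw => hW ⟨x, h.XT hx⟩ (Subgroup.mem_subgroupOf.2 hx) w hw) hv)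
    h.big
  have h2 : (Df P n).card = Fintype.card (D P n) := by
    rw [← Nat.card_eq_fintype_card, Nat.card_coe_set_eq]
    exact (Set.ncard_eq_toFinset_card (D P n) (Set.toFinite _)).symm
  rwa [h2]

/-- `q_s ≥ 2`. -/
theorem two_le_card {s : L} (hs : s ∈ P.S) : 2 ≤ (Df P s).card := by
  by_contra hlt
  push Not at hlt
  obtain ⟨b, hb, hC⟩ := exists_mem_C_self (P := P) hs
  have h1 : (QuotientGroup.mk s : L ⧸ P.B) ∈ Df P s := mem_Df.2 (mk_mem_D.2 (self_mem_C s))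
  have h2 : (QuotientGroup.mk (b * s) : L ⧸ P.B) ∈ Df P s :=
    mem_Df.2 (mk_mem_D.2 (mul_mem_C_left hb (self_mem_C s)))
  have h3 := Finset.card_le_one.1 (Nat.lt_succ_iff.1 hlt) _ h1 _ h2
  rw [QuotientGroup.eq] at h3
  have h4 : s * b * s ∈ P.B := by
    have : s * b * s = (s * s) * (s⁻¹ * (b * s)) := by group
    rw [this]
    exact mul_mem (P.sq_mem s hs) h3
  have h5 : s ∈ P.B := mem_of_mem_C le_rfl hC h4
  exact not_mem_B hs h5

/-- One node: `q_s ≤ 4`. -/
theorem Hyp.single [Finite V] (h : Hyp P a T X J) {s : L} (hs : s ∈ J) :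
    2 ≤ (Df P s).card ∧ (Df P s).card ≤ 4 :=
  ⟨two_le_card (h.JS hs), h.card_le ⟨s, hs⟩ (Subgroup.subset_closure hs)⟩

omit [Finite L] in
theorem len_two {s s' : L} (hs : s ∈ P.S) (hs' : s' ∈ P.S) (hne : s ≠ s') :
    len P s' ≤ len P (s * s') := by
  by_contra hlt
  push Not at hlt
  have h1 : len P (s * [s'].prod) ≤ len P [s'].prod := by
    rw [List.prod_singleton]; exact hlt.le
  obtain ⟨l₁, x, l₂, h2, h3⟩ := exchange hs [s'] (by simpa using hs') h1
  have h4 : l₁ = [] ∧ x = s' ∧ l₂ = [] := by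
    rcases l₁ with _ | ⟨y, l₁⟩
    · simpa [eq_comm] using h2
    · simp at h2
  obtain ⟨rfl, rfl, rfl⟩ := h4
  rw [List.prod_nil, mul_one, one_mul] at h3
  exact hne (P.inj s hs _ hs' h3)

/-- Two nodes: they commute and `q_s = q_s' = 2`. -/
theorem Hyp.pair [Finite V] (h : Hyp P a T X J) {s s' : L} (hs : s ∈ J) (hs' : s' ∈ J)
    (hne : s ≠ s') : (s * s')⁻¹ * (s' * s) ∈ P.B ∧ (Df P s).card = 2 ∧ (Df P s').card = 2 := by
  have hsS := h.JS hs
  have hsS' := h.JS hs'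
  have c1 := two_le_card hsS
  have c2 := two_le_card hsS'
  have hm : s * s' ∈ Subgroup.closure J :=
    mul_mem (Subgroup.subset_closure hs) (Subgroup.subset_closure hs')
  have c3 := h.card_le ⟨s, hs⟩ hm
  rw [card_mul hsS (mem_N hsS') (len_two hsS hsS' hne)] at c3
  refine ⟨?_, by nlinarith, by nlinarith⟩
  by_contra hcomm
  have h1 : len P (s * s') ≤ len P (s' * (s * s')) := by
    by_contra hlt
    push Not at hlt
    have h1 : len P (s' * [s, s'].prod) ≤ len P [s, s'].prod := by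
      simp only [List.prod_cons, List.prod_nil, mul_one]
      exact hlt.le
    obtain ⟨l₁, x, l₂, h2, h3⟩ := exchange hsS' [s, s'] (by
      intro y hy
      simp only [List.mem_cons, List.not_mem_nil, or_false] at hy
      rcases hy with rfl | rfl
      · exact hsS
      · exact hsS') h1
    rcases l₁ with _ | ⟨y, l₁⟩
    · simp only [List.nil_append, List.cons.injEq] at h2
      obtain ⟨rfl, -⟩ := h2
      rw [List.prod_nil, mul_one, one_mul] at h3
      exact hne (P.inj s' hsS' _ hsS h3).symm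
    · rcases l₁ with _ | ⟨z, l₁⟩
      · simp only [List.cons_append, List.nil_append, List.cons.injEq] at h2
        obtain ⟨rfl, rfl, -⟩ := h2
        rw [List.prod_singleton] at h3
        exact hcomm (rel_symm h3)
      · simp at h2
  have hm2 : s' * (s * s') ∈ Subgroup.closure J := mul_mem (Subgroup.subset_closure hs') hm
  have c4 := h.card_le ⟨s, hs⟩ hm2
  rw [card_mul hsS' (mul_mem (mem_N hsS) (mem_N hsS')) h1,
    card_mul hsS (mem_N hsS') (len_two hsS hsS' hne)] at c4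
  nlinarith

/-- There are no three nodes. -/
theorem Hyp.triple [Finite V] (h : Hyp P a T X J) {r s s' : L} (hr : r ∈ J) (hs : s ∈ J)
    (hs' : s' ∈ J) (h1 : r ≠ s) (h2 : r ≠ s') (h3 : s ≠ s') : False := by
  have hrS := h.JS hr
  have hsS := h.JS hs
  have hsS' := h.JS hs'
  have c1 := two_le_card hsS
  have c2 := two_le_card hsS'
  have c3 := two_le_card hrS
  have hcm := (h.pair hr hs h1).1
  have hle : len P (s * s') ≤ len P (r * (s * s')) := by
    by_contra hlt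
    push Not at hlt
    have h1' : len P (r * [s, s'].prod) ≤ len P [s, s'].prod := by
      simp only [List.prod_cons, List.prod_nil, mul_one]
      exact hlt.le
    obtain ⟨l₁, x, l₂, h2', h3'⟩ := exchange hrS [s, s'] (by
      intro y hy
      simp only [List.mem_cons, List.not_mem_nil, or_false] at hy
      rcases hy with rfl | rfl
      · exact hsS
      · exact hsS') h1'
    rcases l₁ with _ | ⟨y, l₁⟩
    · simp only [List.nil_append, List.cons.injEq] at h2'
      obtain ⟨rfl, -⟩ := h2'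
      rw [List.prod_nil, mul_one, one_mul] at h3'
      exact h1 (P.inj r hrS _ hsS h3')
    · rcases l₁ with _ | ⟨z, l₁⟩
      · simp only [List.cons_append, List.nil_append, List.cons.injEq] at h2'
        obtain ⟨rfl, rfl, -⟩ := h2'
        rw [List.prod_singleton] at h3'
        have h5 := rel_trans (rel_symm hcm) h3'
        have h6 : (s * r)⁻¹ * (s * s') = r⁻¹ * s' := by group
        rw [h6] at h5
        exact h2 (P.inj r hrS _ hsS' h5)
      · simp at h2'
  have hm : r * (s * s') ∈ Subgroup.closure J :=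
    mul_mem (Subgroup.subset_closure hr) (mul_mem (Subgroup.subset_closure hs) (Subgroup.subset_closure hs'))
  have c4 := h.card_le ⟨s, hs⟩ hm
  rw [card_mul hrS (mul_mem (mem_N hsS) (mem_N hsS')) hle,
    card_mul hsS (mem_N hsS') (len_two hsS hsS' h3)] at c4
  nlinarith [Nat.mul_le_mul c1 c2]

end BN

end Cfsg.Agent.Omega.EH3.ST
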