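import Mathlib
import Cfsg.Agent.Omega.EH3.ST

/-!
# (ORTH) of bb #12321 with the repair (r5) of bb #12681

Two commuting rank one groups `P₁`, `P₂` (`P_i = B_i ⊔ T_i s_i B_i`, `T_i` regular on the big cell) acting on `V`,
`a` fixed by `B₁`, `B₂`.
* `fix_of_sum_zero`: `∑_{t ∈ T} t s v = 0`, `v` fixed by `B`, implies `v` fixed by `P`.
* `orth`: if `∑_{t, u} t u s₁ s₂ a = 0`, then `(h - 1)(g - 1) a = 0` for all `g ∈ P₁`, `h ∈ P₂`.
* `card_le_eight`: otherwise `T₁ T₂` acts freely on `s₁ s₂ a`, so `|T₁| |T₂| ≤ 8` if `[V, T₁T₂; 4] = 0`.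
-/

set_option autoImplicit false

namespace Cfsg.Agent.Omega.EH3.Orth

open scoped Classical
open MulAction Cfsg.Agent.Omega.EH3.Perm Cfsg.Agent.Omega.EH3.ST

variable {H V : Type*} [Group H] [AddCommGroup V] [DistribMulAction H V]

/-- A rank one group `P = B ⊔ T s B`, `T` regular on the big cell. -/
structure Rk (P B T : Subgroup H) (s : H) : Prop where
  BP : B ≤ P
  TB : T ≤ B
  sP : s ∈ P
  sB : s ∉ B
  cell : ∀ g ∈ P, g ∈ B ∨ ∃ t ∈ T, ∃ b ∈ B, g = t * s * b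
  reg : ∀ t ∈ T, s⁻¹ * t * s ∈ B → t = 1

variable {P B T : Subgroup H} {s : H} {v : V}

/-- `g B ↦ g v` -/
noncomputable def ph (P B : Subgroup H) (v : V) (c : P ⧸ B.subgroupOf P) : V := (c.out : P) • v

theorem ph_mk (hv : ∀ b ∈ B, b • v = v) (g : P) :
    ph P B v (QuotientGroup.mk g) = g • v := by
  obtain ⟨b, hb⟩ := QuotientGroup.mk_out_eq_mul (B.subgroupOf P) g
  show ((QuotientGroup.mk g : P ⧸ B.subgroupOf P).out : P) • v = _
  rw [hb, mul_smul]
  have : ((b : B.subgroupOf P) : P) • v = v := hv _ (Subgroup.mem_subgroupOf.1 b.2)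
  rw [this]

theorem ph_smul (hv : ∀ b ∈ B, b • v = v) (g : P) (c : P ⧸ B.subgroupOf P) :
    ph P B v (g • c) = g • ph P B v c := by
  induction c using QuotientGroup.induction_on with
  | H x =>
    rw [show g • (QuotientGroup.mk x : P ⧸ B.subgroupOf P) = QuotientGroup.mk (g * x) from rfl,
      ph_mk hv, ph_mk hv, mul_smul]

/-- The cosets are `B` and `t s B`. -/
noncomputable def Rk.cosets (h : Rk P B T s) : Option T → P ⧸ B.subgroupOf P
  | none => QuotientGroup.mk 1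
  | some t => QuotientGroup.mk ⟨(t : H) * s, P.mul_mem (h.BP (h.TB t.2)) h.sP⟩

theorem Rk.cosets_bij (h : Rk P B T s) : Function.Bijective h.cosets := by
  constructor
  · rintro (_ | t) (_ | u) htu
    · rfl
    · exfalso
      have h1 := QuotientGroup.eq.1 htu
      rw [Subgroup.mem_subgroupOf] at h1
      have h2 : (u : H) * s ∈ B := by simpa using h1
      exact h.sB ((B.mul_mem_cancel_left (h.TB u.2)).1 h2)
    · exfalso
      have h1 := QuotientGroup.eq.1 htu.symm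
      rw [Subgroup.mem_subgroupOf] at h1
      have h2 : (t : H) * s ∈ B := by simpa using h1
      exact h.sB ((B.mul_mem_cancel_left (h.TB t.2)).1 h2)
    · have h1 := QuotientGroup.eq.1 htu
      rw [Subgroup.mem_subgroupOf] at h1
      have h2 : s⁻¹ * ((t : H)⁻¹ * u) * s ∈ B := by
        have : s⁻¹ * ((t : H)⁻¹ * u) * s = ((t : H) * s)⁻¹ * ((u : H) * s) := by group
        rw [this]
        exact h1
      have h3 := h.reg _ (T.mul_mem (T.inv_mem t.2) u.2) h2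
      have h4 : t = u := Subtype.ext (inv_mul_eq_one.1 h3)
      rw [h4]
  · intro c
    obtain ⟨⟨g, hg⟩, rfl⟩ := QuotientGroup.mk_surjective c
    rcases h.cell g hg with hB | ⟨t, ht, b, hb, rfl⟩
    · refine ⟨none, ?_⟩
      show (QuotientGroup.mk 1 : P ⧸ B.subgroupOf P) = _
      rw [QuotientGroup.eq, Subgroup.mem_subgroupOf]
      simpa using hB
    · refine ⟨some ⟨t, ht⟩, ?_⟩
      show (QuotientGroup.mk _ : P ⧸ B.subgroupOf P) = _
      rw [QuotientGroup.eq, Subgroup.mem_subgroupOf]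
      show (t * s)⁻¹ * (t * s * b) ∈ B
      rw [inv_mul_cancel_left]
      exact hb

variable [Finite H]

/-- If the sum over the big cell is `0`, then `v` is fixed by `P`. -/
theorem Rk.fix_of_sum_zero (h : Rk P B T s) (hv : ∀ b ∈ B, b • v = v) [Fintype T]
    (h0 : ∑ t : T, (t : H) • s • v = 0) {g : H} (hg : g ∈ P) : g • v = v := by
  have hfin : Fintype (P ⧸ B.subgroupOf P) := Fintype.ofFinite _
  let e : Option T ≃ P ⧸ B.subgroupOf P := Equiv.ofBijective _ h.cosets_bij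
  have h1 : ∑ c, ph P B v c = v := by
    rw [← Equiv.sum_comp e, Fintype.sum_option]
    have h2 : ph P B v (e none) = v := by
      show ph P B v (QuotientGroup.mk 1) = v
      rw [ph_mk hv, one_smul]
    have h3 : ∀ t : T, ph P B v (e (some t)) = (t : H) • s • v := by
      intro t
      show ph P B v (QuotientGroup.mk _) = _
      rw [ph_mk hv]
      show ((t : H) * s) • v = _
      rw [mul_smul]
    rw [h2, Finset.sum_congr rfl fun t _ => h3 t, h0, add_zero]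
  have h2 : (⟨g, hg⟩ : P) • ∑ c, ph P B v c = ∑ c, ph P B v c := by
    rw [Finset.smul_sum]
    rw [Finset.sum_congr rfl fun c _ => (ph_smul hv (⟨g, hg⟩ : P) c).symm]
    exact Equiv.sum_comp (MulAction.toPerm (⟨g, hg⟩ : P)) (ph P B v)
  rw [h1] at h2
  exact h2

variable {P₁ B₁ T₁ P₂ B₂ T₂ : Subgroup H} {s₁ s₂ : H} {a : V}

/-- **(ORTH)**, (r5): if the sum over the product of the big cells is `0`, then `(h - 1)(g - 1) a = 0`. -/
theorem orth (h2 : ∀ v : V, v + v = 0) (r₁ : Rk P₁ B₁ T₁ s₁) (r₂ : Rk P₂ B₂ T₂ s₂)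
    (hc : ∀ g ∈ P₁, ∀ h ∈ P₂, g * h = h * g) (ha₁ : ∀ b ∈ B₁, b • a = a) (ha₂ : ∀ b ∈ B₂, b • a = a)
    [Fintype T₁] [Fintype T₂]
    (h0 : ∑ t : T₁, ∑ u : T₂, ((t : H) * u) • (s₁ * s₂) • a = 0) {g h : H} (hg : g ∈ P₁)
    (hh : h ∈ P₂) : h • (g • a + a) = g • a + a := by
  have hcs : ∀ g ∈ P₁, ∀ h ∈ P₂, ∀ v : V, g • h • v = h • g • v := by
    intro g hg h hh v
    rw [← mul_smul, hc g hg h hh, mul_smul]
  -- `S = ∑ u s₂ a` is fixed by `P₁`
  have hS : ∀ g ∈ P₁, g • ∑ u : T₂, (u : H) • s₂ • a = ∑ u : T₂, (u : H) • s₂ • a := by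
    intro g hg
    refine r₁.fix_of_sum_zero ?_ ?_ hg
    · intro b hb
      rw [Finset.smul_sum]
      refine Finset.sum_congr rfl fun u _ => ?_
      rw [hcs b (r₁.BP hb) _ (r₂.BP (r₂.TB u.2)), hcs b (r₁.BP hb) _ r₂.sP, ha₁ b hb]
    · rw [← h0]
      refine Finset.sum_congr rfl fun t _ => ?_
      rw [Finset.smul_sum, Finset.smul_sum]
      refine Finset.sum_congr rfl fun u _ => ?_
      rw [hcs s₁ r₁.sP _ (r₂.BP (r₂.TB u.2)), ← mul_smul, ← mul_smul, ← mul_smul, ← mul_smul]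
      congr 1
      group
  refine r₂.fix_of_sum_zero ?_ ?_ hh
  · intro b hb
    rw [smul_add, ha₂ b hb, ← hcs g hg b (r₂.BP hb), ha₂ b hb]
  · have h1 : ∀ u : T₂, (u : H) • s₂ • (g • a + a) = g • ((u : H) • s₂ • a) + (u : H) • s₂ • a := by
      intro u
      rw [smul_add, smul_add, hcs g hg _ (r₂.BP (r₂.TB u.2)), hcs g hg _ r₂.sP]
    rw [Finset.sum_congr rfl fun u _ => h1 u, Finset.sum_add_distrib, ← Finset.smul_sum, hS g hg, h2]

/-- **(ORTH)**: if `(h - 1)(g - 1) a ≠ 0` for some `g ∈ P₁`, `h ∈ P₂`, then `T₁ T₂` (elementary abelian,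
`[V, T₁T₂; 4] = 0`) has order at most 8. -/
theorem card_le_eight (h2 : ∀ v : V, v + v = 0) (r₁ : Rk P₁ B₁ T₁ s₁) (r₂ : Rk P₂ B₂ T₂ s₂)
    (hc : ∀ g ∈ P₁, ∀ h ∈ P₂, g * h = h * g) (ha₁ : ∀ b ∈ B₁, b • a = a) (ha₂ : ∀ b ∈ B₂, b • a = a)
    {g h : H} (hg : g ∈ P₁) (hh : h ∈ P₂) (hne : h • (g • a + a) ≠ g • a + a) (X : Subgroup H)
    (hT₁ : T₁ ≤ X) (hT₂ : T₂ ≤ X) (hXc : ∀ x ∈ X, ∀ y ∈ X, x * y = y * x)
    (hXs : ∀ x ∈ X, x * x = 1)
    (h4 : ∀ x₁ ∈ X, ∀ x₂ ∈ X, ∀ x₃ ∈ X, ∀ x₄ ∈ X, ∀ v : V,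
      dl x₄ (dl x₃ (dl x₂ (dl x₁ v))) = 0) : Nat.card T₁ * Nat.card T₂ ≤ 8 := by
  have f₁ : Fintype T₁ := Fintype.ofFinite _
  have f₂ : Fintype T₂ := Fintype.ofFinite _
  let m : T₁ × T₂ →* H :=
    { toFun := fun p => (p.1 : H) * p.2
      map_one' := by simp
      map_mul' := by
        intro p q
        show ((p.1 : H) * q.1) * ((p.2 : H) * q.2) = (p.1 : H) * p.2 * ((q.1 : H) * q.2)
        have := hXc _ (hT₁ q.1.2) _ (hT₂ p.2.2)
        calc ((p.1 : H) * q.1) * ((p.2 : H) * q.2) = p.1 * ((q.1 : H) * p.2) * q.2 := by group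
          _ = p.1 * ((p.2 : H) * q.1) * q.2 := by rw [this]
          _ = _ := by group }
  let act : DistribMulAction (T₁ × T₂) V := DistribMulAction.compHom V m
  have hsm : ∀ (p : T₁ × T₂) (v : V), p • v = m p • v := fun _ _ => rfl
  have hmX : ∀ p, m p ∈ X := fun p => X.mul_mem (hT₁ p.1.2) (hT₂ p.2.2)
  have hinj : Function.Injective m := by
    rw [injective_iff_map_eq_one]
    rintro ⟨t, u⟩ htu
    have h1 : (t : H) * u = 1 := htu
    have h3 : (t : H) = (u : H)⁻¹ := eq_inv_of_mul_eq_one_left h1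
    have ht : t = 1 := by
      apply Subtype.ext
      apply r₁.reg _ t.2
      have : s₁⁻¹ * (t : H) * s₁ = t := by
        have h5 : s₁ * (t : H) = t * s₁ := by
          rw [h3]
          exact hc s₁ r₁.sP _ (P₂.inv_mem (r₂.BP (r₂.TB u.2)))
        rw [mul_assoc, ← h5, inv_mul_cancel_left]
      rw [this]
      exact r₁.TB t.2
    have hu : u = 1 := by
      apply Subtype.ext
      rw [ht, Subgroup.coe_one] at h3
      exact (inv_eq_one.1 h3.symm)
    rw [ht, hu]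
    rfl
  have hfr : Fr (T₁ × T₂) (fun p : T₁ × T₂ => m p • (s₁ * s₂) • a)
      (∑ p : T₁ × T₂, m p • (s₁ * s₂) • a) := by
    refine ⟨h2, ?_, ?_, ?_, ?_, rfl⟩
    · intro p
      refine ⟨1, hinj ?_⟩
      rw [map_pow, map_one, pow_one, pow_two]
      exact hXs _ (hmX p)
    · intro b c
      exact ⟨c * b⁻¹, by simp [smul_eq_mul]⟩
    · intro t y
      rw [hsm, smul_eq_mul, map_mul, mul_smul]
    · intro h0
      apply hne
      refine orth h2 r₁ r₂ hc ha₁ ha₂ ?_ hg hh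
      rw [Fintype.sum_prod_type] at h0
      exact h0
  have h8 := hfr.card_le_eight' ⊤ (by
      intro b c
      exact ⟨c * b⁻¹, trivial, by simp [smul_eq_mul]⟩)
    (fun x _ y _ => hinj (by rw [map_mul, map_mul]; exact hXc _ (hmX x) _ (hmX y)))
    (fun x _ => hinj (by rw [map_mul, map_one]; exact hXs _ (hmX x)))
    (fun x₁ _ x₂ _ x₃ _ x₄ _ v => h4 _ (hmX x₁) _ (hmX x₂) _ (hmX x₃) _ (hmX x₄) v)
  rw [Fintype.card_prod] at h8
  rwa [Nat.card_eq_fintype_card, Nat.card_eq_fintype_card]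

end Cfsg.Agent.Omega.EH3.Orth
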