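import Cfsg.Agent.Omega.EH3.RowLTwo
import Cfsg.Agent.Omega.EH3.NodeS
import Cfsg.Agent.Omega.TwoF.Count

/-!
# Rows of EH3 whose automorphisms of 2-power order are inner (helper796)

* `Tr E T` : `T` a 2-group, transitive on `E / N_E(T)` minus the base point; `Tr.fix` : if `N_E(T) / T` is abelian of
  order prime to 6 and `|E : N_E(T)| > 5` then `E` fixes `a` (the Suzuki version of LEMMA NODE without the kernel);
* `row_inner` : `K` centreless with all automorphisms of 2-power order inner, `P` a Sylow 2-subgroup, `N_K(P) / P` abelian of order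
  prime to 6, `K = ⟨E₁, E₂⟩` with two such nodes over `P`: then `RowEH3 K`.
-/

set_option autoImplicit false

namespace Cfsg.Agent.Omega.EH3

open Subgroup TwoF

universe u v w

/-- `T` a 2-subgroup of `E`, transitive on the points `≠ N_E(T)`. -/
structure Tr {H : Type*} [Group H] (E T : Subgroup H) : Prop where
  T_le : T ≤ E
  two : IsPGroup 2 T
  trans : ∀ g ∈ E, g ∉ normalizer (T : Set H) → ∀ h ∈ E, h ∉ normalizer (T : Set H) →
    ∃ t ∈ T, (t * g)⁻¹ * h ∈ normalizer (T : Set H)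

namespace Tr

variable {H V : Type*} [Group H] [AddCommGroup V] [Module (ZMod 2) V]
  {ρ : H →* (V ≃ₗ[ZMod 2] V)} {b : LinearMap.BilinForm (ZMod 2) V} {q : V → ZMod 2}
  {a : V} {D : Submodule (ZMod 2) V} {X : Subgroup H} {w : ℕ} {E T : Subgroup H}

/-- one element `e ∈ E ∖ B` fixing `a` suffices if `B` fixes `a` -/
theorem fix_all (C : Cfg ρ b q a D X w) (h : Tr E T) (hx : XCond ρ a X E T)
    (hB : ∀ g ∈ E, g ∈ normalizer (T : Set H) → ρ g a = a) {e : H} (he : e ∈ E)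
    (heN : e ∉ normalizer (T : Set H)) (hea : ρ e a = a) : ∀ g ∈ E, ρ g a = a := by
  intro g hg
  by_cases hgN : g ∈ normalizer (T : Set H)
  · exact hB g hg hgN
  obtain ⟨t, ht, hn⟩ := h.trans e he heN g hg hgN
  have h1 : g = t * e * ((t * e)⁻¹ * g) := by group
  have h2 := hB _ (E.mul_mem (E.inv_mem (E.mul_mem (h.T_le ht) he)) hg) hn
  rw [h1, C.ρ_mul, h2, C.ρ_mul, hea, hx.Ta t ht]

/-- **fixE.** -/
theorem fixE (C : Cfg ρ b q a D X w) (h : Tr E T) (hx : XCond ρ a X E T)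
    (hB : ∀ g ∈ E, g ∈ normalizer (T : Set H) → ρ g a = a)
    (hcard : 5 < (normalizer (T : Set H)).relIndex E) : ∀ g ∈ E, ρ g a = a := by
  classical
  have := C.finite_V
  have := C.finite_H
  by_contra hcon
  push Not at hcon
  obtain ⟨g0, hg0, hga0⟩ := hcon
  -- `C_E(a) = B`
  have hstab : ∀ g ∈ E, ρ g a = a → g ∈ normalizer (T : Set H) := by
    intro g hg hga
    by_contra hgN
    exact hga0 (fix_all C h hx hB hg hgN hga g0 hg0)
  have h4 := C.perm_four hx.XE h.two h.T_le hx.Ta (by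
    intro g hg k hk hga hka
    obtain ⟨t, ht, hn⟩ := h.trans g hg (fun hgN => hga (hB g hg hgN)) k hk
      (fun hkN => hka (hB k hk hkN))
    refine ⟨t, ht, ?_⟩
    have h1 : t * g * ((t * g)⁻¹ * k) = k := by group
    have h2 := hB _ (E.mul_mem (E.inv_mem (E.mul_mem (h.T_le ht) hg)) hk) hn
    calc ρ (t * g) a = ρ (t * g) (ρ ((t * g)⁻¹ * k) a) := by rw [h2]
      _ = ρ k a := by rw [← C.ρ_mul, h1])
  -- the number of points
  let Ω : Set V := {v | ∃ g ∈ E, ρ g a = v}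
  have hΩ : Ω = insert a (Cfg.PtsE ρ a E) := by
    ext v
    constructor
    · rintro ⟨g, hg, rfl⟩
      by_cases hga : ρ g a = a
      · exact Or.inl hga
      · exact Or.inr ⟨⟨g, hg, rfl⟩, hga⟩
    · rintro (rfl | ⟨⟨g, hg, hgv⟩, -⟩)
      · exact ⟨1, E.one_mem, C.ρ_one _⟩
      · exact ⟨g, hg, hgv⟩
  have hle : Ω.ncard ≤ 5 := by
    rw [hΩ]
    exact (Set.ncard_insert_le _ _).trans (by omega)
  have hge : (normalizer (T : Set H)).relIndex E ≤ Ω.ncard := by
    rw [Subgroup.relIndex, Subgroup.index, ← Nat.card_coe_set_eq]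
    refine Nat.card_le_card_of_injective
      (fun x : E ⧸ (normalizer (T : Set H)).subgroupOf E =>
        (⟨ρ ((Quotient.out x : E) : H) a, ((Quotient.out x : E) : H), (Quotient.out x).2, rfl⟩ : Ω)) ?_
    intro x y hxy
    have h1 : ρ ((Quotient.out x : E) : H) a = ρ ((Quotient.out y : E) : H) a := congrArg Subtype.val hxy
    have h2 : ρ (((Quotient.out x : E) : H)⁻¹ * ((Quotient.out y : E) : H)) a = a := by
      rw [C.ρ_mul, ← h1, C.ρ_inv_apply]
    have h3 := hstab _ (E.mul_mem (E.inv_mem (Quotient.out x).2) (Quotient.out y).2) h2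
    have h4 : (QuotientGroup.mk (Quotient.out x) : E ⧸ (normalizer (T : Set H)).subgroupOf E)
        = QuotientGroup.mk (Quotient.out y) := by
      rw [QuotientGroup.eq]
      exact h3
    have h5 : ∀ z : E ⧸ (normalizer (T : Set H)).subgroupOf E,
        (QuotientGroup.mk (Quotient.out z) : E ⧸ (normalizer (T : Set H)).subgroupOf E) = z :=
      fun z => Quotient.out_eq z
    rw [h5, h5] at h4
    exact h4
  omega

/-- The Suzuki version of LEMMA NODE, without the kernel. -/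
theorem fix (C : Cfg ρ b q a D X w) (h : Tr E T) (hx : XCond ρ a X E T)
    (hcomm : ∀ g ∈ E, g ∈ normalizer (T : Set H) → ∀ k ∈ E, k ∈ normalizer (T : Set H) →
      g * k * g⁻¹ * k⁻¹ ∈ T)
    (hord : ∀ g ∈ E, g ∈ normalizer (T : Set H) → ∃ m : ℕ, Odd m ∧ Nat.Coprime m 3 ∧ g ^ m ∈ T)
    (hcard : 5 < (normalizer (T : Set H)).relIndex E) : ∀ g ∈ E, ρ g a = a :=
  h.fixE C hx (Pre.fixB_of_coprime C hx hcomm hord) hcard

end Tr

/-! ### Transport to a subgroup isomorphic to `K` -/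

section pull

variable {H : Type*} [Group H] {K : Type*} [Group K] {L : Subgroup H} (e : L ≃* K)

theorem pull_relIndex (ψ : L →* K) (hψ : Function.Surjective ψ) (T E : Subgroup K) :
    (normalizer ((pull ψ T : Subgroup H) : Set H)).relIndex (pull ψ E)
      = (normalizer (T : Set K)).relIndex E := by
  have h1 : (normalizer ((pull ψ T : Subgroup H) : Set H)).relIndex (pull ψ E)
      = ((normalizer ((pull ψ T : Subgroup H) : Set H)).comap L.subtype).relIndex (E.comap ψ) := by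
    rw [Subgroup.relIndex_comap]
    rfl
  have h2 : (normalizer ((pull ψ T : Subgroup H) : Set H)).comap L.subtype
      = (normalizer (T : Set K)).comap ψ := by
    ext g
    exact mem_normalizer_pull ψ hψ T g
  rw [h1, h2, Subgroup.relIndex_comap, Subgroup.map_comap_eq_self_of_surjective hψ]

theorem Tr.pull {ψ : L →* K} (hψ : Function.Bijective ψ) {T E : Subgroup K} (h : Tr E T) :
    Tr (EH3.pull ψ E) (EH3.pull ψ T) where
  T_le := by
    intro g hg
    obtain ⟨hg, h1⟩ := (mem_pull ψ T).1 hg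
    exact (mem_pull ψ E).2 ⟨hg, h.T_le h1⟩
  two := by
    have h1 : IsPGroup 2 (T.comap ψ) := h.two.comap_of_injective ψ hψ.1
    exact h1.map _
  trans := by
    intro g hg hgN k hk hkN
    obtain ⟨hgL, hg⟩ := (mem_pull ψ E).1 hg
    obtain ⟨hkL, hk⟩ := (mem_pull ψ E).1 hk
    have h1 := mem_normalizer_pull ψ hψ.2 T ⟨g, hgL⟩
    have h2 := mem_normalizer_pull ψ hψ.2 T ⟨k, hkL⟩
    obtain ⟨t, ht, htn⟩ := h.trans _ hg (fun h => hgN (h1.2 h)) _ hk (fun h => hkN (h2.2 h))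
    obtain ⟨s, rfl⟩ := hψ.2 t
    refine ⟨s, (mem_pull_coe ψ T s).2 ht, ?_⟩
    rw [← map_mul, ← map_inv, ← map_mul, ← mem_normalizer_pull ψ hψ.2] at htn
    exact htn

end pull

/-- **Rows with inner automorphisms.** -/
theorem row_inner {K : Type v} [Group K] (hcK : center K = ⊥)
    (hin : ∀ (α : MulAut K) (n : ℕ), α ^ 2 ^ n = 1 → ∃ x, α = MulAut.conj x) (P : Sylow 2 K)
    (hcomm : ∀ g ∈ normalizer ((P : Subgroup K) : Set K), ∀ k ∈ normalizer ((P : Subgroup K) : Set K),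
      g * k * g⁻¹ * k⁻¹ ∈ P)
    (hord : ∀ g ∈ normalizer ((P : Subgroup K) : Set K), ∃ m : ℕ, Odd m ∧ Nat.Coprime m 3 ∧ g ^ m ∈ P)
    {E₁ E₂ : Subgroup K} (h₁ : Tr E₁ P) (h₂ : Tr E₂ P)
    (c₁ : 5 < (normalizer ((P : Subgroup K) : Set K)).relIndex E₁)
    (c₂ : 5 < (normalizer ((P : Subgroup K) : Set K)).relIndex E₂)
    (hgen : E₁ ⊔ E₂ = ⊤) (hne : ∃ k : K, k ≠ 1) : RowEH3.{u} K := by
  intro H V _ _ _ ρ b q a D X w L π hL hπ hX C
  have := C.finite_H
  have hp2 : Fact (Nat.Prime 2) := ⟨Nat.prime_two⟩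
  have : Finite K := Finite.of_surjective π hπ.surj
  obtain ⟨f, hf⟩ := hπ.exists_hom hcK
  -- the elements of `X` act as inner automorphisms
  have hxl : ∀ x ∈ X, ∃ l : L, ∀ y : L, x * (y : H) * x⁻¹ = (l : H) * y * (l : H)⁻¹ := by
    intro x hx
    have h2 : f x ^ 2 ^ 1 = 1 := by
      rw [pow_one, ← map_pow, pow_two, C.X_sq x hx, map_one]
    obtain ⟨k, hk⟩ := hin _ _ h2
    obtain ⟨l, rfl⟩ := hπ.surj k
    refine ⟨l, ?_⟩
    have h3 : f ((l : H)⁻¹ * x) = 1 := by
      rw [map_mul, map_inv, hk, Count.rho_coe hπ hf l, inv_mul_cancel]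
    have h4 := Count.mem_centralizer_of_rho hπ hcK hf h3
    rw [mem_centralizer_iff] at h4
    intro y
    have h5 := h4 y y.2
    have h6 : x = l * ((l : H)⁻¹ * x) := by group
    calc x * y * x⁻¹ = (l * ((l : H)⁻¹ * x)) * y * (l * ((l : H)⁻¹ * x))⁻¹ := by rw [← h6]
      _ = l * (((l : H)⁻¹ * x) * y) * ((l : H)⁻¹ * x)⁻¹ * (l : H)⁻¹ := by group
      _ = l * (y * ((l : H)⁻¹ * x)) * ((l : H)⁻¹ * x)⁻¹ * (l : H)⁻¹ := by rw [h5]
      _ = _ := by group
  -- the centre of `L` fixes `a`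
  have hZ : π.ker = ⊥ := by
    have hZn : (π.ker.map L.subtype).Normal := by
      rw [hπ.ker_eq hcK]
      exact ConjAct.normal_of_characteristic_of_normal
    have h1 := C.eq_bot_of_fix hZn (by
      rintro _ ⟨z, hz, rfl⟩
      have hz' := hπ.cent hz
      apply C.fix_of_cent
      intro x hx
      obtain ⟨l, hl⟩ := hxl x hx
      have h2 : (l : H) * z * (l : H)⁻¹ = z := by
        have := mem_center_iff.1 hz' l
        have h3 : (l : H) * z = z * l := congrArg Subtype.val this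
        rw [h3, mul_inv_cancel_right]
      show ρ (x * (z : H) * x⁻¹) a = ρ (z : H) a
      rw [hl, h2])
    rw [eq_bot_iff]
    intro z hz
    have h2 : (z : H) ∈ π.ker.map L.subtype := ⟨z, hz, rfl⟩
    rw [h1, mem_bot] at h2
    exact Subtype.ext h2
  have hinj : Function.Injective π := (MonoidHom.ker_eq_bot_iff _).1 hZ
  -- the Sylow 2-subgroup
  obtain ⟨S, hXS, hS⟩ := C.exists_syl
  have hSn : ∀ s ∈ S, ∀ y ∈ L, s * y * s⁻¹ ∈ L := fun s _ y hy => hL.conj_mem y hy s
  let T : Subgroup H := (S : Subgroup H) ⊓ L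
  have hTmax : ∀ Q : Subgroup H, Q ≤ L → IsPGroup 2 Q → T ≤ Q → Q = T :=
    fun Q hQL hQ hle => syl_inf_maximal S hSn hQL hQ hle
  have hT2 : IsPGroup 2 T := S.isPGroup'.to_le inf_le_left
  -- the image of `T` in `K` is a Sylow 2-subgroup
  let TK : Subgroup K := (T.subgroupOf L).map π
  have hTK : IsPGroup 2 TK := (hT2.comap_subtype (K := L)).map π
  obtain ⟨Q, hQ⟩ := hTK.exists_le_sylow
  have hQT : (Q : Subgroup K) = TK := by
    refine le_antisymm ?_ hQ
    have h1 : IsPGroup 2 (pull π (Q : Subgroup K)) :=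
      (Q.isPGroup'.comap_of_injective π hinj).map _
    have h2 := hTmax _ (pull_le π _) h1 (by
      intro t ht
      exact (mem_pull π _).2 ⟨ht.2, hQ ⟨⟨t, ht.2⟩, ht, rfl⟩⟩)
    intro k hk
    obtain ⟨l, rfl⟩ := hπ.surj k
    have h3 : (l : H) ∈ pull π (Q : Subgroup K) := (mem_pull_coe π _ l).2 hk
    rw [h2] at h3
    exact ⟨l, h3, rfl⟩
  obtain ⟨k, hk⟩ := MulAction.exists_smul_eq K Q P
  -- the new isomorphism
  let ψ : L →* K := (MulAut.conj k).toMonoidHom.comp π
  have hψ : Function.Bijective ψ := ⟨(MulAut.conj k).injective.comp hinj, (MulAut.conj k).surjective.comp hπ.surj⟩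
  have hψT : pull ψ (P : Subgroup K) = T := by
    have hmem : ∀ l : L, ψ l ∈ (P : Subgroup K) ↔ (l : H) ∈ T := by
      intro l
      rw [← hk, Sylow.coe_subgroup_smul, Subgroup.mem_pointwise_smul_iff_inv_smul_mem, ← map_inv,
        MulAut.smul_def, MulAut.conj_apply, inv_inv, hQT]
      have h1 : k⁻¹ * ψ l * k = π l := by
        show k⁻¹ * (k * π l * k⁻¹) * k = π l
        group
      rw [h1]
      constructor
      · rintro ⟨l', hl', h2⟩
        rw [hinj h2] at hl'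
        exact hl'
      · intro hl
        exact ⟨l, hl, rfl⟩
    ext g
    rw [mem_pull]
    constructor
    · rintro ⟨hg, h1⟩
      exact (hmem ⟨g, hg⟩).1 h1
    · intro hg
      exact ⟨hg.2, (hmem ⟨g, hg.2⟩).2 hg⟩
  -- `X` acts on `L` as elements of `T`
  have hxT : ∀ x ∈ X, ∃ t ∈ T, ∀ y ∈ L, x * y * x⁻¹ = t * y * t⁻¹ := by
    intro x hx
    obtain ⟨l, hl⟩ := hxl x hx
    have hxx : ∀ y : L, (l * l) * y = y * (l * l) := by
      intro y
      have h1 : x * (x * y * x⁻¹) * x⁻¹ = y := by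
        calc x * (x * y * x⁻¹) * x⁻¹ = (x * x) * y * (x * x)⁻¹ := by group
          _ = y := by rw [C.X_sq x hx]; group
      have h2 : x * (x * y * x⁻¹) * x⁻¹ = (l : H) * (l * y * (l : H)⁻¹) * (l : H)⁻¹ := by
        have h3 := hl ⟨x * y * x⁻¹, hL.conj_mem y y.2 x⟩
        have h4 : x * (x * y * x⁻¹) * x⁻¹ = l * (x * y * x⁻¹) * (l : H)⁻¹ := h3
        rw [h4, hl y]
      apply Subtype.ext
      push_cast
      rw [h1] at h2
      calc (l : H) * l * y = ((l : H) * (l * y * (l : H)⁻¹) * (l : H)⁻¹) * (l * l) := by group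
        _ = y * (l * l) := by rw [← h2]
    have hll : l * l = 1 := by
      have h1 : l * l ∈ center L := mem_center_iff.2 fun y => (hxx y).symm
      rw [← hπ.ker_eq hcK, hZ, mem_bot] at h1
      exact h1
    refine ⟨l, ?_, fun y hy => hl ⟨y, hy⟩⟩
    -- `l` normalises `T`
    have hlT : ∀ t ∈ T, (l : H) * t * (l : H)⁻¹ ∈ T := by
      intro t ht
      have h1 := hl ⟨t, ht.2⟩
      have h2 : x * t * x⁻¹ = l * t * (l : H)⁻¹ := h1
      rw [← h2]
      exact ⟨S.mul_mem (S.mul_mem (hXS hx) ht.1) (S.inv_mem (hXS hx)), hL.conj_mem t ht.2 x⟩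
    have hl1 : (l : H)⁻¹ = l := by
      rw [inv_eq_iff_mul_eq_one]
      exact congrArg Subtype.val hll
    have hln : zpowers (l : H) ≤ normalizer (T : Set H) := by
      rw [zpowers_le, mem_normalizer_iff]
      intro t
      refine ⟨hlT t, fun ht => ?_⟩
      have h1 := hlT _ ht
      have h2 : (l : H) * (l * t * (l : H)⁻¹) * (l : H)⁻¹ = (l * l : L) * t * ((l * l : L) : H)⁻¹ := by
        push_cast; group
      rw [h2, hll] at h1
      simpa using h1
    have hz2 : IsPGroup 2 (zpowers (l : H)) := by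
      rintro ⟨y, hy⟩
      obtain ⟨i, rfl⟩ := Subgroup.mem_zpowers_iff.1 hy
      refine ⟨1, Subtype.ext ?_⟩
      have h1 : (l : H) * l = 1 := congrArg Subtype.val hll
      show ((l : H) ^ i) ^ 2 ^ 1 = 1
      rw [← zpow_natCast, ← zpow_mul, mul_comm, zpow_mul]
      have h2 : (l : H) ^ ((2 ^ 1 : ℕ) : ℤ) = 1 := by
        rw [zpow_natCast, pow_one, pow_two, h1]
      rw [h2, one_zpow]
    have h3 : IsPGroup 2 (zpowers (l : H) ⊔ T : Subgroup H) := IsPGroup.to_sup_of_normal_right' hz2 hT2 hln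
    have h4 := hTmax _ (sup_le ((zpowers_le).2 l.2) inf_le_right) h3 le_sup_right
    rw [← h4]
    exact (le_sup_left : zpowers (l : H) ≤ _) (mem_zpowers _)
  have hfix : ∀ E : Subgroup K, Tr E (P : Subgroup K) →
      5 < (normalizer ((P : Subgroup K) : Set K)).relIndex E → ∀ l : L, ψ l ∈ E → ρ (l : H) a = a := by
    intro E hE hc l hl
    have h1 : XCond ρ a X (pull ψ E) T := by
      refine ⟨?_, ?_, fun t ht => hS ht.1⟩
      · intro x hx y hy
        obtain ⟨t, ht, h2⟩ := hxT x hx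
        rw [h2 y (pull_le ψ E hy)]
        have ht' : t ∈ pull ψ E := by
          have : pull ψ (P : Subgroup K) ≤ pull ψ E := by
            intro g hg
            obtain ⟨hg, h3⟩ := (mem_pull ψ _).1 hg
            exact (mem_pull ψ E).2 ⟨hg, hE.T_le h3⟩
          exact this (by rw [hψT]; exact ht)
        exact mul_mem (mul_mem ht' hy) (inv_mem ht')
      · intro x hx t ht
        exact ⟨S.mul_mem (S.mul_mem (hXS hx) ht.1) (S.inv_mem (hXS hx)), hL.conj_mem t ht.2 x⟩
    have h2 : Tr (pull ψ E) T := by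
      have := hE.pull hψ
      rwa [hψT] at this
    have hN : ∀ g, g ∈ pull ψ E → g ∈ normalizer (T : Set H) →
        ∃ l : L, (l : H) = g ∧ ψ l ∈ normalizer ((P : Subgroup K) : Set K) := by
      intro g hg hgN
      obtain ⟨hgL, -⟩ := (mem_pull ψ E).1 hg
      refine ⟨⟨g, hgL⟩, rfl, ?_⟩
      rw [← hψT] at hgN
      exact (mem_normalizer_pull ψ hψ.2 _ ⟨g, hgL⟩).1 hgN
    refine h2.fix C h1 ?_ ?_ ?_ l ((mem_pull_coe ψ E l).2 hl)
    · intro g hg hgN k hk hkN
      obtain ⟨g, rfl, hg'⟩ := hN g hg hgN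
      obtain ⟨k, rfl, hk'⟩ := hN k hk hkN
      have h3 := hcomm _ hg' _ hk'
      rw [← hψT]
      have h4 := mem_pull_coe ψ (P : Subgroup K) (g * k * g⁻¹ * k⁻¹)
      push_cast at h4
      rw [h4, map_mul, map_mul, map_mul, map_inv, map_inv]
      exact h3
    · intro g hg hgN
      obtain ⟨g, rfl, hg'⟩ := hN g hg hgN
      obtain ⟨m, hm, hm3, h3⟩ := hord _ hg'
      refine ⟨m, hm, hm3, ?_⟩
      rw [← hψT]
      have h4 := mem_pull_coe ψ (P : Subgroup K) (g ^ m)
      push_cast at h4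
      rw [h4, map_pow]
      exact h3
    · have h3 := pull_relIndex (H := H) ψ hψ.2 (P : Subgroup K) E
      rw [hψT] at h3
      rw [h3]
      exact hc
  -- `L` fixes `a`
  have hLa : ∀ l ∈ L, ρ l a = a := by
    have h1 : (⊤ : Subgroup K) ≤ ((stab ρ a).comap L.subtype).map ψ := by
      rw [← hgen]
      refine sup_le ?_ ?_
      · intro k hk
        obtain ⟨l, rfl⟩ := hψ.2 k
        exact ⟨l, hfix E₁ h₁ c₁ l hk, rfl⟩
      · intro k hk
        obtain ⟨l, rfl⟩ := hψ.2 k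
        exact ⟨l, hfix E₂ h₂ c₂ l hk, rfl⟩
    intro l hl
    obtain ⟨l', hl', h2⟩ := h1 (mem_top (ψ ⟨l, hl⟩))
    have h3 := hψ.1 h2
    rw [h3] at hl'
    exact hl'
  have hbot := C.eq_bot_of_fix hL hLa
  obtain ⟨k, hk⟩ := hne
  obtain ⟨l, rfl⟩ := hπ.surj k
  apply hk
  have h1 : (l : H) ∈ (⊥ : Subgroup H) := hbot.le l.2
  have h2 : l = 1 := Subtype.ext (mem_bot.1 h1)
  rw [h2, map_one]

end Cfsg.Agent.Omega.EH3
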