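import Cfsg.Agent.Omega.EH3Close.Glue

/-!
# EH3 END for a general system of minimal parabolics (helper73)

`EH3Close.Glue.sys` and `.lev` with an arbitrary `XSys` of the normal subgroup `L` of `p.H` in place of a root group datum.
-/

set_option autoImplicit false
set_option linter.unusedSectionVars false

namespace Cfsg.Agent.Omega.EH3.XEnd

open Cfsg.Agent.ParSys Cfsg.Agent.Omega.ThmID Cfsg.Agent.Omega.EH3 Cfsg.Agent.Omega.EH3Close
  Cfsg.Agent.Omega.EH3Close.Glue Cfsg.Agent.Co2Type.Quad Cfsg.Agent.LargeExtra.Base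

variable {G : Type*} [Group G] {Q A : Subgroup G} {z a : G} {p : Pair Q z A a} {L : Subgroup p.H} [Finite G] {w : ℕ}
  {J : Type*} {T B : Subgroup L} {P : J → Subgroup L} {M : J → J → ℕ} {q : J → ℕ}

/-- helper886's level structure -/
theorem lev (hL : L.Normal) (hodd : ∀ g : p.H, Odd (orderOf g) → g ∈ L) (hX0 : p.X.subgroupOf p.H ≤ L)
    (h : XSys T B P M q)
    (hU : ∀ v, (∀ g ∈ T, (p.H.subtype (g : p.H) : p.lz.V ≃ₗ[ZMod 2] p.lz.V) v = v) → v = 0 ∨ v = p.va) :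
    Lev Q A z a (up (phi p L) T) (MM p L) :=
  lev_of p hLz (hLn hL) (hLp hodd) Q_le_MM (hX hX0) phi_surj phi_ker h (hfix hU)

/-- **THEOREM END** -/
theorem sys (C : Cfg (p.H.subtype : p.H →* (p.lz.V ≃ₗ[ZMod 2] p.lz.V)) p.lz.b p.lz.q p.va p.D (p.X.subgroupOf p.H) w)
    (hL : L.Normal) (hodd : ∀ g : p.H, Odd (orderOf g) → g ∈ L) (hX0 : p.X.subgroupOf p.H ≤ L)
    (h : XSys T B P M q)
    (hU : ∀ v, (∀ g ∈ T, (p.H.subtype (g : p.H) : p.lz.V ≃ₗ[ZMod 2] p.lz.V) v = v) → v = 0 ∨ v = p.va)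
    {M' : CoxeterMatrix (Option J)} {W : Type*} [Group W] (cs : CoxeterSystem M' W)
    (hsome : ∀ i j, M' (some i) (some j) = M i j)
    (hnone : ∀ j, (M' none (some j) = 2 ∧
        ∀ x ∈ P j, (p.H.subtype (x : p.H) : p.lz.V ≃ₗ[ZMod 2] p.lz.V) p.va = p.va) ∨
      (M' none (some j) = 3 ∧ q j = 2 ∧
        ∃ x ∈ P j, (p.H.subtype (x : p.H) : p.lz.V ≃ₗ[ZMod 2] p.lz.V) p.va ≠ p.va))
    (htwo : ∀ j, 2 ≤ q j) :
    Free.Sys cs ((up (phi p L) B).subgroupOf (A ⊔ MM p L))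
      (fun o => (PP (ThmID.Cfg.P0 A (up (phi p L) B)) (fun j => up (phi p L) (P j)) o).subgroupOf (A ⊔ MM p L))
      ((up (phi p L) T).subgroupOf (A ⊔ MM p L)) (qq q) := by
  have : Finite p.H := Finite.of_surjective _ (aH_surj p)
  refine end_sys p hLz (hLn hL) (hLp hodd) Q_le_MM (hX hX0) phi_surj phi_ker h (hfix hU)
    (fun v hv _ hx => hD C hv hx) cs hsome ?_ htwo ?_
  · intro j
    rcases hnone j with ⟨h1, h2⟩ | ⟨h1, h2, x, hx, h3⟩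
    · left
      refine ⟨h1, ?_⟩
      intro x hx
      obtain ⟨hx1, hx2⟩ := mem_up.1 hx
      exact (act_a_iff (MM_le hx1)).1 (h2 _ hx2)
    · right
      refine ⟨h1, h2, ?_⟩
      obtain ⟨m, rfl⟩ := phi_surj (p := p) (L := L) x
      have h4 : ¬ ((m : G) * a * (m : G)⁻¹ = a ∨ (m : G) * a * (m : G)⁻¹ = a * z) :=
        fun h' => h3 ((act_a_iff (MM_le m.2)).2 h')
      exact ⟨m, mem_up.2 ⟨m.2, hx⟩, fun h' => h4 (Or.inl h'), fun h' => h4 (Or.inr h')⟩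
  · obtain ⟨l, hl, hla⟩ := Two.exists_opp C hL hodd
    obtain ⟨m, hm⟩ := phi_surj (p := p) (L := L) ⟨l, hl⟩
    refine ⟨m, m.2, fun hcomm => ?_⟩
    have e1 : (p.H.subtype l : p.lz.V ≃ₗ[ZMod 2] p.lz.V) p.va = p.lz.pr (p.lz.conjQ ⟨m, MM_le m.2⟩ ⟨a, p.a_mem⟩) := by
      have e2 : l = aH p ⟨m, MM_le m.2⟩ := (congrArg Subtype.val hm).symm
      rw [e2]
      exact p.lz.act_pr _ _
    rw [e1, Pair.va] at hla
    have h3 := (p.lz.b_pr ⟨a, p.a_mem⟩ (p.lz.conjQ ⟨m, MM_le m.2⟩ ⟨a, p.a_mem⟩)).2 (by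
      rw [p.lz.conjQ_coe]; exact hcomm.symm)
    rw [h3] at hla
    exact zero_ne_one hla

end Cfsg.Agent.Omega.EH3.XEnd
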