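import Cfsg.Agent.Omega.EH3.Main

/-!
# EH3: the situation [2d] holds for all pairs over `(Q, z)` (helper73)

`Sit.other` : `S : Sit Q A z a w` and `p' : Pair Q z A' s` imply `Sit Q A' z s w`.
-/

set_option autoImplicit false

namespace Cfsg.Agent.Omega.EH3.SitAll

open Cfsg Subgroup Cfsg.Agent.Co2Type.Quad Cfsg.Agent.LargeExtra Cfsg.Agent.LargeExtra.Base
open Cfsg.Agent.LargeExtra.SiegelOrbit (O2)
open Cfsg.Agent.LargeExtra.SiegFam.Inst (AllSg Irr)
open Cfsg.Agent.Omega.Frame (Ctx Cls All)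
open Cfsg.Agent.Omega.EH3.Main (Sit)

universe u

variable {G : Type u} [Group G] [Finite G] {Q A : Subgroup G} {z a : G} {w : ℕ}

theorem other (S : Sit Q A z a w) {A' : Subgroup G} {s : G} (p : Pair Q z A' s) : Sit Q A' z s w := by
  have hirr' : IrrC p.lz := S.irr
  have hO' : O2 p.lz := S.o2
  have hcQ := S.card_Q
  have hcV' : Nat.card p.lz.V = 2 ^ (2 * w) := by
    have := S.cfg.card_V
    exact this
  have hw := S.five
  have hbig : 2 ^ 11 ≤ Nat.card Q := by
    rw [hcQ]
    exact Nat.pow_le_pow_right (by norm_num) (by omega)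
  have hI : Irr p := by
    intro R hR hinv
    rcases hirr' R (fun c v hv => hinv _ ⟨c, rfl⟩ v hv) with h1 | h1
    · exact h1
    · exfalso
      apply p.va_ne
      apply p.lz.b_nondeg
      intro v
      have h2 := p.lz.q_add' p.va v
      rw [hR _ (h1 ▸ trivial), hR _ (h1 ▸ trivial), hR _ (h1 ▸ trivial), zero_add, zero_add] at h2
      exact h2.symm
  have hidx : ∀ N : Subgroup G, N.index ≠ 2 := by
    have := S.ctx.simple
    exact fun N => WCIrr.index_ne_two (Start.exists_ne' S.ctx) N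
  have hfinD : Finite p.D := Finite.of_injective _ Subtype.val_injective
  have hD4 : 4 ≤ Nat.card p.D := by
    have h1 : Nat.card p.D ≠ 2 := fun h => TwoA.false_of_pair p hO' hbig h
    obtain ⟨k, hk⟩ : ∃ k : ℕ, Nat.card p.D = 2 ^ k := by
      have hfd : Module.Finite (ZMod 2) p.D := Module.Finite.of_finite
      exact ⟨Module.finrank (ZMod 2) p.D, by
        rw [Module.natCard_eq_pow_finrank (K := ZMod 2) (V := p.D), Nat.card_zmod]⟩
    have h2 : 1 < Nat.card p.D := by
      rw [Finite.one_lt_card_iff_nontrivial]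
      exact ⟨⟨p.va, p.va_mem_D⟩, 0, fun h => p.va_ne (congrArg Subtype.val h)⟩
    rcases Nat.lt_or_ge k 2 with h3 | h3
    · interval_cases k
      · rw [hk] at h2; omega
      · exact absurd hk h1
    · rw [hk]
      calc 4 = 2 ^ 2 := by norm_num
        _ ≤ 2 ^ k := Nat.pow_le_pow_right (by norm_num) h3
  have hfr : 8 ≤ Module.finrank (ZMod 2) p.lz.V := by
    have hfd : Module.Finite (ZMod 2) p.lz.V := Module.Finite.of_finite
    have h1 := Module.natCard_eq_pow_finrank (K := ZMod 2) (V := p.lz.V)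
    rw [hcV', Nat.card_zmod] at h1
    have h2 := Nat.pow_right_injective (le_refl 2) h1
    have h3 : 2 * w = Module.finrank (ZMod 2) p.lz.V := h2
    omega
  have hA : ¬ AllSg p := fun hS => WideIrr.SgKill.false_of_allSg hidx p hfr hI hS hD4
  have hRR := TCL.pair_RR p hirr' hA
  have hD := TCL.card_D p hirr' hRR hcQ
  have hN := TCL.noSg p hirr' hRR
  exact ⟨S.ctx, hw, p, hO', hcQ, hirr', hD, hN⟩

end Cfsg.Agent.Omega.EH3.SitAll
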