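import Cfsg.Agent.Omega.EH3.Main
import Cfsg.Agent.Omega.EH3.Irr.Main
import Cfsg.Agent.Omega.EH3.CentIrr

/-!
# EH3: `V|L` is irreducible in the situation [2d], and `|C_H(L)|` is 1 or 3 (helper586)
-/

set_option autoImplicit false

namespace Cfsg.Agent.Omega.EH3.SitIrr

open Cfsg Subgroup Cfsg.Agent.Omega.Frame Cfsg.Agent.Omega.EH3.Main
open scoped commutatorElement

universe u

theorem perfect_of {H : Type*} [Group H] {L : Subgroup H} (h : commutator L = ⊤) : ⁅L, L⁆ = L := by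
  have h2 : (⁅(⊤ : Subgroup L), (⊤ : Subgroup L)⁆).map L.subtype = (⊤ : Subgroup L).map L.subtype := by
    rw [← _root_.commutator_def, h]
  rw [map_commutator, ← MonoidHom.range_eq_map, range_subtype] at h2
  exact h2

theorem ne_bot_of {H : Type*} [Group H] {L : Subgroup H} (h : IsSimpleGroup (L ⧸ center L)) : L ≠ ⊥ := by
  rintro rfl
  obtain ⟨x, y, hxy⟩ := h.exists_pair_ne
  apply hxy
  obtain ⟨x, rfl⟩ := QuotientGroup.mk_surjective x
  obtain ⟨y, rfl⟩ := QuotientGroup.mk_surjective y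
  rw [Subsingleton.elim x y]

variable {G : Type u} [Group G] [Finite G] {Q A : Subgroup G} {z a : G} {w : ℕ}

/-- `V|L` is irreducible in the situation [2d] -/
theorem irr (S : Sit Q A z a w) {L : Subgroup S.pair.H} (hLn : L.Normal) (hLq : IsQuasisimple L)
    (h4 : S.X ⊓ centralizer (L : Set S.pair.H) = ⊥) : Irr.Shape.Ir S.ρ L :=
  Irr.irr S.cfg hLn (perfect_of (commutator_eq_top hLq)) (ne_bot_of (simple_of_quasisimple hLq).1) h4

/-- `|C_H(L)|` is 1 or 3 -/
theorem card_cent (S : Sit Q A z a w) {L : Subgroup S.pair.H} (hLn : L.Normal) (hLq : IsQuasisimple L)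
    (h4 : S.X ⊓ centralizer (L : Set S.pair.H) = ⊥) :
    Nat.card (centralizer (L : Set S.pair.H)) = 1 ∨ Nat.card (centralizer (L : Set S.pair.H)) = 3 :=
  CentIrr.card_cent S.cfg hLn (irr S hLn hLq h4)

end Cfsg.Agent.Omega.EH3.SitIrr
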