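import Cfsg.Agent.Omega.FrameExtra
import Cfsg.Agent.Omega.ExitsThree
import Cfsg.Agent.Omega.EH3.Of
import Cfsg.Agent.Omega.Node.LargeOf
import Cfsg.Agent.LargeExtra.SiegelOrbit
import Cfsg.Agent.LargeExtra.WN7
import Cfsg.Agent.S1616
import Cfsg.Agent.S0215
import Cfsg.Agent.S1180

/-!
# EH3: from a large extraspecial involution centralizer to a pair (helper807)

`Exits.Extra z n` : `F*(C_G(z)) = O₂(C_G(z))` is
extraspecial of order `2^(2n+1)`.

* `large`, `o2`, `card_Q` : the language of `Cfsg.Agent.LargeExtra`;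
* `irr_of_irr` : irreducibility of `C_G(z)` on `V = Q/⟨z⟩` from the third alternative of S1761 (helper888, helper754);
* `known_of_wc` : if `z` is weakly closed in `Q`, `n ≥ 5`, then `G` is known (WCN of helper888 and S1616);
* `exists_pair` : otherwise there is a `Pair`.
-/

set_option autoImplicit false

namespace Cfsg.Agent.Omega.EH3.Start

open Cfsg Subgroup Cfsg.Agent.Co2Type.Quad Cfsg.Agent.LargeExtra Cfsg.Agent.LargeExtra.Base
open Cfsg.Agent.LargeExtra.SiegelOrbit (O2)

universe u

open Cfsg.Agent.Omega.Frame (Ctx Cls)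

/-- A finite non-abelian simple group has no isolated involution (by the `Z*`-theorem). -/
theorem not_isolated {G : Type*} [Group G] [Finite G] [IsSimpleGroup G] (t : G) (hiso : Cfsg.IsIsolatedInvolution t)
    (hnc : ∃ a b : G, a * b ≠ b * a) : False := by
  have : Fact (Nat.Prime 2) := ⟨Nat.prime_two⟩
  have hp : IsPGroup 2 (zpowers t) := by
    apply IsPGroup.of_card (n := 1)
    rw [Nat.card_zpowers, hiso.1, pow_one]
  obtain ⟨P, hP⟩ := hp.exists_le_sylow
  have htP : t ∈ P := hP (mem_zpowers t)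
  obtain ⟨N, hN, hodd, hcomm⟩ := Cfsg.Agent.S0215.result P t hiso.1 htP
    (fun g hg => Cfsg.Agent.S1180.eq_of_conj_mem_isPGroup t hiso (P : Subgroup G) P.2 htP g hg)
  rcases hN.eq_bot_or_eq_top with h | h
  · -- `t` is central
    have hcen : ∀ g : G, t * g = g * t := by
      intro g
      have := hcomm g
      rw [h, mem_bot] at this
      have h1 : t * g * t⁻¹ = g := by
        have := mul_inv_eq_one.mp this
        exact this
      rw [mul_inv_eq_iff_eq_mul] at h1
      exact h1
    have htc : t ∈ center G := by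
      rw [mem_center_iff]; intro g; exact (hcen g).symm
    rcases (inferInstance : (center G).Normal).eq_bot_or_eq_top with hc | hc
    · rw [hc, mem_bot] at htc
      have := hiso.1
      rw [htc, orderOf_one] at this
      omega
    · obtain ⟨a, b, hab⟩ := hnc
      apply hab
      have : b ∈ center G := by rw [hc]; trivial
      exact (mem_center_iff.mp this a)
  · rw [h, card_top] at hodd
    have h2 : 2 ∣ Nat.card G := by
      rw [← hiso.1]; exact orderOf_dvd_natCard t
    exact (Nat.not_even_iff_odd.mpr hodd) (even_iff_two_dvd.mpr h2)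

section

variable {G : Type u} [Group G]

theorem exists_ne' [Finite G] (h : Ctx G) : ∃ a b : G, a * b ≠ b * a := by
  by_contra hcon
  push Not at hcon
  exact h.nonComm ⟨⟨hcon⟩⟩

/-- `Q = O₂(C_G(z)) = F*(C_G(z))`, as a subgroup of `G`. -/
abbrev Qz (z : G) : Subgroup G := ZN.o2 (centralizer ({z} : Set G))

variable [Finite G] {z : G} {n : ℕ}

theorem large (h2 : IsCharacteristicTwoType G) (h : Exits.Extra z n) : Large (Qz z) z :=
  Node.LargeOf.large h2 h

theorem o2 (h2 : IsCharacteristicTwoType G) (h : Exits.Extra z n) : O2 (large h2 h) :=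
  SiegelOrbit.o2_of_genFitting _ (by rw [Exits.genFitting_centralizer h2 h.ord]; rfl)

theorem card_Q (h : Exits.Extra z n) : Nat.card (Qz z) = 2 ^ (2 * n + 1) := Node.LargeOf.card_o2 h

theorem card_V (h2 : IsCharacteristicTwoType G) (h : Exits.Extra z n) :
    Nat.card (large h2 h).V = 2 ^ (2 * n) := by
  have h1 := (large h2 h).card_eq
  rw [card_Q h, pow_succ] at h1
  omega

theorem irr_of_irr (h2 : IsCharacteristicTwoType G) (h : Exits.Extra z n) (hi : Exits.Irr z) :
    IrrC (large h2 h) := Node.LargeOf.irrC _ hi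

/-! ### the weakly closed case -/

/-- The symplectic and unitary outputs of S1616. -/
theorem known_sp_psu (hna : ¬ IsMulCommutative G) [IsSimpleGroup G] (h32 : 32 ∣ Nat.card G)
    (h : (∃ n : ℕ, Nonempty (G ≃* Matrix.symplecticGroup (Fin n) (ZMod 2))) ∨
      ∃ (F : Type) (_ : Field F) (_ : Fintype F) (n : ℕ), Fintype.card F = 4 ∧ Nonempty (G ≃* Cfsg.PSU n F 2)) :
    IsKnownSimple' G := by
  have hZ := Exits.center_eq_bot hna
  rcases h with ⟨n, ⟨e⟩⟩ | ⟨F, i, j, n, hF, ⟨e⟩⟩
  · have hc : Nat.card G = 2 ^ (n ^ 2) * ∏ i ∈ Finset.range n, (2 ^ (2 * (i + 1)) - 1) := by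
      rw [Nat.card_congr e.toEquiv, LieClassical.SympCount.card_symplecticGroup, ZMod.card]
    rcases Nat.lt_or_ge n 3 with hn | hn
    · exfalso
      interval_cases n
      · rw [hc] at h32
        exact absurd h32 (by decide)
      · rw [hc] at h32
        simp at h32
      · rw [hc] at h32
        simp [Finset.prod_range_succ] at h32
    · exact Exits.known_sp hn (Exits.quot_center e hZ)
  · rcases Nat.lt_or_ge n 4 with hn | hn
    · exfalso
      have h4 : Fintype.card F = 2 ^ 2 := by rw [hF]; norm_num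
      rcases Nat.lt_or_ge n 2 with hn2 | hn2
      · have : Subsingleton (Matrix.SpecialLinearGroup (Fin n) F) := by
          have : Subsingleton (Fin n) := by
            interval_cases n <;> infer_instance
          infer_instance
        have h5 : Nat.card G = 1 := by
          rw [Nat.card_congr e.toEquiv]
          have : Subsingleton (Cfsg.SU n F 2) := inferInstance
          have : Subsingleton (Cfsg.PSU n F 2) := Quotient.instSubsingletonQuotient _
          exact Nat.card_unique
        rw [h5] at h32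
        omega
      · have h5 := Cfsg.Agent.S0280.result h4 n hn2
        rw [← Nat.card_congr e.toEquiv] at h5
        interval_cases n
        · simp [Finset.prod_range_succ] at h5
          omega
        · simp [Finset.prod_range_succ] at h5
          omega
    · exact Exits.known_u hn (by rw [hF]; norm_num) ⟨e⟩

/-- `z` commutes with another conjugate (`Z*`-theorem). -/
theorem exists_comm (h : Ctx G) (hz : orderOf z = 2) :
    ∃ g : G, Commute z (g * z * g⁻¹) ∧ g * z * g⁻¹ ≠ z := by
  by_contra hcon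
  push Not at hcon
  have := h.simple
  exact not_isolated z ⟨hz, fun g hg => hcon g hg⟩ (exists_ne' h)

/-- the conjugates of `z` commuting with `z` -/
def Dz (z : G) : Set G := {y : G | y ∈ WCIrr.cls z ∧ y ≠ z ∧ Commute z y}

omit [Finite G] in
theorem closure_le_cent (z : G) : Subgroup.closure (Dz z) ≤ centralizer ({z} : Set G) := by
  rw [closure_le]
  rintro y ⟨-, -, h⟩
  exact mem_centralizer_singleton_iff.2 h.symm.eq

omit [Finite G] in
theorem closure_conj {c : G} (hc : c * z = z * c) {y : G} (hy : y ∈ Subgroup.closure (Dz z)) :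
    c * y * c⁻¹ ∈ Subgroup.closure (Dz z) := by
  have hcz : c⁻¹ * z * c = z := by
    rw [mul_assoc, ← hc]
    group
  induction hy using Subgroup.closure_induction with
  | mem y hy =>
    obtain ⟨⟨g, rfl⟩, h1, h2⟩ := hy
    apply Subgroup.subset_closure
    refine ⟨⟨c * g, by group⟩, ?_, ?_⟩
    · intro h3
      apply h1
      calc g * z * g⁻¹ = c⁻¹ * (c * (g * z * g⁻¹) * c⁻¹) * c := by group
        _ = z := by rw [h3, hcz]
    · show z * (c * (g * z * g⁻¹) * c⁻¹) = c * (g * z * g⁻¹) * c⁻¹ * z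
      have h3 : z * c = c * z := hc.symm
      have h4 : c⁻¹ * z = z * c⁻¹ := by
        calc c⁻¹ * z = c⁻¹ * z * c * c⁻¹ := by group
          _ = z * c⁻¹ := by rw [hcz]
      calc z * (c * (g * z * g⁻¹) * c⁻¹) = z * c * (g * z * g⁻¹) * c⁻¹ := by group
        _ = c * (z * (g * z * g⁻¹)) * c⁻¹ := by rw [h3]; group
        _ = c * ((g * z * g⁻¹) * z) * c⁻¹ := by rw [h2.eq]
        _ = c * (g * z * g⁻¹) * (z * c⁻¹) := by group
        _ = c * (g * z * g⁻¹) * c⁻¹ * z := by rw [← h4]; group
  | one => rw [mul_one, mul_inv_cancel]; exact one_mem _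
  | mul x y _ _ hx hy =>
    have : c * (x * y) * c⁻¹ = (c * x * c⁻¹) * (c * y * c⁻¹) := by group
    rw [this]
    exact mul_mem hx hy
  | inv x _ hx =>
    have : c * x⁻¹ * c⁻¹ = (c * x * c⁻¹)⁻¹ := by group
    rw [this]
    exact inv_mem hx

/-- In the weakly closed case the 2-core of `⟨D_z⟩` is not central. -/
theorem pCore_not_le (h : Ctx G) {Q : Subgroup G} (L : Large Q z) (hO : O2 L)
    (hwc : ∀ g : G, g * z * g⁻¹ ∈ Q → g * z * g⁻¹ = z) :
    ¬ pCore 2 ↥(Subgroup.closure (Dz z)) ≤ center ↥(Subgroup.closure (Dz z)) := by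
  intro hcen
  have hp2 : Fact (Nat.Prime 2) := ⟨Nat.prime_two⟩
  set K := Subgroup.closure (Dz z) with hK
  have hKC : ∀ x ∈ K, x * z = z * x := fun x hx =>
    mem_centralizer_singleton_iff.1 (closure_le_cent z hx)
  have hQC : ∀ q ∈ Q, q * z = z * q := fun q hq => L.comm_z q hq
  -- `K ∩ Q` is central in `K`
  have h1 : ∀ q ∈ Q, q ∈ K → ∀ y ∈ K, q * y = y * q := by
    have hn : ((K ⊓ Q).subgroupOf K).Normal := by
      refine ⟨fun x hx c => ?_⟩
      rw [mem_subgroupOf] at hx ⊢
      exact ⟨K.mul_mem (K.mul_mem c.2 x.2) (K.inv_mem c.2), L.conj_mem c (hKC c c.2) _ hx.2⟩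
    have h2 : IsPGroup 2 ↥((K ⊓ Q).subgroupOf K) := by
      have h3 : IsPGroup 2 ↥(K ⊓ Q) := (Base.isPGroup L).to_le inf_le_right
      exact h3.comap_of_injective K.subtype K.subtype_injective
    intro q hq hqK y hy
    have h3 : (⟨q, hqK⟩ : K) ∈ pCore 2 ↥K := by
      have h4 : (K ⊓ Q).subgroupOf K ≤ pCore 2 ↥K := by
        exact le_sSup ⟨hn, h2⟩
      exact h4 (mem_subgroupOf.2 ⟨hqK, hq⟩)
    have h5 := mem_center_iff.1 (hcen h3) ⟨y, hy⟩
    exact (congrArg Subtype.val h5).symm
  -- commutators of `K` lie in `{1, z}`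
  have hcom : ∀ x ∈ K, ∀ y ∈ K, x * y * x⁻¹ * y⁻¹ = 1 ∨ x * y * x⁻¹ * y⁻¹ = z := by
    have hcq : ∀ x ∈ K, ∀ q ∈ Q, x * q * x⁻¹ * q⁻¹ ∈ Q ∧ x * q * x⁻¹ * q⁻¹ ∈ K := by
      intro x hx q hq
      refine ⟨mul_mem (L.conj_mem x (hKC x hx) q hq) (inv_mem hq), ?_⟩
      have : x * q * x⁻¹ * q⁻¹ = x * (q * x⁻¹ * q⁻¹) := by group
      rw [this]
      exact mul_mem hx (closure_conj (hQC q hq) (inv_mem hx))
    have hmul : ∀ x ∈ K, ∀ y ∈ K, ∀ q ∈ Q,
        (x * y) * q * (x * y)⁻¹ * q⁻¹ = (y * q * y⁻¹ * q⁻¹) * (x * q * x⁻¹ * q⁻¹) := by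
      intro x hx y hy q hq
      obtain ⟨hy1, hy2⟩ := hcq y hy q hq
      have e := h1 _ hy1 hy2 x hx
      calc (x * y) * q * (x * y)⁻¹ * q⁻¹ = x * (y * q * y⁻¹ * q⁻¹) * (q * x⁻¹ * q⁻¹) := by group
        _ = (y * q * y⁻¹ * q⁻¹) * x * (q * x⁻¹ * q⁻¹) := by rw [e]
        _ = _ := by group
    intro x hx y hy
    have hxy : x * y * x⁻¹ * y⁻¹ ∈ K := mul_mem (mul_mem (mul_mem hx hy) (inv_mem hx)) (inv_mem hy)
    have hone : ∀ q ∈ Q, (x * y * x⁻¹ * y⁻¹) * q = q * (x * y * x⁻¹ * y⁻¹) := by
      intro q hq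
      have hc : ∀ s ∈ K, ∀ t ∈ K, (s * q * s⁻¹ * q⁻¹) * (t * q * t⁻¹ * q⁻¹) =
          (t * q * t⁻¹ * q⁻¹) * (s * q * s⁻¹ * q⁻¹) := fun s hs t ht =>
        h1 _ (hcq s hs q hq).1 (hcq s hs q hq).2 _ (hcq t ht q hq).2
      have hinv : ∀ s ∈ K, (s⁻¹ * q * s⁻¹⁻¹ * q⁻¹) = (s * q * s⁻¹ * q⁻¹)⁻¹ := by
        intro s hs
        have := hmul s⁻¹ (inv_mem hs) s hs q hq
        rw [inv_mul_cancel, one_mul, inv_one, mul_one, mul_inv_cancel] at this
        exact (inv_eq_of_mul_eq_one_right this.symm).symm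
      have e1 := hmul (x * y * x⁻¹) (mul_mem (mul_mem hx hy) (inv_mem hx)) y⁻¹ (inv_mem hy) q hq
      have e2 := hmul (x * y) (mul_mem hx hy) x⁻¹ (inv_mem hx) q hq
      have e3 := hmul x hx y hy q hq
      rw [e2, e3, hinv x hx, hinv y hy] at e1
      have e4 : (x * y * x⁻¹ * y⁻¹) * q * (x * y * x⁻¹ * y⁻¹)⁻¹ * q⁻¹ = 1 := by
        rw [e1]
        have e5 := hc x hx y hy
        generalize x * q * x⁻¹ * q⁻¹ = s at *
        generalize y * q * y⁻¹ * q⁻¹ = t at *
        calc t⁻¹ * (s⁻¹ * (t * s)) = t⁻¹ * s⁻¹ * (s * t) := by rw [e5]; group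
          _ = 1 := by group
      rw [mul_inv_eq_one, mul_inv_eq_iff_eq_mul] at e4
      exact e4
    have hz1 := hKC _ hxy
    exact L.cent _ (L.self _ hz1 hone) hone
  -- `K` is a 2-group
  have hsq : ∀ x ∈ K, x * x = 1 ∨ x * x = z := by
    intro x hx
    induction hx using Subgroup.closure_induction with
    | mem y hy =>
      left
      obtain ⟨⟨g, rfl⟩, -, -⟩ := hy
      calc g * z * g⁻¹ * (g * z * g⁻¹) = g * (z * z) * g⁻¹ := by group
        _ = 1 := by rw [L.z_sq]; group
    | one => left; rw [one_mul]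
    | mul x y hx hy h1 h2 =>
      have hxz := hKC x hx
      have hyz := hKC y hy
      have e : (x * y) * (x * y) = (x * x) * (y * y) ∨ (x * y) * (x * y) = (x * x) * (y * y) * z := by
        rcases hcom y hy x hx with h3 | h3
        · left
          have h4 : y * x = x * y := by rw [mul_inv_eq_one, mul_inv_eq_iff_eq_mul] at h3; exact h3
          calc (x * y) * (x * y) = x * (y * x) * y := by group
            _ = _ := by rw [h4]; group
        · right
          have h4 : y * x = z * x * y := by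
            rw [mul_inv_eq_iff_eq_mul, mul_inv_eq_iff_eq_mul] at h3
            exact h3
          calc (x * y) * (x * y) = x * (y * x) * y := by group
            _ = x * (z * x * y) * y := by rw [h4]
            _ = (x * z) * x * (y * y) := by group
            _ = z * (x * x * (y * y)) := by rw [hxz]; group
            _ = (x * x) * (y * y) * z := by
              have h5 : x * x * (y * y) ∈ K := mul_mem (mul_mem hx hx) (mul_mem hy hy)
              exact (hKC _ h5).symm
      rcases e with e | e <;> rw [e] <;> rcases h1 with h1 | h1 <;> rcases h2 with h2 | h2 <;> rw [h1, h2] <;>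
        simp [L.z_sq]
    | inv x hx h1 =>
      have e : x⁻¹ * x⁻¹ = (x * x)⁻¹ := by group
      rw [e]
      rcases h1 with h1 | h1 <;> rw [h1]
      · left; exact inv_one
      · right; exact L.z_inv
  -- `K ≤ Q`
  have hKQ : ∀ x ∈ K, x ∈ Q := by
    intro x hx
    have hn : (K.subgroupOf (centralizer ({z} : Set G))).Normal := by
      refine ⟨fun y hy c => ?_⟩
      rw [mem_subgroupOf] at hy ⊢
      exact closure_conj (mem_centralizer_singleton_iff.1 c.2) hy
    have h2 : IsPGroup 2 ↥(K.subgroupOf (centralizer ({z} : Set G))) := by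
      intro y
      refine ⟨2, ?_⟩
      apply Subtype.ext
      apply Subtype.ext
      show ((y : centralizer ({z} : Set G)) : G) ^ 2 ^ 2 = 1
      have h3 := hsq _ (mem_subgroupOf.1 y.2)
      generalize ((y : centralizer ({z} : Set G)) : G) = x at h3
      have e : x ^ 2 ^ 2 = (x * x) * (x * x) := by
        rw [show (2 ^ 2 : ℕ) = 2 * 2 from rfl, pow_mul, pow_two, pow_two]
      rw [e]
      rcases h3 with h3 | h3 <;> rw [h3]
      · rw [one_mul]
      · exact L.z_sq
    exact hO _ hn h2 ⟨x, closure_le_cent z hx⟩ (mem_subgroupOf.2 hx)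
  obtain ⟨g, hg1, hg2⟩ := exists_comm h (Base.orderOf_z L)
  exact hg2 (hwc g (hKQ _ (Subgroup.subset_closure ⟨⟨g, rfl⟩, hg2, hg1⟩)))

/-- **The weakly closed case** is closed. -/
theorem known_of_wc (h : Ctx G) {Q : Subgroup G} (L : Large Q z) (hO : O2 L)
    (hQ : 2 ^ 11 ≤ Nat.card Q) (hwc : ∀ g : G, g * z * g⁻¹ ∈ Q → g * z * g⁻¹ = z) : IsKnownSimple' G := by
  have := h.simple
  have hthree := WCIrr.isThree_of_wc h.nonComm L hQ hwc
  refine known_sp_psu h.nonComm (Exits.dvd_card h.rank) (Cfsg.Agent.S1616.result ?_ ?_ hthree z ⟨1, by group⟩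
    (pCore_not_le h L hO hwc))
  · intro N hN hs
    rcases hN.eq_bot_or_eq_top with h1 | h1
    · exact h1
    · exfalso
      subst h1
      have h2 : Group.IsSolvable G :=
        Group.isSolvable_of_surjective (f := (Subgroup.topEquiv (G := G)).toMonoidHom) (Subgroup.topEquiv).surjective
      exact h.nonComm ⟨⟨fun a b => (IsSimpleGroup.comm_iff_isSolvable.mpr h2) a b⟩⟩
  · have h1 : commutator G = ⊤ := by
      rcases (inferInstance : (commutator G).Normal).eq_bot_or_eq_top with h1 | h1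
      · exfalso
        refine h.nonComm ⟨⟨fun a b => ?_⟩⟩
        rw [commutator_def, Subgroup.commutator_eq_bot_iff_le_centralizer] at h1
        exact (mem_centralizer_iff.mp (h1 (mem_top a)) b (mem_top b)).symm
      · exact h1
    rw [h1, ← commutator_def, h1]

/-- Otherwise there is a pair. -/
theorem exists_pair {Q : Subgroup G} (L : Large Q z)
    (hwc : ¬ ∀ g : G, g * z * g⁻¹ ∈ Q → g * z * g⁻¹ = z) :
    ∃ (A : Subgroup G) (a : G), Pair Q z A a := by
  push Not at hwc
  obtain ⟨g, hg1, hg2⟩ := hwc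
  exact ⟨_, _, pair_of_conj L hg1 hg2⟩

end

/-- **The leaf `LeafWC`** (WCN of helper888; S1616). -/
theorem leafWC (K : Cls.{u}) : FrameExtra.LeafWC K := by
  intro G _ _ hG _ z n hn h _ hwc
  refine known_of_wc hG (large hG.char2 h) (o2 hG.char2 h) ?_ hwc
  rw [card_Q h]
  exact Nat.pow_le_pow_right (by norm_num) (by omega)

end Cfsg.Agent.Omega.EH3.Start
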